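import Mathlib

/-!
Quadratic spaces of dimension four and six over the field of two elements, the translations fixing a
singular point, and the permutations of the five singular points of the elliptic four-dimensional space.
-/

set_option autoImplicit false
set_option maxHeartbeats 1000000
set_option linter.style.longLine false
set_option synthInstance.maxSize 8000
set_option synthInstance.maxHeartbeats 1000000

namespace CfsgLib.SuzType

abbrev W := (ZMod 2 × ZMod 2) × (ZMod 2 × ZMod 2)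
abbrev V := (ZMod 2 × ZMod 2) × W

/-- The bilinear form on the four-dimensional space. -/
def BW (a b : W) : ZMod 2 := a.1.1 * b.1.2 + a.1.2 * b.1.1 + (a.2.1 * b.2.2 + a.2.2 * b.2.1)

/-- The quadratic forms on the four-dimensional space (`e = 1` is the elliptic one). -/
def qW (e : ZMod 2) (a : W) : ZMod 2 := a.1.1 * a.1.2 + (a.2.1 * a.2.2 + e * (a.2.1 + a.2.2))

/-- The bilinear form on the six-dimensional space. -/
def B (a b : V) : ZMod 2 := a.1.1 * b.1.2 + a.1.2 * b.1.1 + BW a.2 b.2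

/-- The quadratic forms on the six-dimensional space. -/
def qV (e : ZMod 2) (a : V) : ZMod 2 := a.1.1 * a.1.2 + qW e a.2

/-- The base singular point. -/
def x0 : V := ((1, 0), 0)
/-- Its hyperbolic partner. -/
def f0 : V := ((0, 1), 0)

theorem addV (a : V) : a + a = 0 := by revert a; decide +kernel
theorem negV (a : V) : -a = a := neg_eq_of_add_eq_zero_left (addV a)
theorem addW (a : W) : a + a = 0 := by revert a; decide +kernel
theorem zcases : ∀ a : ZMod 2, a = 0 ∨ a = 1 := by decide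
theorem sq2 : ∀ a : ZMod 2, a * a = a := by decide

theorem BW_add_right (a b c : W) : BW a (b + c) = BW a b + BW a c := by
  simp only [BW, Prod.fst_add, Prod.snd_add]; ring
theorem BW_add_left (a b c : W) : BW (a + b) c = BW a c + BW b c := by
  simp only [BW, Prod.fst_add, Prod.snd_add]; ring
theorem BW_comm (a b : W) : BW a b = BW b a := by simp only [BW]; ring
theorem B_add_right (a b c : V) : B a (b + c) = B a b + B a c := by
  simp only [B, BW_add_right, Prod.fst_add, Prod.snd_add]; ring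
theorem B_comm (a b : V) : B a b = B b a := by simp only [B, BW_comm a.2]; ring
theorem B_add_left (a b c : V) : B (a + b) c = B a c + B b c := by
  rw [B_comm, B_add_right, B_comm c, B_comm c]

theorem qW_add (e : ZMod 2) (a b : W) : qW e (a + b) = qW e a + qW e b + BW a b := by
  simp only [qW, BW, Prod.fst_add, Prod.snd_add]; ring

theorem qV_add (e : ZMod 2) (a b : V) : qV e (a + b) = qV e a + qV e b + B a b := by
  simp only [qV, B, qW_add, Prod.fst_add, Prod.snd_add]; ring

theorem qV_zero : ∀ e, qV e 0 = 0 := by decide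

theorem qW_zero : ∀ e, qW e 0 = 0 := by decide

theorem dual (δ : V → ZMod 2) (hδ : ∀ a b, δ (a + b) = δ a + δ b) :
    ∃ w : V, ∀ v, δ v = B v w := by
  let φ : V →+ ZMod 2 := AddMonoidHom.mk' δ hδ
  refine ⟨((φ ((0, 1), 0), φ ((1, 0), 0)), ((φ ((0, 0), ((0, 1), 0)), φ ((0, 0), ((1, 0), 0))),
    (φ ((0, 0), (0, (0, 1))), φ ((0, 0), (0, (1, 0)))))), fun v => ?_⟩
  obtain ⟨⟨a, b⟩, ⟨c, d⟩, g, h⟩ := v
  have key : ((a, b), ((c, d), (g, h))) = a • ((1, 0), 0) + b • ((0, 1), 0) + c • ((0, 0), ((1, 0), 0)) +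
      d • ((0, 0), ((0, 1), 0)) + g • ((0, 0), (0, (1, 0))) + h • ((0, 0), (0, (0, 1))) := by
    rcases zcases a with rfl | rfl <;> rcases zcases b with rfl | rfl <;>
      rcases zcases c with rfl | rfl <;> rcases zcases d with rfl | rfl <;>
      rcases zcases g with rfl | rfl <;> rcases zcases h with rfl | rfl <;> decide
  have hs : ∀ (t : ZMod 2) (x : V), φ (t • x) = t * φ x := by
    intro t x
    rcases zcases t with rfl | rfl <;> simp
  show φ _ = _
  conv_lhs => rw [key]
  simp only [map_add, hs, B, BW]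
  ring

/-- The translations fixing the base point: `u` gives the map trivial on the residue space. -/
def E (e : ZMod 2) (u : W) (v : V) : V :=
  ((v.1.1 + BW u v.2 + v.1.2 * qW e u, v.1.2), v.2 + v.1.2 • u)

/-- The residue space inside the six-dimensional space. -/
def inj (w : W) : V := (0, w)

theorem E_add (e : ZMod 2) (u : W) (a b : V) : E e u (a + b) = E e u a + E e u b := by
  simp only [E, BW_add_right, Prod.fst_add, Prod.snd_add, add_smul, Prod.mk_add_mk]
  refine Prod.ext (Prod.ext ?_ rfl) ?_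
  · dsimp; ring
  · dsimp; abel

theorem E_E (e : ZMod 2) : ∀ u u' : W, ∀ v : V, v ∈ ([((1, 0), 0), ((0, 1), 0), ((0, 0), ((1, 0), 0)),
    ((0, 0), ((0, 1), 0)), ((0, 0), (0, (1, 0))), ((0, 0), (0, (0, 1)))] : List V) →
    E e u (E e u' v) = E e (u + u') v := by
  rcases zcases e with rfl | rfl <;> decide +kernel

theorem E_zero : ∀ e : ZMod 2, ∀ v : V, E e 0 v = v := by decide +kernel

theorem tail_E (e : ZMod 2) (u : W) (v : V) : (E e u v).2 = v.2 + v.1.2 • u := rfl

/-- Two additive maps agreeing on a basis agree. -/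
theorem ext_basis {f g : V → V} (hf : ∀ a b, f (a + b) = f a + f b) (hg : ∀ a b, g (a + b) = g a + g b)
    (hx : f x0 = g x0) (hf0 : f f0 = g f0) (hw : ∀ w, f (inj w) = g (inj w)) : f = g := by
  funext v
  let F : V →+ V := AddMonoidHom.mk' f hf
  let H : V →+ V := AddMonoidHom.mk' g hg
  show F v = H v
  obtain ⟨⟨a, b⟩, w⟩ := v
  have key : (((a, b), w) : V) = a • x0 + b • f0 + inj w := by
    rcases zcases a with rfl | rfl <;> rcases zcases b with rfl | rfl <;> simp [x0, f0, inj]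
  have hs : ∀ (K : V →+ V) (t : ZMod 2) (x : V), K (t • x) = t • K x := by
    intro K t x
    rcases zcases t with rfl | rfl <;> simp
  rw [key, map_add, map_add, map_add, map_add, hs, hs, hs, hs]
  show a • f x0 + b • f f0 + f (inj w) = a • g x0 + b • g f0 + g (inj w)
  rw [hx, hf0, hw]

theorem f_image (e : ZMod 2) : ∀ p : V, B p x0 = 1 → qV e p = 0 → p = E e p.2 f0 := by
  rcases zcases e with rfl | rfl <;> decide +kernel

theorem inj_image (e : ZMod 2) : ∀ u w : W, ∀ a : ZMod 2, B (E e u f0) ((a, 0), w) = 0 →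
    ((a, 0), w) = E e u (inj w) := by
  rcases zcases e with rfl | rfl <;> decide +kernel

theorem E_x0 : ∀ e : ZMod 2, ∀ u : W, E e u x0 = x0 := by decide +kernel

theorem E_f0_tail : ∀ e : ZMod 2, ∀ u : W, (E e u f0).2 = u := by decide +kernel

/-- Moving a singular point to the base point by two reflections. -/
def refl (a v : V) : V := v + B v a • a

theorem refl_add (a v w : V) : refl a (v + w) = refl a v + refl a w := by
  simp only [refl, B_add_left, add_smul]; abel

theorem refl_refl (a : V) : B a a = 0 → ∀ v, refl a (refl a v) = v := by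
  intro ha v
  rcases zcases (B v a) with h | h <;> simp [refl, h, B_add_left, ha, add_assoc, addV]

theorem B_self : ∀ a : V, B a a = 0 := by decide +kernel

theorem refl_q (e : ZMod 2) (a v : V) (ha : qV e a = 1 ∨ a = 0) : qV e (refl a v) = qV e v := by
  rcases zcases (B v a) with h | h
  · simp [refl, h]
  · rcases ha with ha | rfl
    · simp only [refl, h, one_smul, qV_add, ha, add_assoc]
      rw [show (1 : ZMod 2) + 1 = 0 by decide, add_zero]
    · simp [refl]

theorem move (e : ZMod 2) : ∀ v : V, v ≠ 0 → qV e v = 0 → ∃ a : V, (qV e a = 1 ∨ a = 0) ∧ ∃ b : V,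
    (qV e b = 1 ∨ b = 0) ∧ refl b (refl a v) = x0 := by
  rcases zcases e with rfl | rfl <;> decide +kernel

theorem singular_card : (Finset.univ.filter fun v : V => v ≠ 0 ∧ qV 0 v = 0).card = 35 ∧
    (Finset.univ.filter fun v : V => v ≠ 0 ∧ qV 1 v = 0).card = 27 := by decide +kernel

theorem count_twelve : ∀ w : V, w ≠ 0 → qV 1 w = 0 →
    (Finset.univ.filter fun v : V => B v w = 0 ∧ qV 1 v = 0).card = 12 := by decide +kernel

theorem count_thirtytwo : ∀ w : V, w ≠ 0 → (Finset.univ.filter fun v : V => B v w = 0).card = 32 := by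
  decide +kernel

theorem hyperplane : ∀ w : V, w ≠ 0 → qV 1 w = 0 → ∀ v : V, B v w = 1 → qV 1 (v + w) ≠ qV 1 v := by
  decide +kernel

/-- The five singular points of the elliptic space. -/
def pt : Fin 5 → W :=
  ![((1, 0), 0), ((0, 1), 0), ((1, 1), (1, 0)), ((1, 1), (0, 1)), ((1, 1), (1, 1))]

theorem pt_singular : ∀ i, qW 1 (pt i) = 0 ∧ pt i ≠ 0 := by decide +kernel

theorem pt_exists : ∀ w : W, w ≠ 0 → qW 1 w = 0 → ∃ i, w = pt i := by decide +kernel

theorem pt_injective : Function.Injective pt := by decide +kernel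

/-- Every vector is a sum of singular points. -/
theorem pt_span : ∀ w : W, w = 0 ∨ (∃ i, w = pt i) ∨ ∃ i j, i ≠ j ∧ w = pt i + pt j := by decide +kernel

theorem ext_pt {f g : W → W} (hf : ∀ a b, f (a + b) = f a + f b) (hg : ∀ a b, g (a + b) = g a + g b)
    (h : ∀ i, f (pt i) = g (pt i)) (w : W) : f w = g w := by
  have hf0 : f 0 = 0 := by have := hf 0 0; rw [add_zero] at this; exact left_eq_add.mp this
  have hg0 : g 0 = 0 := by have := hg 0 0; rw [add_zero] at this; exact left_eq_add.mp this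
  rcases pt_span w with rfl | ⟨i, rfl⟩ | ⟨i, j, -, rfl⟩
  · rw [hf0, hg0]
  · exact h i
  · rw [hf, hg, h i, h j]

theorem singular_unique : ∀ a b : W, a ≠ 0 → b ≠ 0 → qW 1 a = 0 → qW 1 b = 0 → BW a b = 0 → a = b := by
  decide +kernel

theorem nonsing_pair : ∀ a : W, qW 1 a = 1 → ∃ i j, i ≠ j ∧ a = pt i + pt j := by decide +kernel

theorem pt_pair_ne : ∀ i j k l, pt i + pt j = pt k + pt l → (i = k ∧ j = l) ∨ (i = l ∧ j = k) ∨ (i = j ∧ k = l) := by
  decide +kernel

theorem triple : ∀ u w : W, qW 1 u = 1 → qW 1 w = 1 → BW u w = 1 →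
    ∃ i j k, i ≠ j ∧ j ≠ k ∧ i ≠ k ∧ u = pt i + pt j ∧ w = pt j + pt k := by decide +kernel

/-- The lift of the double transposition swapping the first two and the middle two points. -/
def L0 (v : V) : V := (v.1, (v.2.1.swap, v.2.2.swap))

theorem L0_spec : (∀ a b, L0 (a + b) = L0 a + L0 b) ∧ (∀ v, L0 (L0 v) = v) ∧
    (∀ v, qV 1 (L0 v) = qV 1 v) ∧ L0 x0 = x0 := by
  refine ⟨fun a b => rfl, fun v => rfl, ?_, rfl⟩
  decide +kernel

theorem L0_pt : ∀ i, (L0 (inj (pt i))).2 = pt ((Equiv.swap (0 : Fin 5) 1 * Equiv.swap (2 : Fin 5) 3) i) := by decide +kernel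

theorem L0_point : ∀ u : W, (∀ v, E 1 u (L0 (E 1 u (L0 v))) = v) →
    ∃ a : V, a ≠ 0 ∧ qV 1 a = 0 ∧ E 1 u (L0 a) = a ∧
      ∀ v, B v a = 0 → E 1 u (L0 v) = v ∨ E 1 u (L0 v) = v + a := by decide +kernel

/-- The chosen pair. -/
def u1 : W := ((1, 1), 0)
def w1 : W := ((1, 0), (1, 0))
def a1 : W := ((1, 1), (0, 1))
def b1 : W := ((1, 1), (1, 1))

theorem base_pair : qW 1 u1 = 1 ∧ qW 1 w1 = 1 ∧ BW u1 w1 = 1 := by decide +kernel

theorem base_perp : BW a1 u1 = 0 ∧ BW a1 w1 = 0 ∧ BW b1 u1 = 0 ∧ BW b1 w1 = 0 ∧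
    qW 1 a1 = 0 ∧ qW 1 b1 = 0 ∧ BW a1 b1 = 1 := by decide +kernel

theorem perp_count : (Finset.univ.filter fun v : V =>
    v.1.2 = 0 ∧ BW v.2 u1 = 0 ∧ BW v.2 w1 = 0).card = 8 := by decide +kernel

/-- The complement of the hyperbolic pair `inj a1, inj b1`. -/
def J (w : W) : V := (w.1, w.2.1 • u1 + w.2.2 • w1)

theorem J_add (a b : W) : J (a + b) = J a + J b := by
  simp only [J, Prod.fst_add, Prod.snd_add, add_smul, Prod.mk_add_mk]
  refine Prod.ext rfl ?_
  dsimp; abel

theorem J_spec : (∀ w, qV 1 (J w) = qW 1 w) ∧ (∀ w, B (J w) (inj a1) = 0 ∧ B (J w) (inj b1) = 0) ∧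
    Function.Injective J ∧ ∀ v : V, B v (inj a1) = 0 → B v (inj b1) = 0 → ∃ w, v = J w := by
  refine ⟨?_, ?_, ?_, ?_⟩ <;> decide +kernel

theorem J_split : ∀ v : V, ∃ (s t : ZMod 2) (w : W), v = s • inj a1 + t • inj b1 + J w := by
  decide +kernel

theorem ew_pair : ∀ s t : ZMod 2, ∃ w : W, BW u1 w = s ∧ BW w1 w = t := by decide +kernel

theorem stab_fix : ∀ (i : Fin 5) (a : W), a ≠ 0 → a ≠ pt i → ∃ j k l : Fin 5,
    j ≠ i ∧ k ≠ i ∧ l ≠ i ∧ j ≠ k ∧ k ≠ l ∧ j ≠ l ∧
      ((a = pt j) ∨ (∃ m, m ≠ k ∧ m ≠ l ∧ m ≠ j ∧ a = pt j + pt m)) := by decide +kernel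

theorem six_images : ∀ i j : Fin 5, i ≠ j →
    6 ≤ ((Finset.univ.filter fun w : W => ∃ a b c : Fin 5, a ≠ b ∧ b ≠ c ∧ a ≠ c ∧
      w = pt ((Equiv.swap a b * Equiv.swap b c) i) + pt ((Equiv.swap a b * Equiv.swap b c) j))).card := by
  decide +kernel

theorem even_three : ∀ i j k : Fin 5, i ≠ j → j ≠ k → i ≠ k →
    ∀ a b c : Fin 5, a ≠ b → b ≠ c → a ≠ c → ∃ π : Equiv.Perm (Fin 5),
      π ∈ alternatingGroup (Fin 5) ∧ π i = a ∧ π j = b ∧ π k = c := by
  intro i j k hij hjk hik a b c hab hbc hac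
  have key : ∀ i j k : Fin 5, i ≠ j → j ≠ k → i ≠ k → ∃ l m : Fin 5, l ≠ m ∧
      l ≠ i ∧ l ≠ j ∧ l ≠ k ∧ m ≠ i ∧ m ≠ j ∧ m ≠ k := by decide +kernel
  have hσ : ∃ σ : Equiv.Perm (Fin 5), σ i = a ∧ σ j = b ∧ σ k = c := by
    let p := Equiv.swap i a
    let r := Equiv.swap (p j) b
    refine ⟨Equiv.swap ((r * p) k) c * (r * p), ?_, ?_, ?_⟩
    · have h1 : r (p i) = a := by
        simp only [p, r, Equiv.swap_apply_left]
        rw [Equiv.swap_apply_of_ne_of_ne _ hab]
        intro h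
        exact hij (p.injective (by simp [p, ← h]))
      show Equiv.swap ((r * p) k) c ((r * p) i) = a
      rw [show (r * p) i = a from h1, Equiv.swap_apply_of_ne_of_ne _ hac]
      intro h
      exact hik ((r * p).injective (by rw [Equiv.Perm.mul_apply, h1, h]))
    · have h1 : r (p j) = b := Equiv.swap_apply_left _ _
      show Equiv.swap ((r * p) k) c ((r * p) j) = b
      rw [show (r * p) j = b from h1, Equiv.swap_apply_of_ne_of_ne _ hbc]
      intro h
      exact hjk ((r * p).injective (by rw [Equiv.Perm.mul_apply, h1, h]))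
    · rw [Equiv.Perm.mul_apply, Equiv.swap_apply_left]
  obtain ⟨σ, h1, h2, h3⟩ := hσ
  rcases Int.units_eq_one_or (Equiv.Perm.sign σ) with h | h
  · exact ⟨σ, Equiv.Perm.mem_alternatingGroup.2 h, h1, h2, h3⟩
  · obtain ⟨l, m, hlm, hli, hlj, hlk, hmi, hmj, hmk⟩ := key i j k hij hjk hik
    refine ⟨σ * Equiv.swap l m, Equiv.Perm.mem_alternatingGroup.2 (by simp [h, hlm]), ?_, ?_, ?_⟩
    · rw [Equiv.Perm.mul_apply, Equiv.swap_apply_of_ne_of_ne hli.symm hmi.symm, h1]
    · rw [Equiv.Perm.mul_apply, Equiv.swap_apply_of_ne_of_ne hlj.symm hmj.symm, h2]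
    · rw [Equiv.Perm.mul_apply, Equiv.swap_apply_of_ne_of_ne hlk.symm hmk.symm, h3]

/-- Candidate images of the standard basis of the hyperbolic four-dimensional space. -/
def plusFrames : Finset (W × W × W × W) :=
  let S : Finset W := Finset.univ.filter fun a => a ≠ 0 ∧ qW 0 a = 0
  S.biUnion fun a => (S.filter fun b => BW a b = 1).biUnion fun b =>
    (S.filter fun c => BW a c = 0 ∧ BW b c = 0).biUnion fun c =>
      (S.filter fun d => BW a d = 0 ∧ BW b d = 0 ∧ BW c d = 1).image fun d => (a, b, c, d)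

theorem plusFrames_card : plusFrames.card = 72 := by decide +kernel

theorem plus_basis : ∀ w : W, w = w.1.1 • (((1, 0), 0) : W) + w.1.2 • ((0, 1), 0) +
    w.2.1 • (0, (1, 0)) + w.2.2 • (0, (0, 1)) := by decide +kernel

end CfsgLib.SuzType
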