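import Mathlib
import Cfsg.Agent.Lib.SuzType.Model

/-! Further finite facts on the small quadratic spaces. -/

set_option autoImplicit false
set_option maxHeartbeats 1000000
set_option synthInstance.maxSize 8000
set_option synthInstance.maxHeartbeats 1000000
set_option linter.style.longLine false

namespace CfsgLib.SuzType

theorem perm_fix_card : ∀ i : Fin 5, (Finset.univ.filter fun π : Equiv.Perm (Fin 5) => π i = i).card = 24 := by
  decide +kernel

theorem separate : ∀ w d : V, d ≠ 0 → d ≠ w → ∃ h : V, B h w = 0 ∧ B h d = 1 := by decide +kernel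

theorem B_partner : ∀ w : V, w ≠ 0 → ∃ v : V, B v w = 1 := by decide +kernel

theorem dualW (δ : W → ZMod 2) (hδ : ∀ a b, δ (a + b) = δ a + δ b) : ∃ a : W, ∀ v, δ v = BW a v := by
  let φ : W →+ ZMod 2 := AddMonoidHom.mk' δ hδ
  refine ⟨((φ ((0, 1), 0), φ ((1, 0), 0)), (φ (0, (0, 1)), φ (0, (1, 0)))), fun v => ?_⟩
  have hs : ∀ (t : ZMod 2) (x : W), φ (t • x) = t * φ x := by
    intro t x
    rcases zcases t with rfl | rfl <;> simp
  show φ v = _
  conv_lhs => rw [plus_basis v]
  simp only [map_add, hs, BW]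
  ring

theorem BW_nondeg : ∀ a b : W, (∀ v, BW a v = BW b v) → a = b := by decide +kernel

theorem zero_line : ∀ v : V, v.1.2 = 0 → v.2 = 0 → v = 0 ∨ v = x0 := by decide +kernel

theorem tail_count : (Finset.univ.filter fun v : V => v.1.2 = 0 ∧ v.2 = 0).card = 2 := by decide +kernel

theorem move_eq : ∀ u : W, ∀ v : V, E 1 u v + v = ((BW u v.2 + v.1.2 * qW 1 u, 0), v.1.2 • u) := by decide +kernel

end CfsgLib.SuzType
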