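import Mathlib
import Cfsg.Agent.Lib.SuzType.Coord

/-!
The stabilizer of a singular point, its action on the residue space, and transitivity of the centralizer on
singular points.
-/

set_option autoImplicit false
set_option linter.style.longLine false

namespace CfsgLib.SuzType

open Subgroup

variable {G : Type*} [Group G] [Finite G] {z : G} {Q : Subgroup G}

theorem Hyp.comm {c : ↥(centralizer ({z} : Set G))} : (c : G) * z = z * c :=
  mem_centralizer_singleton_iff.1 c.2

/-- The centralizer of a point. -/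
abbrev Cz (z : G) : Subgroup G := centralizer ({z} : Set G)

namespace Coord

variable {e : ZMod 2} (K : Coord z Q e) (H : Hyp z Q)


/-- The stabilizer of the base point. -/
def P : Subgroup ↥(Cz z) where
  carrier := {c | K.act (c : G) x0 = x0}
  one_mem' := K.act_one H x0
  mul_mem' := fun {a b} ha hb => by
    show K.act ((a : G) * b) x0 = x0
    rw [K.act_mul H Hyp.comm Hyp.comm, show K.act (b : G) x0 = x0 from hb]
    exact ha
  inv_mem' := fun {a} ha => by
    show K.act (a : G)⁻¹ x0 = x0
    conv_lhs => rw [← show K.act (a : G) x0 = x0 from ha]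
    exact K.act_inv_cancel H Hyp.comm x0

theorem P_fix (c : K.P H) : K.act ((c : ↥(Cz z)) : G) x0 = x0 := c.2

/-- The action on the residue space. -/
noncomputable def res (c : G) (w : W) : W := (K.act c (inj w)).2

include H

theorem perp {c : G} (hc : c * z = z * c) (hx : K.act c x0 = x0) (w : W) : (K.act c (inj w)).1.2 = 0 := by
  have h := K.act_B H hc (inj w) x0
  rw [hx] at h
  simpa [B, x0, inj, BW] using h

theorem act_inj {c : G} (hc : c * z = z * c) (hx : K.act c x0 = x0) (w : W) :
    K.act c (inj w) = (((K.act c (inj w)).1.1, 0), K.res c w) :=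
  Prod.ext (Prod.ext rfl (K.perp H hc hx w)) rfl

theorem res_add {c : G} (hc : c * z = z * c) (a b : W) : K.res c (a + b) = K.res c a + K.res c b := by
  show (K.act c (inj (a + b))).2 = _
  rw [show inj (a + b) = inj a + inj b from Prod.ext (by simp [inj]) rfl, K.act_add H hc]
  rfl

theorem res_q {c : G} (hc : c * z = z * c) (hx : K.act c x0 = x0) (w : W) :
    qW e (K.res c w) = qW e w := by
  have h := K.act_q H hc (inj w)
  rw [K.act_inj H hc hx] at h
  simpa [qV, inj] using h

theorem res_B {c : G} (hc : c * z = z * c) (hx : K.act c x0 = x0) (a b : W) :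
    BW (K.res c a) (K.res c b) = BW a b := by
  have h := K.res_q H hc hx (a + b)
  rw [K.res_add H hc, qW_add, qW_add, K.res_q H hc hx, K.res_q H hc hx] at h
  exact add_left_cancel h

theorem res_perp {c : G} (hc : c * z = z * c) (hx : K.act c x0 = x0) (v : V) (hv : v.1.2 = 0) :
    (K.act c v).2 = K.res c v.2 := by
  obtain ⟨⟨a, b⟩, w⟩ := v
  obtain rfl : b = 0 := hv
  rcases zcases a with rfl | rfl
  · rfl
  · rw [show (((1, 0), w) : V) = x0 + inj w from Prod.ext (by simp [x0, inj]) (by simp [x0, inj]),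
      K.act_add H hc, hx]
    simp [x0, res, inj]

theorem res_mul {c d : G} (hc : c * z = z * c) (hd : d * z = z * d) (hcx : K.act c x0 = x0)
    (hdx : K.act d x0 = x0) (w : W) : K.res (c * d) w = K.res c (K.res d w) := by
  rw [show K.res (c * d) w = (K.act (c * d) (inj w)).2 from rfl, K.act_mul H hc hd,
    K.res_perp H hc hcx _ (K.perp H hd hdx w)]
  rfl

theorem res_one (w : W) : K.res 1 w = w := by simp [res, K.act_one H, inj]

theorem res_mem {x : G} (hx : x ∈ Q) (w : W) : K.res x w = w := by simp [res, K.act_mem H hx, inj]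

theorem res_inv_cancel {c : G} (hc : c * z = z * c) (hx : K.act c x0 = x0) (w : W) :
    K.res c⁻¹ (K.res c w) = w := by
  have hc' : c⁻¹ * z = z * c⁻¹ := (Commute.inv_left hc).eq
  have hx' : K.act c⁻¹ x0 = x0 := by
    conv_lhs => rw [← hx]
    exact K.act_inv_cancel H hc x0
  rw [← K.res_mul H hc' hc hx' hx, inv_mul_cancel, K.res_one H]

/-- The translation parameter. -/
theorem eq_E {c : G} (hc : c * z = z * c) (hx : K.act c x0 = x0) (h : ∀ w, K.res c w = w) :
    K.act c = E e (K.act c f0).2 := by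
  have hf : K.act c f0 = E e (K.act c f0).2 f0 := by
    refine f_image e _ ?_ ?_
    · have := K.act_B H hc f0 x0
      rw [hx] at this
      rw [this]
      decide
    · rw [K.act_q H hc]
      rcases zcases e with rfl | rfl <;> decide
  refine ext_basis (K.act_add H hc) (E_add e _) (by rw [hx, E_x0]) hf fun w => ?_
  have hw := K.act_inj H hc hx w
  rw [h] at hw
  rw [hw]
  refine inj_image e _ w _ ?_
  rw [← hw, ← hf, K.act_B H hc]
  simp [B, f0, inj, BW]

omit H in
theorem tail_of_eq_E {c : G} {u : W} (h : K.act c = E e u) : (K.act c f0).2 = u := by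
  rw [h, E_f0_tail]

/-- The residual action as permutations. -/
noncomputable def resHom : K.P H →* Equiv.Perm W where
  toFun c := Equiv.ofBijective (K.res ((c : ↥(Cz z)) : G)) (Finite.injective_iff_bijective.1
    (Function.LeftInverse.injective (K.res_inv_cancel H Hyp.comm c.2)))
  map_one' := Equiv.ext fun w => K.res_one H w
  map_mul' c d := Equiv.ext fun w => K.res_mul H Hyp.comm Hyp.comm c.2 d.2 w

theorem mem_ker (c : K.P H) : c ∈ (K.resHom H).ker ↔ ∀ w, K.res ((c : ↥(Cz z)) : G) w = w := by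
  rw [MonoidHom.mem_ker, Equiv.ext_iff]
  rfl

/-- The translation parameter on the kernel. -/
noncomputable def uHom : (K.resHom H).ker →* Multiplicative W where
  toFun c := Multiplicative.ofAdd (K.act (((c : K.P H) : ↥(Cz z)) : G) f0).2
  map_one' := by
    show Multiplicative.ofAdd (K.act 1 f0).2 = 1
    rw [K.act_one H]
    rfl
  map_mul' c d := by
    show Multiplicative.ofAdd (K.act ((((c : K.P H) : ↥(Cz z)) : G) * (((d : K.P H) : ↥(Cz z)) : G)) f0).2 =
      Multiplicative.ofAdd ((K.act _ f0).2 + (K.act _ f0).2)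
    have hc := K.eq_E H Hyp.comm (c : K.P H).2 ((K.mem_ker H _).1 c.2)
    have hd := K.eq_E H Hyp.comm (d : K.P H).2 ((K.mem_ker H _).1 d.2)
    rw [K.act_mul H Hyp.comm Hyp.comm]
    congr 1
    conv_lhs => rw [hc, hd]
    rw [tail_E, tail_E]
    show f0.2 + f0.1.2 • _ + (f0.1.2) • _ = _
    simp [f0, add_comm]

theorem uHom_ker (c : (K.resHom H).ker) :
    c ∈ (K.uHom H).ker ↔ (((c : K.P H) : ↥(Cz z)) : G) ∈ Q := by
  rw [MonoidHom.mem_ker]
  show Multiplicative.ofAdd (K.act _ f0).2 = 1 ↔ _
  rw [ofAdd_eq_one]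
  constructor
  · intro h
    refine K.mem_of_act H Hyp.comm fun v => ?_
    rw [K.eq_E H Hyp.comm (c : K.P H).2 ((K.mem_ker H _).1 c.2), h, E_zero]
  · intro h
    rw [K.act_mem H h]
    rfl

theorem card_uHom_ker : Nat.card (K.uHom H).ker = 128 := by
  rw [← H.card]
  refine Nat.card_congr ⟨fun c => ⟨(((c.1 : K.P H) : ↥(Cz z)) : G), (K.uHom_ker H c.1).1 c.2⟩,
    fun x => ⟨⟨⟨⟨x.1, H.hQC x.2⟩, K.act_mem H x.2 x0⟩, (K.mem_ker H _).2 (K.res_mem H x.2)⟩,
      (K.uHom_ker H _).2 x.2⟩, fun c => rfl, fun x => rfl⟩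

theorem card_P : Nat.card (K.P H) =
    128 * Nat.card (K.uHom H).range * Nat.card (K.resHom H).range := by
  rw [Subgroup.card_eq_card_quotient_mul_card_subgroup (K.resHom H).ker,
    Nat.card_congr (QuotientGroup.quotientKerEquivRange (K.resHom H)).toEquiv,
    Subgroup.card_eq_card_quotient_mul_card_subgroup (K.uHom H).ker,
    Nat.card_congr (QuotientGroup.quotientKerEquivRange (K.uHom H)).toEquiv, K.card_uHom_ker H]
  ring

theorem card_urange_le : Nat.card (K.uHom H).range ≤ 16 := by
  refine le_trans (Finite.card_subtype_le _) ?_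
  rw [Nat.card_eq_fintype_card]
  rfl

end Coord

namespace Coord

variable (H : Hyp z Q)
include H

theorem card_range_plus (K : Coord z Q 0) : Nat.card (K.resHom H).range ≤ 72 := by
  classical
  rw [← plusFrames_card, ← Nat.card_eq_finsetCard]
  refine Nat.card_le_card_of_injective
    (fun π => ⟨(π.1 ((1, 0), 0), π.1 ((0, 1), 0), π.1 (0, (1, 0)), π.1 (0, (0, 1))), ?_⟩) ?_
  · obtain ⟨_, ⟨c, rfl⟩⟩ := π
    have hq := K.res_q H (Hyp.comm (c := (c : ↥(centralizer ({z} : Set G))))) c.2
    have hB := K.res_B H (Hyp.comm (c := (c : ↥(centralizer ({z} : Set G))))) c.2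
    have hne : ∀ w : W, w ≠ 0 → K.resHom H c w ≠ 0 := by
      intro w hw h
      apply hw
      have h0 : K.resHom H c 0 = 0 := by
        show K.res _ 0 = 0
        have := K.res_add H (Hyp.comm (c := (c : ↥(centralizer ({z} : Set G))))) 0 0
        rw [add_zero] at this
        exact left_eq_add.mp this
      exact (K.resHom H c).injective (h.trans h0.symm)
    simp only [plusFrames, Finset.mem_biUnion, Finset.mem_image, Finset.mem_filter, Finset.mem_univ, true_and]
    exact ⟨_, ⟨hne _ (by decide), (hq _).trans (by decide)⟩,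
      _, ⟨⟨hne _ (by decide), (hq _).trans (by decide)⟩, (hB _ _).trans (by decide)⟩,
      _, ⟨⟨hne _ (by decide), (hq _).trans (by decide)⟩, (hB _ _).trans (by decide), (hB _ _).trans (by decide)⟩,
      _, ⟨⟨hne _ (by decide), (hq _).trans (by decide)⟩, (hB _ _).trans (by decide), (hB _ _).trans (by decide),
        (hB _ _).trans (by decide)⟩, rfl⟩
  · rintro ⟨_, ⟨c, rfl⟩⟩ ⟨_, ⟨d, rfl⟩⟩ h
    simp only [Subtype.mk.injEq, Prod.mk.injEq] at h
    refine Subtype.ext (Equiv.ext fun w => ?_)
    have hadd : ∀ (c : K.P H), ∃ F : W →+ W, ∀ w, F w = K.resHom H c w := fun c =>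
      ⟨AddMonoidHom.mk' (K.resHom H c) (fun a b => K.res_add H Hyp.comm a b), fun w => rfl⟩
    obtain ⟨F, hF⟩ := hadd c
    obtain ⟨F', hF'⟩ := hadd d
    have hs : ∀ (M : W →+ W) (t : ZMod 2) (x : W), M (t • x) = t • M x := by
      intro M t x
      rcases zcases t with rfl | rfl <;> simp
    rw [← hF, ← hF', plus_basis w]
    simp only [map_add, hs]
    rw [hF, hF, hF, hF, hF', hF', hF', hF', h.1, h.2.1, h.2.2.1, h.2.2.2]

variable {e : ZMod 2} (K : Coord z Q e)

/-- The index of the stabilizer of any singular point is the size of its orbit. -/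
theorem orbit_bound {N : ℕ} (hN : ∀ K' : Coord z Q e, Nat.card (K'.P H) ≤ 128 * 16 * N) {v : V}
    (hv : v ≠ 0) (hq : qV e v = 0) :
    25920 ≤ 16 * N * Nat.card {w : V // ∃ c : ↥(centralizer ({z} : Set G)), K.act (c : G) v = w} ∧
      Nat.card {w : V // ∃ c : ↥(centralizer ({z} : Set G)), K.act (c : G) v = w} ∣ 128 * 25920 := by
  letI : MulAction ↥(centralizer ({z} : Set G)) V :=
    { smul := fun c v => K.act (c : G) v
      one_smul := fun v => K.act_one H v
      mul_smul := fun a b v => K.act_mul H Hyp.comm Hyp.comm v }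
  have ho : Nat.card {w : V // ∃ c : ↥(centralizer ({z} : Set G)), K.act (c : G) v = w} =
      Nat.card (MulAction.orbit ↥(centralizer ({z} : Set G)) v) := rfl
  rw [ho]
  have h1 := Nat.card_congr (MulAction.orbitProdStabilizerEquivGroup ↥(centralizer ({z} : Set G)) v)
  rw [Nat.card_prod, H.cardC] at h1
  refine ⟨?_, ⟨_, h1.symm⟩⟩
  obtain ⟨K', M, hM, hinj, hMv⟩ := K.exists_transform H hv hq
  have hs : MulAction.stabilizer ↥(centralizer ({z} : Set G)) v = K'.P H := by
    ext c
    show K.act (c : G) v = v ↔ K'.act (c : G) x0 = x0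
    rw [← hMv, ← K.vec_lift v, ← hM, K'.act_vec H Hyp.comm (K.lift_mem v),
      K.act_vec H Hyp.comm (K.lift_mem v), hM, hM, hinj.eq_iff]
  rw [hs] at h1
  have h2 := hN K'
  nlinarith [h1, h2]

theorem transitive_aux {N n : ℕ} (hN : ∀ K' : Coord z Q e, Nat.card (K'.P H) ≤ 128 * 16 * N)
    (hn : (Finset.univ.filter fun v : V => v ≠ 0 ∧ qV e v = 0).card = n) {m : ℕ} (hm : ∀ o, 25920 ≤ 16 * N * o → m ≤ o) (hbig : n < 2 * m)
    {v w : V} (hv : v ≠ 0) (hvq : qV e v = 0) (hw : w ≠ 0) (hwq : qV e w = 0) :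
    (∃ c : ↥(centralizer ({z} : Set G)), K.act (c : G) v = w) ∧
      n ∣ 128 * 25920 := by
  classical
  let S := Finset.univ.filter fun v : V => v ≠ 0 ∧ qV e v = 0
  let O : V → Finset V := fun v =>
    Finset.univ.filter fun w => ∃ c : ↥(centralizer ({z} : Set G)), K.act (c : G) v = w
  have hO : ∀ v, Nat.card {w : V // ∃ c : ↥(centralizer ({z} : Set G)), K.act (c : G) v = w} = (O v).card :=
    fun v => by rw [Nat.card_eq_fintype_card, Fintype.card_subtype]
  have hsub : ∀ v, v ≠ 0 → qV e v = 0 → O v ⊆ S := by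
    intro v hv hq w hw
    obtain ⟨c, rfl⟩ := (Finset.mem_filter.1 hw).2
    refine Finset.mem_filter.2 ⟨Finset.mem_univ _, fun h => hv (K.act_injective H (Hyp.comm (c := c)) ?_),
      (K.act_q H Hyp.comm v).trans hq⟩
    rw [h, K.act_zero H (Hyp.comm (c := c))]
  have hall : ∀ v, v ≠ 0 → qV e v = 0 → O v = S := by
    intro v hv hq
    refine Finset.Subset.antisymm (hsub v hv hq) fun w hw => ?_
    by_contra hne
    obtain ⟨hw0, hwq⟩ := (Finset.mem_filter.1 hw).2
    have hd : Disjoint (O v) (O w) := by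
      rw [Finset.disjoint_left]
      intro x hxv hxw
      obtain ⟨c, hc⟩ := (Finset.mem_filter.1 hxv).2
      obtain ⟨d, hd⟩ := (Finset.mem_filter.1 hxw).2
      refine hne (Finset.mem_filter.2 ⟨Finset.mem_univ _, d⁻¹ * c, ?_⟩)
      rw [Subgroup.coe_mul, K.act_mul H Hyp.comm Hyp.comm, hc, ← hd]
      exact K.act_inv_cancel H Hyp.comm w
    have h1 := Finset.card_le_card (Finset.union_subset (hsub v hv hq) (hsub w hw0 hwq))
    rw [Finset.card_union_of_disjoint hd] at h1
    have h2 := (K.orbit_bound H hN hv hq).1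
    have h3 := (K.orbit_bound H hN hw0 hwq).1
    rw [hO] at h2 h3
    have hS : S.card = n := hn
    have h4 := hm _ h2
    have h5 := hm _ h3
    omega
  refine ⟨?_, ?_⟩
  · have : w ∈ O v := by
      rw [hall v hv hvq]
      exact Finset.mem_filter.2 ⟨Finset.mem_univ _, hw, hwq⟩
    exact (Finset.mem_filter.1 this).2
  · have h := (K.orbit_bound H hN hv hvq).2
    rw [hO, hall v hv hvq, show S.card = n from hn] at h
    exact h

end Coord

theorem Hyp.exists_minus (H : Hyp z Q) : Nonempty (Coord z Q 1) := by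
  obtain ⟨e, ⟨K⟩⟩ := H.exists_coord
  rcases zcases e with rfl | rfl
  · exfalso
    have h := (K.transitive_aux H (N := 72)
      (fun K' => by
        rw [K'.card_P H]
        exact Nat.mul_le_mul (Nat.mul_le_mul_left _ (K'.card_urange_le H)) (Coord.card_range_plus H K'))
      singular_card.1 (m := 23) (by omega) (by norm_num) (v := x0) (w := x0) (by decide) (by decide) (by decide) (by decide)).2
    norm_num at h
  · exact ⟨K⟩

namespace Coord

variable (K : Coord z Q 1) (H : Hyp z Q)


theorem res_pt (c : K.P H) (i : Fin 5) : ∃ j, K.resHom H c (pt i) = pt j := by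
  refine pt_exists _ ?_ ((K.res_q H Hyp.comm c.2 _).trans (pt_singular i).1)
  intro h
  have h0 : K.resHom H c 0 = 0 := by
    show K.res _ 0 = 0
    have := K.res_add H (Hyp.comm (c := (c : ↥(Cz z)))) 0 0
    rw [add_zero] at this
    exact left_eq_add.mp this
  exact (pt_singular i).2 ((K.resHom H c).injective (h.trans h0.symm))

noncomputable def rhoFun (c : K.P H) (i : Fin 5) : Fin 5 := Classical.choose (K.res_pt H c i)

theorem rhoFun_spec (c : K.P H) (i : Fin 5) : K.res ((c : ↥(Cz z)) : G) (pt i) = pt (K.rhoFun H c i) :=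
  Classical.choose_spec (K.res_pt H c i)

/-- The permutations of the five singular points of the residue space. -/
noncomputable def rho : K.P H →* Equiv.Perm (Fin 5) where
  toFun c := Equiv.ofBijective (K.rhoFun H c) (Finite.injective_iff_bijective.1 fun i j h =>
    pt_injective ((K.resHom H c).injective
      (by show K.res _ (pt i) = K.res _ (pt j); rw [K.rhoFun_spec H, K.rhoFun_spec H, h])))
  map_one' := Equiv.ext fun i => pt_injective (by
    show pt (K.rhoFun H 1 i) = pt i
    rw [← K.rhoFun_spec H]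
    exact K.res_one H _)
  map_mul' c d := Equiv.ext fun i => pt_injective (by
    show pt (K.rhoFun H (c * d) i) = pt (K.rhoFun H c (K.rhoFun H d i))
    rw [← K.rhoFun_spec H, ← K.rhoFun_spec H, ← K.rhoFun_spec H]
    exact K.res_mul H Hyp.comm Hyp.comm c.2 d.2 _)

theorem rho_spec (c : K.P H) (i : Fin 5) : K.res ((c : ↥(Cz z)) : G) (pt i) = pt (K.rho H c i) :=
  K.rhoFun_spec H c i

include H

theorem rho_ker : (K.rho H).ker = (K.resHom H).ker := by
  ext c
  rw [K.mem_ker H, MonoidHom.mem_ker]
  constructor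
  · intro h w
    refine ext_pt (g := fun w => w) (K.res_add H Hyp.comm) (fun a b => rfl) (fun i => ?_) w
    rw [K.rho_spec H, h]; rfl
  · intro h
    refine Equiv.ext fun i => pt_injective ?_
    rw [← K.rho_spec H, h]; rfl

theorem card_rho : Nat.card (K.rho H).range = Nat.card (K.resHom H).range := by
  rw [← Nat.card_congr (QuotientGroup.quotientKerEquivRange (K.rho H)).toEquiv,
    ← Nat.card_congr (QuotientGroup.quotientKerEquivRange (K.resHom H)).toEquiv, K.rho_ker H]

theorem card_range_minus : Nat.card (K.resHom H).range ≤ 120 := by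
  rw [← K.card_rho H]
  refine le_trans (Finite.card_subtype_le _) ?_
  rw [Nat.card_eq_fintype_card, Fintype.card_perm]
  rfl

theorem transitive {v w : V} (hv : v ≠ 0) (hvq : qV 1 v = 0) (hw : w ≠ 0) (hwq : qV 1 w = 0) :
    ∃ c : G, c * z = z * c ∧ K.act c v = w := by
  obtain ⟨⟨c, hc⟩, -⟩ := K.transitive_aux H (N := 120)
    (fun K' => by
      rw [K'.card_P H]
      exact Nat.mul_le_mul (Nat.mul_le_mul_left _ (K'.card_urange_le H)) (K'.card_range_minus H))
    singular_card.2 (m := 14) (by omega) (by norm_num) hv hvq hw hwq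
  exact ⟨c, Hyp.comm, hc⟩

theorem card_P_eq : Nat.card (K.P H) = 128 * 960 := by
  letI : MulAction ↥(Cz z) V :=
    { smul := fun c v => K.act (c : G) v
      one_smul := fun v => K.act_one H v
      mul_smul := fun a b v => K.act_mul H Hyp.comm Hyp.comm v }
  have h1 := Nat.card_congr (MulAction.orbitProdStabilizerEquivGroup ↥(Cz z) x0)
  have ho : MulAction.orbit ↥(Cz z) x0 = {v : V | v ≠ 0 ∧ qV 1 v = 0} := by
    ext v
    constructor
    · rintro ⟨c, rfl⟩
      refine ⟨fun h => ?_, (K.act_q H Hyp.comm x0).trans (by decide)⟩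
      exact absurd (K.act_injective H Hyp.comm (h.trans (K.act_zero H (Hyp.comm (c := c))).symm)) (by decide)
    · rintro ⟨hv, hq⟩
      obtain ⟨c, hc, h⟩ := K.transitive H (v := x0) (by decide) (by decide) hv hq
      exact ⟨⟨c, mem_centralizer_singleton_iff.2 hc⟩, h⟩
  have hs : MulAction.stabilizer ↥(Cz z) x0 = K.P H := rfl
  rw [Nat.card_prod, H.cardC, ho, hs] at h1
  rw [show Nat.card ↥{v : V | v ≠ 0 ∧ qV 1 v = 0} = 27 by
    rw [Nat.card_eq_fintype_card, Fintype.card_subtype]; exact singular_card.2] at h1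
  omega

theorem card_image_ge : 60 ≤ Nat.card (K.rho H).range := by
  have h := K.card_P H
  have h2 := K.card_urange_le H
  rw [K.card_P_eq H, ← K.card_rho H] at h
  nlinarith

end Coord

end CfsgLib.SuzType
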