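import Mathlib
import Cfsg.Agent.Lib.SuzType.Extra
import Cfsg.Agent.Lib.SuzType.Stab
import Cfsg.Agent.Lib.LargeExtra.Pair

/-!
The conjugate of `Q` at a singular point of `Q`: it supplies all translations fixing the point.
-/

set_option autoImplicit false
set_option linter.style.longLine false

namespace CfsgLib.SuzType

open Subgroup

variable {G : Type*} [Group G] [Finite G] {z : G} {Q : Subgroup G}

/-- `b` lies in the conjugate of `Q` attached to the conjugate `a` of `z`. -/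
def InQ (z : G) (Q : Subgroup G) (a b : G) : Prop := ∃ g, g * z * g⁻¹ = a ∧ g⁻¹ * b * g ∈ Q

namespace Hyp

variable (H : Hyp z Q)
include H

theorem inQ_iff {a b g : G} (hg : g * z * g⁻¹ = a) : InQ z Q a b ↔ g⁻¹ * b * g ∈ Q := by
  constructor
  · rintro ⟨h, hh, hb⟩
    have hc : (g⁻¹ * h) * z = z * (g⁻¹ * h) := by
      calc g⁻¹ * h * z = g⁻¹ * (h * z * h⁻¹) * h := by group
        _ = g⁻¹ * (g * z * g⁻¹) * h := by rw [hh, hg]
        _ = z * (g⁻¹ * h) := by group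
    have := H.norm _ hc _ hb
    rwa [show g⁻¹ * h * (h⁻¹ * b * h) * (g⁻¹ * h)⁻¹ = g⁻¹ * b * g by group] at this
  · exact fun h => ⟨g, hg, h⟩

theorem inQ_z {b : G} : InQ z Q z b ↔ b ∈ Q := by
  rw [H.inQ_iff (g := 1) (by group)]; simp

omit H in
theorem inQ_conj {a b : G} (h : G) (hb : InQ z Q a b) : InQ z Q (h * a * h⁻¹) (h * b * h⁻¹) := by
  obtain ⟨g, hg, hgb⟩ := hb
  exact ⟨h * g, by rw [← hg]; group,
    by rwa [show (h * g)⁻¹ * (h * b * h⁻¹) * (h * g) = g⁻¹ * b * g by group]⟩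

theorem selfCent : centralizer (Q : Set G) = (center ↥Q).map Q.subtype := by
  refine le_antisymm (fun c hc => ?_) ?_
  · have hcz : c * z = z * c := (mem_centralizer_iff.1 hc z H.extra.z_mem).symm
    have hcQ : c ∈ Q := H.self c hcz fun y hy => mem_centralizer_iff.1 hc y hy
    exact ⟨⟨c, hcQ⟩, mem_center_iff.2 fun q => Subtype.ext (mem_centralizer_iff.1 hc q q.2), rfl⟩
  · rintro _ ⟨c, hc, rfl⟩
    exact mem_centralizer_iff.2 fun q hq => congrArg Subtype.val (mem_center_iff.1 hc ⟨q, hq⟩)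

/-- Membership is symmetric on conjugates of `z`. -/
theorem inQ_symm {a b h : G} (hb : h * z * h⁻¹ = b) (hab : InQ z Q a b) : InQ z Q b a := by
  obtain ⟨g, hg, hgb⟩ := hab
  rw [H.inQ_iff hb, ← hg]
  by_cases hne : g⁻¹ * h * z * (g⁻¹ * h)⁻¹ = z
  · have : h⁻¹ * (g * z * g⁻¹) * h = z := by
      calc h⁻¹ * (g * z * g⁻¹) * h = (g⁻¹ * h)⁻¹ * z * (g⁻¹ * h) := by group
        _ = (g⁻¹ * h)⁻¹ * (g⁻¹ * h * z * (g⁻¹ * h)⁻¹) * (g⁻¹ * h) := by rw [hne]
        _ = z := by group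
    rw [this]
    exact H.extra.z_mem
  · have hP : CfsgLib.LargeExtra.PairAt Q z (g⁻¹ * h) :=
      { toExtraAt := H.extra
        selfCent := H.selfCent
        cent_le := fun c hc => Subgroup.mem_normalizer_fintype fun q hq =>
          H.norm c (mem_centralizer_singleton_iff.1 hc) q hq
        conj_mem := by
          rwa [show g⁻¹ * h * z * (g⁻¹ * h)⁻¹ = g⁻¹ * (h * z * h⁻¹) * g by group, hb]
        conj_ne := hne }
    have := hP.mem_W.1 (hP.z_mem_W (by rw [H.card]; norm_num))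
    rwa [show (g⁻¹ * h)⁻¹ * z * (g⁻¹ * h) = h⁻¹ * (g * z * g⁻¹) * h by group] at this

end Hyp

namespace Coord

variable (K : Coord z Q 1) (H : Hyp z Q)
include K H

theorem card_lifts (p : V → Prop) [DecidablePred p] :
    Nat.card {a : G // a ∈ Q ∧ p (K.vec a)} = 2 * (Finset.univ.filter p).card := by
  rw [← Fintype.card_subtype, ← Nat.card_eq_fintype_card,
    show 2 * Nat.card {v // p v} = Nat.card (Bool × {v // p v}) by simp]
  let f : Bool × {v // p v} → {a : G // a ∈ Q ∧ p (K.vec a)} := fun t =>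
    ⟨(if t.1 then z else 1) * K.lift t.2.1,
      mul_mem (by cases t.1 <;> simp [zQ H, one_mem]) (K.lift_mem _),
      by cases t.1 <;> simp [K.mul (zQ H) (K.lift_mem _), K.vec_z H, K.vec_lift, t.2.2]⟩
  refine (Nat.card_eq_of_bijective f ⟨?_, ?_⟩).symm
  · rintro ⟨b, v⟩ ⟨b', v'⟩ h
    have h1 : (if b then z else 1) * K.lift v.1 = (if b' then z else 1) * K.lift v'.1 := congrArg Subtype.val h
    have hv : ∀ (b : Bool) (v : V), K.vec ((if b then z else 1) * K.lift v) = v := fun b v => by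
      cases b <;> simp [K.mul (zQ H) (K.lift_mem v), K.vec_z H, K.vec_lift]
    obtain rfl : v = v' := Subtype.ext (by rw [← hv b v, h1, hv])
    have h2 : (if b then z else 1) = (if b' then z else 1) := mul_right_cancel h1
    cases b <;> cases b' <;> simp_all [H.extra.ne_one, Ne.symm H.extra.ne_one]
  · rintro ⟨a, ha, hp⟩
    rcases K.eq_or H ha (K.lift_mem (K.vec a)) (K.vec_lift _).symm with h | h
    · exact ⟨(false, ⟨_, hp⟩), Subtype.ext (by simpa [f] using h.symm)⟩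
    · exact ⟨(true, ⟨_, hp⟩), Subtype.ext (by simpa [f] using h.symm)⟩

/-- Every involution of `Q` is conjugate to `z`. -/
theorem conj_of_mem {b : G} (hb : b ∈ Q) (h2 : b * b = 1) (h1 : b ≠ 1) : ∃ h, h * z * h⁻¹ = b := by
  by_cases hz : b = z
  · exact ⟨1, by simp [hz]⟩
  obtain ⟨g, hgQ, hgne⟩ := H.moved
  have hs2 : g * z * g⁻¹ * (g * z * g⁻¹) = 1 := by
    rw [show g * z * g⁻¹ * (g * z * g⁻¹) = g * (z * z) * g⁻¹ by group, zz H]; group
  have hs1 : g * z * g⁻¹ ≠ 1 := fun h => H.extra.ne_one (conj_eq_one_iff.1 h)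
  have hnz : ∀ {a : G}, a ∈ Q → a ≠ 1 → a ≠ z → K.vec a ≠ 0 := fun ha h1 h2 h =>
    ((K.zero_iff ha).1 h).elim h1 h2
  obtain ⟨c, hc, hcv⟩ := K.transitive H (hnz hgQ hs1 hgne) ((K.invol_iff H.extra.ne_one hgQ).1 hs2)
    (hnz hb h1 hz) ((K.invol_iff H.extra.ne_one hb).1 h2)
  rw [K.act_vec H hc hgQ] at hcv
  rcases K.eq_or H (H.norm c hc _ hgQ) hb hcv with h | h
  · exact ⟨c * g, by rw [← h]; group⟩
  · obtain ⟨y, hy, hyb⟩ := H.extra.exists_conj_eq (H.norm c hc _ hgQ)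
      (fun e => hs1 (conj_eq_one_iff.1 e)) (fun e => hgne (by
        calc g * z * g⁻¹ = c⁻¹ * (c * (g * z * g⁻¹) * c⁻¹) * c := by group
          _ = z := by rw [e, mul_assoc, ← hc]; group))
    refine ⟨y * (c * g), ?_⟩
    rw [show y * (c * g) * z * (y * (c * g))⁻¹ = y * (c * (g * z * g⁻¹) * c⁻¹) * y⁻¹ by group, hyb, h,
      ← mul_assoc, zz H, one_mul]

end Coord

/-- A base point `x` of `Q` and an element carrying `z` to it. -/
structure Base (K : Coord z Q 1) (x g : G) : Prop where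
  hyp : Hyp z Q
  hx : x ∈ Q
  hxv : K.vec x = x0
  hg : g * z * g⁻¹ = x

theorem Coord.exists_base (K : Coord z Q 1) (H : Hyp z Q) : ∃ x g, Base K x g := by
  have h1 : K.lift x0 ≠ 1 := fun h => by
    have := K.vec_lift x0
    rw [h, K.vec_one] at this
    exact absurd this (by decide)
  obtain ⟨g, hg⟩ := K.conj_of_mem H (K.lift_mem x0)
    ((K.invol_iff H.extra.ne_one (K.lift_mem x0)).2 (by rw [K.vec_lift]; decide)) h1
  exact ⟨_, g, H, K.lift_mem x0, K.vec_lift x0, hg⟩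

namespace Base

variable {K : Coord z Q 1} {x g : G} (S : Base K x g)
include S

theorem xx : x * x = 1 := by
  rw [← S.hg, show g * z * g⁻¹ * (g * z * g⁻¹) = g * (z * z) * g⁻¹ by group, S.hyp.extra.sq_one]; group

theorem x_ne : x ≠ 1 ∧ x ≠ z := by
  constructor <;> intro h <;> have := S.hxv
  · rw [h, K.vec_one] at this
    exact absurd this (by decide)
  · rw [h, K.vec_z S.hyp] at this
    exact absurd this (by decide)

theorem xz : x * z = z * x := S.hyp.extra.comm_z S.hx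

theorem x_inv : x⁻¹ = x := inv_eq_of_mul_eq_one_right S.xx

/-- The conjugate of `z` seen from `x`. -/
theorem w_spec : g⁻¹ * z * g ∈ Q ∧ K.vec (g⁻¹ * z * g) ≠ 0 ∧ qV 1 (K.vec (g⁻¹ * z * g)) = 0 := by
  have hm : g⁻¹ * z * g ∈ Q := (S.hyp.inQ_iff S.hg).1
    (S.hyp.inQ_symm S.hg ((S.hyp.inQ_z (b := x)).2 S.hx))
  refine ⟨hm, fun h => ?_, (K.invol_iff S.hyp.extra.ne_one hm).1 ?_⟩
  · rcases (K.zero_iff hm).1 h with e | e
    · exact S.hyp.extra.ne_one (by
        calc z = g * (g⁻¹ * z * g) * g⁻¹ := by group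
          _ = 1 := by rw [e]; group)
    · exact S.x_ne.2 (by
        calc x = g * (g⁻¹ * z * g) * g⁻¹ := by rw [e]; exact S.hg.symm
          _ = z := by group)
  · rw [show g⁻¹ * z * g * (g⁻¹ * z * g) = g⁻¹ * (z * z) * g by group, S.hyp.extra.sq_one]; group

theorem comm_x {b : G} (hb : g⁻¹ * b * g ∈ Q) : b * x = x * b := by
  have h := S.hyp.extra.comm_z hb
  rw [← S.hg]
  calc b * (g * z * g⁻¹) = g * (g⁻¹ * b * g * z) * g⁻¹ := by group
    _ = g * (z * (g⁻¹ * b * g)) * g⁻¹ := by rw [h]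
    _ = g * z * g⁻¹ * b := by group

theorem comm_x_iff {b : G} (hb : b ∈ Q) : b * x = x * b ↔ (K.vec b).1.2 = 0 := by
  rw [K.comm_iff S.hyp.extra.ne_one hb S.hx, S.hxv]
  simp [B, BW, x0]

/-- An element of the stabilizer corrected by `Q` to fix `x`. -/
theorem exists_fix {c : G} (hc : c * z = z * c) (hcx : K.act c x0 = x0) :
    ∃ d : G, d * z = z * d ∧ d * x = x * d ∧ K.act d x0 = x0 ∧ ∀ w, K.res d w = K.res c w := by
  have hv : K.vec (c * x * c⁻¹) = K.vec x := by rw [← K.act_vec S.hyp hc S.hx, S.hxv, hcx]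
  rcases K.eq_or S.hyp (S.hyp.norm c hc x S.hx) S.hx hv with h | h
  · exact ⟨c, hc, mul_inv_eq_iff_eq_mul.1 h, hcx, fun w => rfl⟩
  · obtain ⟨y, hy, hyx⟩ := S.hyp.extra.exists_conj_eq S.hx S.x_ne.1 S.x_ne.2
    have hyz : y⁻¹ * z = z * y⁻¹ := S.hyp.extra.comm_z (inv_mem hy)
    refine ⟨y⁻¹ * c, by rw [mul_assoc, hc, ← mul_assoc, hyz, mul_assoc], mul_inv_eq_iff_eq_mul.1 ?_, ?_, ?_⟩
    · calc y⁻¹ * c * x * (y⁻¹ * c)⁻¹ = y⁻¹ * (c * x * c⁻¹) * y := by group
        _ = y⁻¹ * (y * x * y⁻¹) * y := by rw [h, hyx]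
        _ = x := by group
    · rw [K.act_mul S.hyp hyz hc, hcx, K.act_mem S.hyp (inv_mem hy)]
    · intro w
      rw [K.res_mul S.hyp hyz hc (K.act_mem S.hyp (inv_mem hy) x0) hcx, K.res_mem S.hyp (inv_mem hy)]

theorem norm_x {d b : G} (hdx : d * x = x * d) (hb : g⁻¹ * b * g ∈ Q) :
    g⁻¹ * (d * b * d⁻¹) * g ∈ Q := by
  have hc : g⁻¹ * d * g * z = z * (g⁻¹ * d * g) := by
    calc g⁻¹ * d * g * z = g⁻¹ * (d * (g * z * g⁻¹)) * g := by group
      _ = g⁻¹ * (g * z * g⁻¹ * d) * g := by rw [S.hg, hdx]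
      _ = z * (g⁻¹ * d * g) := by group
  have := S.hyp.norm _ hc _ hb
  rwa [show g⁻¹ * d * g * (g⁻¹ * b * g) * (g⁻¹ * d * g)⁻¹ = g⁻¹ * (d * b * d⁻¹) * g by group] at this

/-- `Q` meets its conjugate at `x` in `{1, z, x, zx}`. -/
theorem inter {b : G} (hb : b ∈ Q) (hb' : g⁻¹ * b * g ∈ Q) :
    (K.vec b).1.2 = 0 ∧ (K.vec b).2 = 0 := by
  classical
  have H := S.hyp
  have hsq : ∀ {b : G}, b ∈ Q → g⁻¹ * b * g ∈ Q → (K.vec b).1.2 = 0 ∧ qW 1 (K.vec b).2 = 0 := by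
    intro b hb hb'
    have h1 := (S.comm_x_iff hb).1 (S.comm_x hb')
    refine ⟨h1, ?_⟩
    have h2 : b * b = 1 := by
      refine (H.extra.sq_cases hb).resolve_right fun e => ?_
      have e' : g⁻¹ * b * g * (g⁻¹ * b * g) = g⁻¹ * z * g := by
        rw [← e]; group
      rcases H.extra.sq_cases hb' with f | f
      · exact S.w_spec.2.1 ((K.zero_iff S.w_spec.1).2 (Or.inl (e'.symm.trans f)))
      · exact S.w_spec.2.1 ((K.zero_iff S.w_spec.1).2 (Or.inr (e'.symm.trans f)))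
    have h3 := (K.invol_iff H.extra.ne_one hb).1 h2
    simpa [qV, h1] using h3
  refine ⟨(hsq hb hb').1, ?_⟩
  by_contra hne
  obtain ⟨i, hi⟩ := pt_exists _ hne (hsq hb hb').2
  have hfix : ∀ π ∈ (K.rho H).range, π i = i := by
    rintro _ ⟨c, rfl⟩
    obtain ⟨d, hdz, hdx, hd0, hdr⟩ := S.exists_fix Hyp.comm c.2
    have hb1 := H.norm d hdz b hb
    have hb2 := S.norm_x hdx hb'
    have ht : (K.vec (d * b * d⁻¹)).2 = pt (K.rho H c i) := by
      rw [← K.act_vec H hdz hb, K.res_perp H hdz hd0 _ (hsq hb hb').1, hdr, hi, K.rho_spec H]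
    have hprod : qW 1 (pt i + pt (K.rho H c i)) = 0 := by
      have h := (hsq (mul_mem hb hb1) (by
        rw [show g⁻¹ * (b * (d * b * d⁻¹)) * g = (g⁻¹ * b * g) * (g⁻¹ * (d * b * d⁻¹) * g) by group]
        exact mul_mem hb' hb2)).2
      rwa [K.mul hb hb1, Prod.snd_add, hi, ht] at h
    rw [qW_add, (pt_singular i).1, (pt_singular _).1, zero_add, zero_add] at hprod
    exact (pt_injective (singular_unique _ _ (pt_singular i).2 (pt_singular _).2 (pt_singular i).1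
      (pt_singular _).1 hprod)).symm
  have h1 : Nat.card (K.rho H).range ≤ Nat.card {π : Equiv.Perm (Fin 5) // π i = i} :=
    Nat.card_le_card_of_injective (fun π => ⟨π.1, hfix _ π.2⟩)
      (fun a b h => Subtype.ext (congrArg (fun t => t.1) h))
  rw [Nat.card_eq_fintype_card (α := {π : Equiv.Perm (Fin 5) // π i = i}), Fintype.card_subtype,
    perm_fix_card] at h1
  have h2 := K.card_image_ge H
  omega

/-- The part of the conjugate of `Q` centralizing `z`. -/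
def R (_ : Base K x g) : Subgroup G :=
  Q.map (MulAut.conj g).toMonoidHom ⊓ centralizer ({z} : Set G)

omit S in
theorem mem_R (S : Base K x g) {r : G} : r ∈ S.R ↔ g⁻¹ * r * g ∈ Q ∧ r * z = z * r := by
  rw [R, mem_inf, mem_centralizer_singleton_iff]
  refine and_congr ⟨?_, fun h => ⟨_, h, by simp [mul_assoc]⟩⟩ Iff.rfl
  rintro ⟨q, hq, rfl⟩
  simpa [mul_assoc] using hq

theorem R_fix {r : G} (hr : r ∈ S.R) : K.act r x0 = x0 := by
  obtain ⟨h1, h2⟩ := S.mem_R.1 hr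
  rw [← S.hxv, K.act_vec S.hyp h2 S.hx, S.comm_x h1, mul_inv_cancel_right]

theorem comm_mem {r q : G} (hr : r ∈ S.R) (hq : q ∈ Q) (hqx : q * x = x * q) :
    r * q * r⁻¹ * q⁻¹ ∈ Q ∧ g⁻¹ * (r * q * r⁻¹ * q⁻¹) * g ∈ Q := by
  obtain ⟨h1, h2⟩ := S.mem_R.1 hr
  refine ⟨mul_mem (S.hyp.norm r h2 q hq) (inv_mem hq), ?_⟩
  have h3 := S.norm_x hqx (b := r⁻¹) (by
    rw [show g⁻¹ * r⁻¹ * g = (g⁻¹ * r * g)⁻¹ by group]; exact inv_mem h1)
  rw [show g⁻¹ * (r * q * r⁻¹ * q⁻¹) * g = (g⁻¹ * r * g) * (g⁻¹ * (q * r⁻¹ * q⁻¹) * g) by group]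
  exact mul_mem h1 h3

theorem R_res {r : G} (hr : r ∈ S.R) (w : W) : K.res r w = w := by
  have H := S.hyp
  obtain ⟨h1, h2⟩ := S.mem_R.1 hr
  have hq := K.lift_mem (inj w)
  have hqx : K.lift (inj w) * x = x * K.lift (inj w) := (S.comm_x_iff hq).2 (by rw [K.vec_lift]; rfl)
  obtain ⟨ha, hb⟩ := S.comm_mem hr hq hqx
  have h := (S.inter ha hb).2
  rw [K.mul (H.norm r h2 _ hq) (inv_mem hq), K.vec_inv hq, ← K.act_vec H h2 hq, K.vec_lift, Prod.snd_add] at h
  exact (add_eq_zero_iff_eq_neg.1 h).trans (neg_eq_of_add_eq_zero_left (addW w))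

/-- The translation parameter of an element of `R`. -/
noncomputable def ur (_ : Base K x g) (r : G) : W := (K.act r f0).2

theorem act_R {r : G} (hr : r ∈ S.R) : K.act r = E 1 (S.ur r) :=
  K.eq_E S.hyp (S.mem_R.1 hr).2 (S.R_fix hr) (S.R_res hr)

theorem ur_mul {r r' : G} (hr : r ∈ S.R) (hr' : r' ∈ S.R) : S.ur (r * r') = S.ur r + S.ur r' := by
  show (K.act (r * r') f0).2 = _
  rw [K.act_mul S.hyp (S.mem_R.1 hr).2 (S.mem_R.1 hr').2, S.act_R hr', S.act_R hr, tail_E, tail_E]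
  simp [f0, E, add_comm]

theorem ur_zero {r : G} (hr : r ∈ S.R) : S.ur r = 0 ↔ r ∈ Q := by
  constructor
  · intro h
    refine K.mem_of_act S.hyp (S.mem_R.1 hr).2 fun v => ?_
    rw [S.act_R hr, h, E_zero]
  · intro h
    show (K.act r f0).2 = 0
    rw [K.act_mem S.hyp h]; rfl

theorem four {b : G} (hb : b ∈ Q) (hb' : g⁻¹ * b * g ∈ Q) : b = 1 ∨ b = z ∨ b = x ∨ b = z * x := by
  obtain ⟨h1, h2⟩ := S.inter hb hb'
  rcases zero_line _ h1 h2 with h | h
  · rcases (K.zero_iff hb).1 h with e | e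
    exacts [Or.inl e, Or.inr (Or.inl e)]
  · rcases K.eq_or S.hyp hb S.hx (h.trans S.hxv.symm) with e | e
    exacts [Or.inr (Or.inr (Or.inl e)), Or.inr (Or.inr (Or.inr e))]

theorem four_comm {b c : G} (hb : b = 1 ∨ b = z ∨ b = x ∨ b = z * x) (hz : c * z = z * c)
    (hx : c * x = x * c) : c * b = b * c := by
  rcases hb with rfl | rfl | rfl | rfl
  · rw [mul_one, one_mul]
  · exact hz
  · exact hx
  · rw [← mul_assoc, hz, mul_assoc, hx, mul_assoc]

theorem card_R : Nat.card S.R = 64 := by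
  classical
  have e : ↥S.R ≃ {a : G // a ∈ Q ∧ B (K.vec a) (K.vec (g⁻¹ * z * g)) = 0} :=
    { toFun := fun r => ⟨g⁻¹ * r.1 * g, (S.mem_R.1 r.2).1,
        (K.comm_iff S.hyp.extra.ne_one (S.mem_R.1 r.2).1 S.w_spec.1).1 (by
          rw [show g⁻¹ * r.1 * g * (g⁻¹ * z * g) = g⁻¹ * (r.1 * z) * g by group, (S.mem_R.1 r.2).2]; group)⟩
      invFun := fun a => ⟨g * a.1 * g⁻¹, S.mem_R.2 ⟨by
          rw [show g⁻¹ * (g * a.1 * g⁻¹) * g = a.1 by group]; exact a.2.1, by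
          have h := (K.comm_iff S.hyp.extra.ne_one a.2.1 S.w_spec.1).2 a.2.2
          calc g * a.1 * g⁻¹ * z = g * (a.1 * (g⁻¹ * z * g)) * g⁻¹ := by group
            _ = g * (g⁻¹ * z * g * a.1) * g⁻¹ := by rw [h]
            _ = z * (g * a.1 * g⁻¹) := by group⟩⟩
      left_inv := fun r => Subtype.ext (by simp [mul_assoc])
      right_inv := fun a => Subtype.ext (by simp [mul_assoc]) }
  rw [Nat.card_congr e, K.card_lifts S.hyp (fun v => B v (K.vec (g⁻¹ * z * g)) = 0),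
    count_thirtytwo _ S.w_spec.2.1]

/-- The parameter as a homomorphism. -/
noncomputable def urHom : ↥S.R →* Multiplicative W where
  toFun r := Multiplicative.ofAdd (S.ur r)
  map_one' := by
    show Multiplicative.ofAdd (S.ur 1) = 1
    rw [(S.ur_zero (one_mem _)).2 (one_mem _)]; rfl
  map_mul' a b := by
    show Multiplicative.ofAdd (S.ur (a.1 * b.1)) = _
    rw [S.ur_mul a.2 b.2]; rfl

theorem urHom_surjective : Function.Surjective S.urHom := by
  classical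
  rw [← MonoidHom.range_eq_top]
  apply Subgroup.eq_top_of_le_card
  have h := Subgroup.card_eq_card_quotient_mul_card_subgroup S.urHom.ker
  rw [S.card_R, Nat.card_congr (QuotientGroup.quotientKerEquivRange S.urHom).toEquiv] at h
  have hk : Nat.card S.urHom.ker ≤ 4 := by
    have h4 : Nat.card {a : G // a ∈ Q ∧ (K.vec a).1.2 = 0 ∧ (K.vec a).2 = 0} = 4 := by
      rw [K.card_lifts S.hyp (fun v => v.1.2 = 0 ∧ v.2 = 0), tail_count]
    rw [← h4]
    refine Nat.card_le_card_of_injective (fun r => ⟨r.1.1, ?_, S.inter ?_ (S.mem_R.1 r.1.2).1⟩)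
      (fun a b h => Subtype.ext (Subtype.ext (congrArg (fun t => t.1) h)))
    all_goals exact (S.ur_zero r.1.2).1 (Multiplicative.ofAdd.injective (MonoidHom.mem_ker.1 r.2))
  have hW : Nat.card (Multiplicative W) = 16 := by rw [Nat.card_eq_fintype_card]; rfl
  rw [hW]
  nlinarith

theorem exists_R (u : W) : ∃ r ∈ S.R, S.ur r = u := by
  obtain ⟨r, hr⟩ := S.urHom_surjective (Multiplicative.ofAdd u)
  exact ⟨r, r.2, Multiplicative.ofAdd.injective hr⟩

/-- An element trivial on the residue space lies in `R Q`. -/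
theorem decompose {c : G} (hc : c * z = z * c) (hcx : K.act c x0 = x0) (hres : ∀ w, K.res c w = w) :
    ∃ r ∈ S.R, ∃ q ∈ Q, c = r * q := by
  obtain ⟨r, hr, hu⟩ := S.exists_R (K.act c f0).2
  refine ⟨r, hr, r⁻¹ * c, ?_, by group⟩
  have hrz := (S.mem_R.1 hr).2
  have hrz' : r⁻¹ * z = z * r⁻¹ := (Commute.inv_left hrz).eq
  refine K.mem_of_act S.hyp (by rw [mul_assoc, hc, ← mul_assoc, hrz', mul_assoc]) fun v => ?_
  have h1 : K.act r v = K.act c v := by rw [S.act_R hr, hu, ← K.eq_E S.hyp hc hcx hres]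
  rw [K.act_mul S.hyp hrz' hc, ← h1, K.act_inv_cancel S.hyp hrz]

theorem rho_range : (K.rho S.hyp).range = alternatingGroup (Fin 5) := by
  have H := S.hyp
  refine Equiv.Perm.eq_alternatingGroup_of_index_eq_two ?_
  have hu : (K.uHom H).range = ⊤ := by
    refine top_le_iff.1 fun u _ => ?_
    obtain ⟨r, hr, hur⟩ := S.exists_R (Multiplicative.toAdd u)
    exact ⟨⟨⟨⟨r, mem_centralizer_singleton_iff.2 (S.mem_R.1 hr).2⟩, S.R_fix hr⟩,
      (K.mem_ker H _).2 (S.R_res hr)⟩, congrArg Multiplicative.ofAdd hur⟩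
  have h := K.card_P H
  rw [K.card_P_eq H, hu, Subgroup.card_top, ← K.card_rho H,
    show Nat.card (Multiplicative W) = 16 by rw [Nat.card_eq_fintype_card]; rfl] at h
  have h2 := (K.rho H).range.card_mul_index
  rw [show Nat.card (K.rho H).range = 60 by omega,
    show Nat.card (Equiv.Perm (Fin 5)) = 120 by rw [Nat.card_eq_fintype_card, Fintype.card_perm]; rfl] at h2
  omega

/-- Every even permutation of the five points is induced by an element centralizing `x`. -/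
theorem exists_perm {π : Equiv.Perm (Fin 5)} (hπ : π ∈ alternatingGroup (Fin 5)) :
    ∃ d : G, d * z = z * d ∧ d * x = x * d ∧ K.act d x0 = x0 ∧ ∀ i, K.res d (pt i) = pt (π i) := by
  rw [← S.rho_range] at hπ
  obtain ⟨c, rfl⟩ := hπ
  obtain ⟨d, h1, h2, h3, h4⟩ := S.exists_fix Hyp.comm c.2
  exact ⟨d, h1, h2, h3, fun i => by rw [h4, K.rho_spec S.hyp]⟩

end Base

end CfsgLib.SuzType
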