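import Mathlib
import Cfsg.Agent.Lib.SuzType.Pairing

/-!
The two classes of involutions.
-/

set_option autoImplicit false
set_option linter.style.longLine false

namespace CfsgLib.SuzType

open Subgroup

variable {G : Type*} [Group G] [Finite G] {z : G} {Q : Subgroup G}

theorem double_conj : ∀ π : Equiv.Perm (Fin 5), π * π = 1 → π ≠ 1 → Equiv.Perm.sign π = 1 →
    ∃ σ : Equiv.Perm (Fin 5), Equiv.Perm.sign σ = 1 ∧
      σ * π * σ⁻¹ = Equiv.swap (0 : Fin 5) 1 * Equiv.swap (2 : Fin 5) 3 := by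
  decide +kernel

theorem swap_swap : ∀ i : Fin 5, (Equiv.swap (0 : Fin 5) 1 * Equiv.swap (2 : Fin 5) 3)
    ((Equiv.swap (0 : Fin 5) 1 * Equiv.swap (2 : Fin 5) 3) i) = i := by decide +kernel

/-- An orthogonal map fixing the base point and trivial on the residue space is a translation. -/
theorem map_eq_E {e : ZMod 2} {f : V → V} (hadd : ∀ a b, f (a + b) = f a + f b)
    (hq : ∀ v, qV e (f v) = qV e v) (hx : f x0 = x0) (hres : ∀ w, (f (inj w)).2 = w) :
    f = E e (f f0).2 := by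
  have hB : ∀ a b, B (f a) (f b) = B a b := fun a b => by
    have h := hq (a + b)
    rw [hadd, qV_add, qV_add, hq, hq] at h
    exact add_left_cancel h
  have hf : f f0 = E e (f f0).2 f0 := by
    refine f_image e _ ?_ ?_
    · rw [← hx, hB]; decide
    · rw [hq]
      rcases zcases e with rfl | rfl <;> decide
  refine ext_basis hadd (E_add e _) (by rw [hx, E_x0]) hf fun w => ?_
  have hb : (f (inj w)).1.2 = 0 := by
    have h := hB (inj w) x0
    rw [hx] at h
    simpa [B, x0, inj, BW] using h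
  have hw : f (inj w) = (((f (inj w)).1.1, 0), w) := Prod.ext (Prod.ext rfl hb) (hres w)
  rw [hw]
  refine inj_image e _ w _ ?_
  rw [← hw, ← hf, hB]
  simp [B, f0, inj, BW]

namespace Hyp

variable (H : Hyp z Q)
include H

theorem exists_sylow_le : ∃ S : Sylow 2 G, (S : Subgroup G) ≤ centralizer ({z} : Set G) := by
  have : Fact (Nat.Prime 2) := ⟨Nat.prime_two⟩
  set C := centralizer ({z} : Set G) with hC
  let S₀ : Sylow 2 C := default
  have hQ2 : IsPGroup 2 (Q.subgroupOf C) :=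
    IsPGroup.of_card (n := 7) (by
      rw [Nat.card_congr (Subgroup.subgroupOfEquivOfLe H.hQC).toEquiv, H.card]; norm_num)
  have hQn : (Q.subgroupOf C).Normal :=
    ⟨fun a ha g => H.norm g.1 (mem_centralizer_singleton_iff.1 g.2) a.1 ha⟩
  have hQS : ∀ q ∈ Q, ∀ h : q ∈ C, (⟨q, h⟩ : C) ∈ (S₀ : Subgroup C) := by
    intro q hq h
    obtain ⟨S', hS'⟩ := hQ2.exists_le_sylow
    obtain ⟨g, hg⟩ := MulAction.exists_smul_eq C S' S₀
    rw [← hg, Sylow.coe_subgroup_smul, Subgroup.mem_pointwise_smul_iff_inv_smul_mem]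
    exact hS' (by simpa using hQn.conj_mem ⟨q, h⟩ hq g⁻¹)
  set S := (S₀ : Subgroup C).map C.subtype with hS
  have hS2 : IsPGroup 2 S := S₀.isPGroup'.map _
  obtain ⟨S₁, hS₁⟩ := hS2.exists_le_sylow
  refine ⟨S₁, ?_⟩
  suffices h : (S₁ : Subgroup G) ≤ S from h.trans (map_subtype_le _)
  by_contra hne
  have hnil : Group.IsNilpotent (S₁ : Subgroup G) := S₁.isPGroup'.isNilpotent
  have hlt : S.subgroupOf (S₁ : Subgroup G) < ⊤ := lt_top_iff_ne_top.2 fun h =>
    hne (Subgroup.subgroupOf_eq_top.1 h)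
  obtain ⟨n, hnN, hnS⟩ :=
    SetLike.exists_of_lt (normalizerCondition_of_isNilpotent (S.subgroupOf _) hlt)
  have hconj : ∀ a ∈ S, (n : G)⁻¹ * a * n ∈ S ∧ (n : G) * a * (n : G)⁻¹ ∈ S := fun a ha => by
    have h1 := (mem_normalizer_iff.1 hnN ⟨a, hS₁ ha⟩).1 ha
    have h2 := (mem_normalizer_iff.1 (inv_mem hnN) ⟨a, hS₁ ha⟩).1 ha
    refine ⟨?_, h1⟩
    simpa [Subgroup.mem_subgroupOf] using h2
  have hQS' : ∀ q ∈ Q, q ∈ S := fun q hq => ⟨⟨q, H.hQC hq⟩, hQS q hq _, rfl⟩
  have hzS : z ∈ S := hQS' z H.extra.z_mem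
  set p := (n : G) * z * (n : G)⁻¹ with hp
  have hpS : p ∈ S := (hconj z hzS).2
  have hpc : ∀ q ∈ Q, q * p = p * q := by
    intro q hq
    have h1 := mem_centralizer_singleton_iff.1 (map_subtype_le _ (hconj q (hQS' q hq)).1)
    calc q * p = (n : G) * ((n : G)⁻¹ * q * n * z) * (n : G)⁻¹ := by rw [hp]; group
      _ = p * q := by rw [h1, hp]; group
  have hpQ : p ∈ Q := H.self p (mem_centralizer_singleton_iff.1 (map_subtype_le _ hpS)) hpc
  have hpz : p = z := by
    refine (H.extra.central_cases hpQ hpc).resolve_left fun h => H.extra.ne_one ?_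
    calc z = (n : G)⁻¹ * p * n := by rw [hp]; group
      _ = 1 := by rw [h]; group
  have hnC : (n : G) ∈ C := mem_centralizer_singleton_iff.2 (mul_inv_eq_iff_eq_mul.1 hpz)
  have hmax := S₀.3 (Q := (S₁ : Subgroup G).subgroupOf C)
    (S₁.isPGroup'.comap_of_injective C.subtype C.subtype_injective)
    (fun a ha => hS₁ ⟨a, ha, rfl⟩)
  refine hnS ?_
  show (n : G) ∈ S
  exact ⟨⟨n, hnC⟩, hmax ▸ (n.2 : (n : G) ∈ (S₁ : Subgroup G)), rfl⟩

theorem exists_conj_mem {t : G} (ht : t * t = 1) : ∃ g, g * t * g⁻¹ * z = z * (g * t * g⁻¹) := by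
  have : Fact (Nat.Prime 2) := ⟨Nat.prime_two⟩
  obtain ⟨S, hS⟩ := H.exists_sylow_le
  have hp : IsPGroup 2 (zpowers t) := by
    intro y
    refine ⟨1, Subtype.ext ?_⟩
    obtain ⟨i, hi⟩ := y.2
    show (y : G) ^ (2 ^ 1) = 1
    rw [← hi, pow_one, ← zpow_natCast, ← zpow_mul, mul_comm, zpow_mul, zpow_natCast, pow_two, ht,
      one_zpow]
  obtain ⟨S', hS'⟩ := hp.exists_le_sylow
  obtain ⟨g, hg⟩ := MulAction.exists_smul_eq G S' S
  refine ⟨g, mem_centralizer_singleton_iff.1 (hS ?_)⟩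
  rw [← hg, Sylow.coe_subgroup_smul, Subgroup.mem_pointwise_smul_iff_inv_smul_mem]
  exact hS' (by simp [mul_assoc])

end Hyp

theorem conj_sq_one {c t : G} (ht : t * t = 1) : c * t * c⁻¹ * (c * t * c⁻¹) = 1 := by
  rw [show c * t * c⁻¹ * (c * t * c⁻¹) = c * (t * t) * c⁻¹ by group, ht]; group

theorem conj_comm_z {c t : G} (hc : c * z = z * c) (ht : t * z = z * t) :
    c * t * c⁻¹ * z = z * (c * t * c⁻¹) :=
  ((Commute.mul_left hc ht).mul_left (Commute.inv_left hc)).eq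

namespace Coord

variable (K : Coord z Q 1) (H : Hyp z Q)
include K H

theorem act_conj_apply {c t : G} (hc : c * z = z * c) (ht : t * z = z * t) (v : V) :
    K.act (c * t * c⁻¹) (K.act c v) = K.act c (K.act t v) := by
  rw [← K.act_mul H (conj_comm_z hc ht) hc, inv_mul_cancel_right, K.act_mul H hc ht]

/-- An involution centralizing `z` fixes a singular point. -/
theorem exists_fixed {t : G} (ht : t * z = z * t) (h2 : t * t = 1) :
    ∃ v, v ≠ 0 ∧ qV 1 v = 0 ∧ K.act t v = v := by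
  classical
  have : Fact (Nat.Prime 2) := ⟨Nat.prime_two⟩
  have hinv : ∀ v, K.act t (K.act t v) = v := fun v => by rw [← K.act_mul H ht ht, h2, K.act_one H]
  have hmem : ∀ v : {v : V // v ≠ 0 ∧ qV 1 v = 0}, K.act t v.1 ≠ 0 ∧ qV 1 (K.act t v.1) = 0 := fun v =>
    ⟨fun h => v.2.1 (by rw [← hinv v.1, h, K.act_zero H ht]), (K.act_q H ht _).trans v.2.2⟩
  let f : {v : V // v ≠ 0 ∧ qV 1 v = 0} → {v : V // v ≠ 0 ∧ qV 1 v = 0} := fun v => ⟨_, hmem v⟩
  have hf : Function.Involutive f := fun v => Subtype.ext (hinv v.1)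
  obtain ⟨v, hv⟩ := Equiv.Perm.exists_fixed_point_of_prime (p := 2) (n := 1)
    (by rw [Fintype.card_subtype, singular_card.2]; decide)
    (σ := hf.toPerm) (by
      rw [pow_one, pow_two]
      exact Equiv.ext fun v => hf v)
  exact ⟨v.1, v.2.1, v.2.2, congrArg Subtype.val hv⟩

end Coord

namespace Base

variable {K : Coord z Q 1} {x g : G} (S : Base K x g)
include S

/-- An element conjugate to `t` under `C(z)` fixing `x0` with trivial residual action. -/
theorem reduce {t : G} (ht : t * z = z * t) (h2 : t * t = 1) :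
    ∃ c, c * z = z * c ∧ K.act (c * t * c⁻¹) x0 = x0 ∧ ∀ w, K.res (c * t * c⁻¹) w = w := by
  classical
  have H := S.hyp
  obtain ⟨v, hv, hvq, hfix⟩ := K.exists_fixed H ht h2
  obtain ⟨c, hc, hcv⟩ := K.transitive H (w := x0) hv hvq (by decide) (by decide)
  set t1 := c * t * c⁻¹ with ht1
  have h1z : t1 * z = z * t1 := conj_comm_z hc ht
  have h1x : K.act t1 x0 = x0 := by rw [← hcv, ht1, K.act_conj_apply H hc ht, hfix]
  let p : K.P H := ⟨⟨t1, mem_centralizer_singleton_iff.2 h1z⟩, h1x⟩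
  set π := K.rho H p with hπ
  by_cases h : π = 1
  · refine ⟨c, hc, h1x, (K.mem_ker H p).1 ?_⟩
    rw [← K.rho_ker H]
    exact h
  have hsgn : Equiv.Perm.sign π = 1 :=
    Equiv.Perm.mem_alternatingGroup.1 (by rw [← S.rho_range]; exact ⟨p, rfl⟩)
  have hπ2 : π * π = 1 := by
    rw [hπ, ← map_mul, show p * p = 1 from Subtype.ext (Subtype.ext (conj_sq_one h2)), map_one]
  obtain ⟨σ, hσ, hσπ⟩ := double_conj π hπ2 h hsgn
  obtain ⟨d, hdz, hdx, hd0, hd⟩ := S.exists_perm (Equiv.Perm.mem_alternatingGroup.2 hσ)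
  set t2 := d * t1 * d⁻¹ with ht2
  have h2z : t2 * z = z * t2 := conj_comm_z hdz h1z
  have h2x : K.act t2 x0 = x0 := by
    conv_lhs => rw [← hd0, ht2, K.act_conj_apply H hdz h1z, h1x, hd0]
  have h2res : ∀ i, K.res t2 (pt i) =
      pt ((Equiv.swap (0 : Fin 5) 1 * Equiv.swap (2 : Fin 5) 3) i) := by
    intro i
    have e : K.res (t2 * d) (pt (σ⁻¹ i)) = K.res (d * t1) (pt (σ⁻¹ i)) := by
      rw [ht2, inv_mul_cancel_right]
    rw [K.res_mul H h2z hdz h2x hd0, K.res_mul H hdz h1z hd0 h1x, hd, K.rho_spec H p, hd] at e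
    rw [← hσπ]
    rw [Equiv.Perm.coe_inv, Equiv.apply_symm_apply] at e
    exact e
  let f : V → V := fun v => K.act t2 (L0 v)
  have hE : ∀ v, K.act t2 v = E 1 (f f0).2 (L0 v) := by
    have hf := map_eq_E (e := 1) (f := f) (fun a b => by simp only [f]; rw [L0_spec.1, K.act_add H h2z])
      (fun v => (K.act_q H h2z _).trans (L0_spec.2.2.1 v)) (by simp only [f]; rw [L0_spec.2.2.2, h2x])
      (fun w => by
        refine ext_pt (f := fun w => (f (inj w)).2) (g := fun w => w) (fun a b => ?_) (fun a b => rfl)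
          (fun i => ?_) w
        · simp only [f]
          rw [show inj (a + b) = inj a + inj b from Prod.ext (by simp [inj]) rfl, L0_spec.1, K.act_add H h2z]
          rfl
        · simp only [f]
          rw [K.res_perp H h2z h2x _ rfl, L0_pt, h2res]
          exact congrArg pt (swap_swap i))
    intro v
    rw [← hf]
    simp only [f, L0_spec.2.1]
  obtain ⟨a, ha, haq, hat, haperp⟩ := L0_point (f f0).2 fun v => by
    rw [← hE, ← hE, ← K.act_mul H h2z h2z, ht2, ht1, conj_sq_one (conj_sq_one h2), K.act_one H]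
  obtain ⟨c', hc', hca⟩ := K.transitive H (w := x0) ha haq (by decide) (by decide)
  refine ⟨c' * (d * c), (Commute.mul_left hc' (Commute.mul_left hdz hc)).eq, ?_, ?_⟩ <;>
    rw [show c' * (d * c) * t * (c' * (d * c))⁻¹ = c' * t2 * c'⁻¹ by rw [ht2, ht1]; group]
  · rw [← hca, K.act_conj_apply H hc' h2z, hE, hat]
  · intro w
    obtain ⟨v, hv⟩ := (Finite.injective_iff_surjective.1 (K.act_injective H hc')) (inj w)
    have hperp : B v a = 0 := by
      rw [← K.act_B H hc' v a, hv, hca]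
      simp [B, inj, x0, BW]
    show (K.act (c' * t2 * c'⁻¹) (inj w)).2 = w
    rw [← hv, K.act_conj_apply H hc' h2z, hE]
    rcases haperp v hperp with e | e <;> rw [e]
    · rw [hv]; rfl
    · rw [K.act_add H hc', hv, hca]
      simp [inj, x0]

theorem sq_rq {r q : G} (hr : r ∈ S.R) (hq : q ∈ Q) (hqx : q * x = x * q) :
    r * q * (r * q) = S.el (BW (S.ur r) (K.vec q).2 + qW 1 (K.vec q).2)
      (BW (S.ur r) (K.vec q).2 + qW 1 (S.ur r)) := by
  have hqq : q * q = S.el (qW 1 (K.vec q).2) 0 := by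
    rw [K.sq hq]
    have : qV 1 (K.vec q) = qW 1 (K.vec q).2 := by simp [qV, (S.comm_x_iff hq).1 hqx]
    rw [this]
    rcases zcases (qW 1 (K.vec q).2) with h | h <;> simp [h, el]
  calc r * q * (r * q) = r * q * r⁻¹ * q⁻¹ * (q * (r * r)) * q := by group
    _ = S.el (BW (S.ur r) (K.vec q).2) (BW (S.ur r) (K.vec q).2) * (S.el 0 (qW 1 (S.ur r)) * (q * q)) := by
      rw [S.comm_R hr hq hqx, S.sq_R hr, S.el_comm (S.hyp.extra.comm_z hq) hqx]; group
    _ = _ := by rw [hqq, S.el_mul, S.el_mul]; simp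

theorem isConj_z_of_R {t : G} (ht : t ∈ S.R) (h2 : t * t = 1) (h1 : t ≠ 1) : IsConj z t := by
  obtain ⟨y, hy⟩ := K.conj_of_mem S.hyp (b := g⁻¹ * t * g) (S.mem_R.1 ht).1
    (by rw [show g⁻¹ * t * g * (g⁻¹ * t * g) = g⁻¹ * (t * t) * g by group, h2]; group)
    (fun h => h1 (by
      calc t = g * (g⁻¹ * t * g) * g⁻¹ := by group
        _ = 1 := by rw [h]; group))
  refine isConj_iff.2 ⟨g * y, ?_⟩
  rw [show g * y * z * (g * y)⁻¹ = g * (y * z * y⁻¹) * g⁻¹ by group, hy]; group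

/-- The elements lifting the chosen pair. -/
def Typ (t : G) : Prop :=
  ∃ r q, r ∈ S.R ∧ q ∈ Q ∧ q * x = x * q ∧ t = r * q ∧ S.ur r = u1 ∧ (K.vec q).2 = w1

theorem exists_typ : ∃ t, S.Typ t := by
  obtain ⟨r, hr, hu⟩ := S.exists_R u1
  exact ⟨_, r, K.lift (inj w1), hr, K.lift_mem _, S.lift_x _, rfl, hu, by rw [K.vec_lift]; rfl⟩

theorem typ_sq {t : G} (ht : S.Typ t) : t * t = 1 := by
  obtain ⟨r, q, hr, hq, hqx, rfl, hu, hw⟩ := ht
  rw [S.sq_rq hr hq hqx, hu, hw, base_pair.1, base_pair.2.1, base_pair.2.2,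
    show (1 : ZMod 2) + 1 = 0 from rfl, S.el_zero]

theorem typ_comm {t : G} (ht : S.Typ t) : t * z = z * t := by
  obtain ⟨r, q, hr, hq, -, rfl, -, -⟩ := ht
  exact (Commute.mul_left (S.R_z hr) (S.hyp.extra.comm_z hq)).eq

theorem typ_act {t : G} (ht : S.Typ t) : qV 1 (K.act t f0 + f0) = 1 := by
  obtain ⟨r, q, hr, hq, -, rfl, hu, -⟩ := ht
  rw [K.act_mul S.hyp (S.R_z hr) (S.hyp.extra.comm_z hq), K.act_mem S.hyp hq, S.act_R hr, hu]
  decide +kernel

theorem typ_conj {t t' : G} (ht : S.Typ t) (ht' : S.Typ t') :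
    ∃ c, c * z = z * c ∧ c * t * c⁻¹ = t' := by
  obtain ⟨r, q, hr, hq, hqx, rfl, hu, hw⟩ := ht
  obtain ⟨r', q', hr', hq', hqx', rfl, hu', hw'⟩ := ht'
  obtain ⟨i, j, rfl⟩ := S.ur_congr hr hr' (hu.trans hu'.symm)
  obtain ⟨k, l, e⟩ := S.exists_el (mul_mem (inv_mem hq) hq')
    (by rw [K.mul (inv_mem hq) hq', K.vec_inv hq, Prod.fst_add, Prod.snd_add, (S.comm_x_iff hq).1 hqx,
      (S.comm_x_iff hq').1 hqx', add_zero])
    (by rw [K.mul (inv_mem hq) hq', K.vec_inv hq, Prod.snd_add, hw, hw', addW])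
  obtain rfl := inv_mul_eq_iff_eq_mul.1 e
  obtain ⟨w, hb, ha⟩ := ew_pair (j + l) (i + k + (j + l))
  have hs := K.lift_mem (inj w)
  refine ⟨K.lift (inj w), S.hyp.extra.comm_z hs, ?_⟩
  set s := K.lift (inj w) with hsdef
  have h1 : s * r * s⁻¹ = S.el (j + l) (j + l) * r := by
    have h := congrArg (fun b => b⁻¹ * r) (S.comm_R hr hs (S.lift_x w))
    simp only [hu, hsdef, K.vec_lift] at h
    rw [show (inj w).2 = w from rfl, hb] at h
    rw [inv_eq_of_mul_eq_one_right (S.el_sq _ _)] at h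
    rw [← h, hsdef]; group
  have h2 : s * q * s⁻¹ = S.el (i + k + (j + l)) 0 * q := by
    rw [K.conj hq hs, hsdef, K.vec_lift]
    have hB : B (K.vec q) (inj w) = i + k + (j + l) := by
      rw [B, (S.comm_x_iff hq).1 hqx, hw, show (inj w).2 = w from rfl, ha]
      simp [inj]
    rw [hB]
    rcases zcases (i + k + (j + l)) with h | h <;> simp [h, el]
  calc s * (r * q) * s⁻¹ = (s * r * s⁻¹) * (s * q * s⁻¹) := by group
    _ = r * q * (S.el (j + l) (j + l) * S.el (i + k + (j + l)) 0) := by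
      rw [h1, h2, ← S.R_el hr, mul_assoc, ← mul_assoc (S.el (j + l) (j + l)), S.el_mul,
        ← S.el_comm (S.hyp.extra.comm_z hq) hqx]; group
    _ = r * (S.el i j * q) * S.el k l := by
      rw [← S.el_comm (S.hyp.extra.comm_z hq) hqx i j, S.el_mul,
        show r * (q * S.el i j) * S.el k l = r * q * (S.el i j * S.el k l) by group, S.el_mul]
      congr 2
      · linear_combination CharTwo.add_self_eq_zero (j + l)
      · simp
    _ = _ := by group

/-- Classification of the involutions of `C(z)`. -/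
theorem classify {t t0 : G} (h0 : S.Typ t0) (ht : t * z = z * t) (h2 : t * t = 1) :
    t ∈ Q ∨ (∃ c, c * z = z * c ∧ c * t * c⁻¹ ∈ S.R) ∨ ∃ c, c * z = z * c ∧ c * t * c⁻¹ = t0 := by
  have H := S.hyp
  obtain ⟨c, hc, hx, hres⟩ := S.reduce ht h2
  obtain ⟨r, hr, q, hq, e⟩ := S.decompose (conj_comm_z hc ht) hx hres
  have hsq : r * q * (r * q) = 1 := e ▸ conj_sq_one h2
  by_cases hu : S.ur r = 0
  · refine Or.inl ?_
    have hm : c * t * c⁻¹ ∈ Q := e ▸ mul_mem ((S.ur_zero hr).1 hu) hq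
    have := H.norm c⁻¹ (Commute.inv_left hc).eq _ hm
    simpa [mul_assoc] using this
  right
  have hqx : q * x = x * q := by
    refine (S.comm_x_iff hq).2 ((zcases _).resolve_right fun hb => hu ?_)
    have h : r * q * r⁻¹ = q⁻¹ * S.el 0 (qW 1 (S.ur r)) := by
      have e1 : (r * r)⁻¹ = S.el 0 (qW 1 (S.ur r)) := by
        rw [S.sq_R hr, inv_eq_of_mul_eq_one_right (S.el_sq _ _)]
      have e2 : r * q * r = q⁻¹ := by
        rw [eq_inv_iff_mul_eq_one, ← hsq]; group
      rw [← e1, ← e2]; group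
    have hv := congrArg K.vec h
    rw [← K.act_vec H (S.R_z hr) hq, S.act_R hr, K.mul (inv_mem hq) (S.el_mem _ _), K.vec_inv hq,
      S.vec_el] at hv
    have hv2 := congrArg (fun v : V => v.2) hv
    simpa [tail_E, hb] using hv2
  rw [S.sq_rq hr hq hqx, ← S.el_zero] at hsq
  obtain ⟨hw2, hu2⟩ := S.el_inj hsq
  rcases zcases (BW (S.ur r) (K.vec q).2) with hβ | hβ
  · left
    rw [hβ, zero_add] at hw2 hu2
    by_cases hw : (K.vec q).2 = 0
    · obtain ⟨i, j, rfl⟩ := S.exists_el hq ((S.comm_x_iff hq).1 hqx) hw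
      exact ⟨c, hc, e ▸ mul_mem hr (S.el_R i j)⟩
    · have huw := singular_unique _ _ hu hw hu2 hw2 hβ
      set v := K.lift f0 with hv
      have hvQ : v ∈ Q := K.lift_mem _
      have hri : r⁻¹ * v * r ∈ Q := by
        have := H.norm r⁻¹ (Commute.inv_left (S.R_z hr)).eq v hvQ
        rwa [inv_inv] at this
      obtain ⟨i, j, hel⟩ := S.exists_el (b := r⁻¹ * v * r * q * v⁻¹) (mul_mem (mul_mem hri hq) (inv_mem hvQ))
        (by
          rw [K.mul (mul_mem hri hq) (inv_mem hvQ), K.mul hri hq, K.vec_inv hvQ,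
            show r⁻¹ * v * r = r⁻¹ * v * r⁻¹⁻¹ by group, ← K.act_vec H (Commute.inv_left (S.R_z hr)).eq hvQ,
            S.act_R (inv_mem hr), hv, K.vec_lift]
          simp [E, f0, (S.comm_x_iff hq).1 hqx, CharTwo.add_self_eq_zero])
        (by
          have hui : S.ur r⁻¹ = S.ur r := by
            have := S.ur_mul hr (inv_mem hr)
            rw [mul_inv_cancel, (S.ur_zero (one_mem _)).2 (one_mem _)] at this
            exact (eq_neg_of_add_eq_zero_right this.symm).trans (neg_eq_of_add_eq_zero_left (addW _))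
          rw [K.mul (mul_mem hri hq) (inv_mem hvQ), K.mul hri hq, K.vec_inv hvQ,
            show r⁻¹ * v * r = r⁻¹ * v * r⁻¹⁻¹ by group, ← K.act_vec H (Commute.inv_left (S.R_z hr)).eq hvQ,
            S.act_R (inv_mem hr), hv, K.vec_lift, hui]
          simp [E, f0, ← huw, addW])
      refine ⟨v * c, (Commute.mul_left (H.extra.comm_z hvQ) hc).eq, ?_⟩
      rw [show v * c * t * (v * c)⁻¹ = v * (c * t * c⁻¹) * v⁻¹ by group, e,
        show v * (r * q) * v⁻¹ = r * (r⁻¹ * v * r * q * v⁻¹) by group, hel]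
      exact mul_mem hr (S.el_R i j)
  · right
    rw [hβ] at hw2 hu2
    have one_add : ∀ a : ZMod 2, 1 + a = 0 → a = 1 := by decide
    obtain ⟨i, j, k, hij, hjk, hik, hu', hw'⟩ := triple _ _ (one_add _ hu2) (one_add _ hw2) hβ
    obtain ⟨i', j', k', hij', hjk', hik', hu1, hw1⟩ := triple _ _ base_pair.1 base_pair.2.1 base_pair.2.2
    obtain ⟨π, hπ, hi, hj, hk⟩ := even_three i j k hij hjk hik i' j' k' hij' hjk' hik'
    obtain ⟨d, hdz, hdx, hd0, hd⟩ := S.exists_perm hπ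
    obtain ⟨hm, hum⟩ := S.conj_R hdz hdx hd0 hr
    have hT : S.Typ (d * (r * q) * d⁻¹) := by
      refine ⟨d * r * d⁻¹, d * q * d⁻¹, hm, H.norm d hdz q hq,
        ((Commute.mul_left hdx hqx).mul_left (Commute.inv_left hdx)).eq, by group, ?_, ?_⟩
      · rw [hum, hu', K.res_add H hdz, hd, hd, hi, hj, hu1]
      · rw [← K.act_vec H hdz hq, K.res_perp H hdz hd0 _ ((S.comm_x_iff hq).1 hqx), hw', K.res_add H hdz,
          hd, hd, hj, hk, hw1]
    obtain ⟨y, hy, hyt⟩ := S.typ_conj hT h0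
    refine ⟨y * (d * c), (Commute.mul_left hy (Commute.mul_left hdz hc)).eq, ?_⟩
    rw [← hyt, show d * (r * q) * d⁻¹ = d * (c * t * c⁻¹) * d⁻¹ by rw [e]]; group

/-- The lifts of the chosen pair are not conjugate to `z`. -/
theorem typ_not_conj {t0 : G} (h0 : S.Typ t0) : ¬ IsConj z t0 := by
  classical
  intro hconj
  obtain ⟨h, hh⟩ := isConj_iff.1 hconj
  have H := S.hyp
  have h0z := S.typ_comm h0
  have hnot : ∀ e : G, e ∈ Q → e * e = 1 → e ≠ 1 → e ≠ z → ¬ InQ z Q e t0 := by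
    intro e he he2 he1 hez hin
    obtain ⟨c, hc, hcv⟩ := K.transitive H (w := x0) (fun h => ((K.zero_iff he).1 h).elim he1 hez)
      ((K.invol_iff H.extra.ne_one he).1 he2) (by decide) (by decide)
    obtain ⟨c, hc, hcx⟩ : ∃ c, c * z = z * c ∧ c * e * c⁻¹ = x := by
      rw [K.act_vec H hc he, ← S.hxv] at hcv
      rcases K.eq_or H (H.norm c hc e he) S.hx hcv with k | k
      · exact ⟨c, hc, k⟩
      · obtain ⟨y, hy, hyx⟩ := H.extra.exists_conj_eq S.hx S.x_ne.1 S.x_ne.2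
        refine ⟨y * c, (Commute.mul_left (H.extra.comm_z hy) hc).eq, ?_⟩
        calc y * c * e * (y * c)⁻¹ = y * (c * e * c⁻¹) * y⁻¹ := by group
          _ = y * (z * x) * y⁻¹ := by rw [k]
          _ = z * (y * x * y⁻¹) := by rw [← mul_assoc y z, H.extra.comm_z hy]; group
          _ = z * (z * x) := by rw [hyx]
          _ = x := by rw [← mul_assoc, H.extra.sq_one, one_mul]
    have hR : c * t0 * c⁻¹ ∈ S.R := by
      have := Hyp.inQ_conj c hin
      rw [hcx, H.inQ_iff S.hg] at this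
      exact S.mem_R.2 ⟨this, conj_comm_z hc h0z⟩
    have hq0 : qW 1 (S.ur (c * t0 * c⁻¹)) = 0 := by
      have h := S.sq_R hR
      rw [conj_sq_one (S.typ_sq h0), ← S.el_zero] at h
      exact (S.el_inj h).2.symm
    have h1 := S.typ_act h0
    rw [← K.act_q H hc, K.act_add H hc, ← K.act_conj_apply H hc h0z, S.act_R hR, move_eq] at h1
    simp only [qV, mul_zero, zero_add] at h1
    rcases zcases (K.act c f0).1.2 with k | k <;> simp [k, hq0, qW_zero] at h1
  have hQ0 : t0 ∉ Q := fun hm => by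
    have := S.typ_act h0
    rw [K.act_mem H hm, addV, qV_zero] at this
    exact zero_ne_one this
  have hz : ¬ InQ z Q t0 z := fun hi =>
    hQ0 (H.inQ_z.1 (H.inQ_symm (h := 1) (by group) hi))
  have htriv : ∀ b, b ∈ Q → InQ z Q t0 b → b = 1 := by
    intro b hb hi
    by_contra hb1
    rcases H.extra.sq_cases hb with hb2 | hb2
    · obtain ⟨y, hy⟩ := K.conj_of_mem H hb hb2 hb1
      exact hnot b hb hb2 hb1 (fun k => hz (k ▸ hi)) (H.inQ_symm hy hi)
    · refine hz (hb2 ▸ (H.inQ_iff hh).2 ?_)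
      rw [show h⁻¹ * (b * b) * h = h⁻¹ * b * h * (h⁻¹ * b * h) by group]
      exact mul_mem ((H.inQ_iff hh).1 hi) ((H.inQ_iff hh).1 hi)
  set s := h⁻¹ * z * h with hs
  have hsz : s * z = z * s := by
    rw [← hh] at h0z
    calc s * z = h⁻¹ * (z * (h * z * h⁻¹)) * h := by rw [hs]; group
      _ = h⁻¹ * (h * z * h⁻¹ * z) * h := by rw [h0z]
      _ = z * s := by rw [hs]; group
  have hs2 : s * s = 1 := by rw [hs, show h⁻¹ * z * h * (h⁻¹ * z * h) = h⁻¹ * (z * z) * h by group, H.extra.sq_one]; group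
  have hsQ : s ∉ Q := fun hm => hz ((H.inQ_iff hh).2 hm)
  rcases S.classify h0 hsz hs2 with k | ⟨c, hc, hcR⟩ | ⟨c, hc, hct⟩
  · exact hsQ k
  · set e := c⁻¹ * x * c with he
    have hci : c⁻¹ * z = z * c⁻¹ := (Commute.inv_left hc).eq
    have heQ : e ∈ Q := by
      have := H.norm c⁻¹ hci x S.hx
      rwa [inv_inv] at this
    have hi : InQ z Q x (c * s * c⁻¹) := (H.inQ_iff S.hg).2 (S.mem_R.1 hcR).1
    have hi2 : InQ z Q (h * e * h⁻¹) z := by
      have := Hyp.inQ_conj (h * c⁻¹) hi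
      rwa [show h * c⁻¹ * x * (h * c⁻¹)⁻¹ = h * e * h⁻¹ by rw [he]; group,
        show h * c⁻¹ * (c * s * c⁻¹) * (h * c⁻¹)⁻¹ = z by rw [hs]; group] at this
    have hm : h * e * h⁻¹ ∈ Q := H.inQ_z.1 (H.inQ_symm (h := 1) (by group) hi2)
    have hm2 : InQ z Q t0 (h * e * h⁻¹) := (H.inQ_iff hh).2 (by simpa [mul_assoc] using heQ)
    have he1 : e = 1 := conj_eq_one_iff.1 (htriv _ hm hm2)
    exact S.x_ne.1 (by
      calc x = c * e * c⁻¹ := by rw [he]; group
        _ = 1 := by rw [he1]; group)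
  · have hcA : ∀ a ∈ Q, a * t0 = t0 * a → ∀ m, m * z = z * m → h⁻¹ * m * h ∈ Q →
        m * a = a * m := by
      intro a ha hat m hm hmQ
      have h1 : m * a * m⁻¹ * a⁻¹ ∈ Q := mul_mem (H.norm m hm a ha) (inv_mem ha)
      have hha : h⁻¹ * a * h * z = z * (h⁻¹ * a * h) := by
        calc h⁻¹ * a * h * z = h⁻¹ * (a * (h * z * h⁻¹)) * h := by group
          _ = h⁻¹ * (t0 * a) * h := by rw [hh, hat]
          _ = z * (h⁻¹ * a * h) := by rw [← hh]; group
      have h2 : InQ z Q t0 (m * a * m⁻¹ * a⁻¹) := by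
        refine (H.inQ_iff hh).2 ?_
        rw [show h⁻¹ * (m * a * m⁻¹ * a⁻¹) * h =
          h⁻¹ * m * h * (h⁻¹ * a * h * (h⁻¹ * m * h)⁻¹ * (h⁻¹ * a * h)⁻¹) by group]
        exact mul_mem hmQ (H.norm _ hha _ (inv_mem hmQ))
      exact mul_inv_eq_iff_eq_mul.1 (mul_inv_eq_one.1 (htriv _ h1 h2))
    let M : Subgroup G := Q.map (MulAut.conj h).toMonoidHom ⊓ centralizer ({z} : Set G)
    have hM : ∀ m, m ∈ M ↔ h⁻¹ * m * h ∈ Q ∧ m * z = z * m := by
      intro m
      simp only [M, mem_inf, mem_centralizer_singleton_iff]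
      refine and_congr ⟨?_, fun k => ⟨_, k, by simp [mul_assoc]⟩⟩ Iff.rfl
      rintro ⟨q, hq, rfl⟩
      simpa [mul_assoc] using hq
    obtain ⟨r, q, hr, hq, hqx, rfl, hu, hw⟩ := h0
    have hcomm : ∀ a ∈ Q, (K.vec a).1.2 = 0 → BW (K.vec a).2 u1 = 0 → BW (K.vec a).2 w1 = 0 →
        a * (r * q) = r * q * a := by
      intro a ha h1 h2 h3
      have hra := S.comm_R hr ha ((S.comm_x_iff ha).2 h1)
      rw [hu, BW_comm, h2, S.el_zero] at hra
      have hqa : a * q = q * a := (K.comm_iff H.extra.ne_one ha hq).2 (by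
        simp [B, h1, (S.comm_x_iff hq).1 hqx, hw, h3])
      exact (Commute.mul_right (mul_inv_eq_iff_eq_mul.1 (mul_inv_eq_one.1 hra) : r * a = a * r).symm hqa).eq
    have h16 : 16 ≤ Nat.card M := by
      have hc16 : Nat.card {a : G // a ∈ Q ∧
          ((K.vec a).1.2 = 0 ∧ BW (K.vec a).2 u1 = 0 ∧ BW (K.vec a).2 w1 = 0)} = 16 := by
        rw [K.card_lifts H (fun v => v.1.2 = 0 ∧ BW v.2 u1 = 0 ∧ BW v.2 w1 = 0), perp_count]
      rw [← hc16]
      refine Nat.card_le_card_of_injective (fun a => ⟨h * (c⁻¹ * a.1 * c) * h⁻¹, (hM _).2 ⟨?_, ?_⟩⟩) ?_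
      · have := H.norm c⁻¹ (Commute.inv_left hc).eq _ a.2.1
        rw [inv_inv] at this
        simpa [mul_assoc] using this
      · have k := hcomm a.1 a.2.1 a.2.2.1 a.2.2.2.1 a.2.2.2.2
        calc h * (c⁻¹ * a.1 * c) * h⁻¹ * z = h * c⁻¹ * (a.1 * (c * s * c⁻¹)) * c * h⁻¹ := by rw [hs]; group
          _ = h * c⁻¹ * ((c * s * c⁻¹) * a.1) * c * h⁻¹ := by rw [hct, k]
          _ = z * (h * (c⁻¹ * a.1 * c) * h⁻¹) := by rw [hs]; group
      · intro a b k
        have := congrArg (fun m : M => (m : G)) k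
        simpa [mul_assoc, Subtype.ext_iff] using this
    have hfixes : ∀ a0 : W, BW a0 u1 = 0 → BW a0 w1 = 0 → ∀ m ∈ M, K.act m (inj a0) = inj a0 := by
      intro a0 h1 h2 m hm
      obtain ⟨hmQ, hmz⟩ := (hM m).1 hm
      have ha := K.lift_mem (inj a0)
      have hv := K.vec_lift (inj a0)
      have k := hcA _ ha (hcomm _ ha (by rw [hv]; rfl) (by rw [hv]; exact h1) (by rw [hv]; exact h2)) m hmz hmQ
      rw [← hv, K.act_vec H hmz ha, k, mul_inv_cancel_right]
    have hfa := hfixes a1 base_perp.1 base_perp.2.1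
    have hfb := hfixes b1 base_perp.2.2.1 base_perp.2.2.2.1
    have hzM : ∀ m : M, (m : G) * z = z * m := fun m => ((hM _).1 m.2).2
    have hperm : ∀ (m : M) (i : Fin 5), ∃ j, K.act m (J (pt i)) = J (pt j) := by
      intro m i
      obtain ⟨w, hw'⟩ := J_spec.2.2.2 (K.act m (J (pt i)))
        (by rw [← hfa m m.2, K.act_B H (hzM m)]; exact (J_spec.2.1 _).1)
        (by rw [← hfb m m.2, K.act_B H (hzM m)]; exact (J_spec.2.1 _).2)
      have hJ0 : J (0 : W) = 0 := by decide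
      obtain ⟨j, rfl⟩ := pt_exists w (fun k => by
          rw [k, hJ0] at hw'
          exact (pt_singular i).2 (J_spec.2.2.1 (by
            rw [hJ0]; exact K.act_injective H (hzM m) (hw'.trans (K.act_zero H (hzM m)).symm))))
        (by rw [← J_spec.1, ← hw', K.act_q H (hzM m), J_spec.1]; exact (pt_singular i).1)
      exact ⟨j, hw'⟩
    choose f hf using hperm
    have hJp : Function.Injective fun i => J (pt i) := J_spec.2.2.1.comp pt_injective
    have hf1 : ∀ i, f 1 i = i := fun i => hJp (by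
      show J (pt (f 1 i)) = J (pt i)
      rw [← hf, Subgroup.coe_one, K.act_one H])
    have hfm : ∀ m m' i, f (m * m') i = f m (f m' i) := fun m m' i => hJp (by
      show J (pt (f (m * m') i)) = J (pt (f m (f m' i)))
      rw [← hf, ← hf, ← hf, Subgroup.coe_mul, K.act_mul H (hzM m) (hzM m')])
    let φ : M →* Equiv.Perm (Fin 5) :=
      { toFun := fun m => ⟨f m, f m⁻¹, fun i => by rw [← hfm, inv_mul_cancel, hf1],
          fun i => by rw [← hfm, mul_inv_cancel, hf1]⟩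
        map_one' := Equiv.ext hf1
        map_mul' := fun m m' => Equiv.ext (hfm m m') }
    have hφ : Function.Injective φ := by
      refine (injective_iff_map_eq_one φ).2 fun m hm => ?_
      obtain ⟨hmQ, hmz⟩ := (hM m).1 m.2
      have hpt : ∀ i, K.act m (J (pt i)) = J (pt i) := fun i => by
        rw [hf, show f m i = i from Equiv.ext_iff.1 hm i]
      have hJ : ∀ w, K.act m (J w) = J w := by
        intro w
        have hJ0 : J (0 : W) = 0 := by decide
        rcases pt_span w with rfl | ⟨i, rfl⟩ | ⟨i, j, -, rfl⟩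
        · rw [hJ0, K.act_zero H hmz]
        · exact hpt i
        · rw [J_add, K.act_add H hmz, hpt, hpt]
      refine Subtype.ext (htriv _ (K.mem_of_act H hmz fun v => ?_) ((H.inQ_iff hh).2 hmQ))
      obtain ⟨a, b, w, rfl⟩ := J_split v
      rw [K.act_add H hmz, K.act_add H hmz, hJ]
      rcases zcases a with rfl | rfl <;> rcases zcases b with rfl | rfl <;>
        simp [K.act_zero H hmz, hfa m m.2, hfb m m.2]
    have d1 : Nat.card M ∣ 120 := by
      have := Subgroup.card_dvd_of_injective φ hφ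
      rwa [Nat.card_eq_fintype_card (α := Equiv.Perm (Fin 5)), Fintype.card_perm] at this
    have d2 : Nat.card M ∣ 128 := by
      have := Subgroup.card_dvd_of_le (inf_le_left : M ≤ Q.map (MulAut.conj h).toMonoidHom)
      rwa [Subgroup.card_map_of_injective (MulAut.conj h).injective, H.card] at this
    have d3 := Nat.le_of_dvd (by norm_num) (Nat.dvd_gcd d1 d2)
    norm_num at d3
    omega

end Base

theorem Hyp.two_classes (H : Hyp z Q) : ∃ a b : G, orderOf a = 2 ∧ orderOf b = 2 ∧ ¬ IsConj a b ∧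
    ∀ t : G, orderOf t = 2 → IsConj t a ∨ IsConj t b := by
  have : Fact (Nat.Prime 2) := ⟨Nat.prime_two⟩
  obtain ⟨K⟩ := H.exists_minus
  obtain ⟨x, g, S⟩ := K.exists_base H
  obtain ⟨t0, h0⟩ := S.exists_typ
  have h01 : t0 ≠ 1 := fun k => by
    have := S.typ_act h0
    rw [k, K.act_one H, addV, qV_zero] at this
    exact zero_ne_one this
  refine ⟨z, t0, H.hz, orderOf_eq_prime (by rw [pow_two, S.typ_sq h0]) h01, S.typ_not_conj h0, fun t ht => ?_⟩
  have ht2 : t * t = 1 := by rw [← pow_two, ← ht]; exact pow_orderOf_eq_one t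
  obtain ⟨y, hy⟩ := H.exists_conj_mem ht2
  have hct : IsConj t (y * t * y⁻¹) := isConj_iff.2 ⟨y, rfl⟩
  have hy1 : y * t * y⁻¹ ≠ 1 := fun k => by
    rw [conj_eq_one_iff] at k
    simp [k] at ht
  rcases S.classify h0 hy (conj_sq_one ht2) with k | ⟨c, hc, k⟩ | ⟨c, hc, k⟩
  · obtain ⟨p, hp⟩ := K.conj_of_mem H k (conj_sq_one ht2) hy1
    exact Or.inl (hct.trans (IsConj.symm (isConj_iff.2 ⟨p, hp⟩)))
  · exact Or.inl (hct.trans ((isConj_iff.2 ⟨c, rfl⟩).trans
      (S.isConj_z_of_R k (conj_sq_one (conj_sq_one ht2)) (fun k => hy1 (conj_eq_one_iff.1 k))).symm))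
  · exact Or.inr (hct.trans (isConj_iff.2 ⟨c, k⟩))

end CfsgLib.SuzType
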