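import Mathlib
import Cfsg.Prelude.Def_Classical
import Cfsg.Agent.Lib.Recog.SpectrumSU3
import Cfsg.Agent.Lib.ClassicalGroups.UnitarySimple

/-!
Explicit elements of the four-dimensional unitary group over the field with nine elements: two commuting
transvections centralizing an involution, an element centralizing the first and moving the second, and a
presentation of the first as a commutator inside its centralizer.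
-/

set_option autoImplicit false
set_option linter.style.longLine false
set_option maxHeartbeats 1000000
set_option maxRecDepth 100000

namespace CfsgLib.SuzType.Witness

open Matrix
open CfsgLib.Recog.SU33 (F9 exists_hom)

/-- conjugate transpose times the matrix is one -/
def Uni (A : Matrix (Fin 4) (Fin 4) F9) : Prop := Aᵀ * A.map (fun x => x * (x * x)) = 1 ∧ A.det = 1

def mA : Matrix (Fin 4) (Fin 4) F9 := !![⟨1, 1⟩, ⟨1, 1⟩, ⟨0, 0⟩, ⟨0, 0⟩; ⟨2, 1⟩, ⟨1, 2⟩, ⟨0, 0⟩, ⟨0, 0⟩; ⟨0, 0⟩, ⟨0, 0⟩, ⟨1, 0⟩, ⟨0, 0⟩; ⟨0, 0⟩, ⟨0, 0⟩, ⟨0, 0⟩, ⟨1, 0⟩]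
def mB : Matrix (Fin 4) (Fin 4) F9 := !![⟨1, 0⟩, ⟨0, 0⟩, ⟨0, 0⟩, ⟨0, 0⟩; ⟨0, 0⟩, ⟨1, 0⟩, ⟨0, 0⟩, ⟨0, 0⟩; ⟨0, 0⟩, ⟨0, 0⟩, ⟨1, 1⟩, ⟨1, 1⟩; ⟨0, 0⟩, ⟨0, 0⟩, ⟨2, 1⟩, ⟨1, 2⟩]
def mU : Matrix (Fin 4) (Fin 4) F9 := !![⟨2, 0⟩, ⟨1, 2⟩, ⟨2, 0⟩, ⟨0, 0⟩; ⟨1, 1⟩, ⟨0, 0⟩, ⟨2, 2⟩, ⟨0, 0⟩; ⟨1, 0⟩, ⟨1, 2⟩, ⟨1, 0⟩, ⟨0, 0⟩; ⟨0, 0⟩, ⟨0, 0⟩, ⟨0, 0⟩, ⟨1, 0⟩]
def mW : Matrix (Fin 4) (Fin 4) F9 := !![⟨2, 0⟩, ⟨1, 2⟩, ⟨0, 1⟩, ⟨0, 0⟩; ⟨1, 1⟩, ⟨0, 0⟩, ⟨2, 1⟩, ⟨0, 0⟩; ⟨0, 1⟩, ⟨1, 1⟩, ⟨1, 0⟩, ⟨0, 0⟩; ⟨0, 0⟩, ⟨0, 0⟩, ⟨0, 0⟩, ⟨1, 0⟩]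
def mD : Matrix (Fin 4) (Fin 4) F9 := !![⟨1, 0⟩, ⟨0, 0⟩, ⟨0, 0⟩, ⟨0, 0⟩; ⟨0, 0⟩, ⟨1, 0⟩, ⟨0, 0⟩, ⟨0, 0⟩; ⟨0, 0⟩, ⟨0, 0⟩, ⟨0, 1⟩, ⟨0, 0⟩; ⟨0, 0⟩, ⟨0, 0⟩, ⟨0, 0⟩, ⟨0, 2⟩]
def mS : Matrix (Fin 4) (Fin 4) F9 := !![⟨1, 0⟩, ⟨0, 0⟩, ⟨0, 0⟩, ⟨0, 0⟩; ⟨0, 0⟩, ⟨1, 0⟩, ⟨0, 0⟩, ⟨0, 0⟩; ⟨0, 0⟩, ⟨0, 0⟩, ⟨2, 0⟩, ⟨0, 0⟩; ⟨0, 0⟩, ⟨0, 0⟩, ⟨0, 0⟩, ⟨2, 0⟩]
def mB2 : Matrix (Fin 4) (Fin 4) F9 := !![⟨1, 0⟩, ⟨0, 0⟩, ⟨0, 0⟩, ⟨0, 0⟩; ⟨0, 0⟩, ⟨1, 0⟩, ⟨0, 0⟩, ⟨0, 0⟩; ⟨0, 0⟩, ⟨0, 0⟩, ⟨1, 1⟩, ⟨2, 2⟩; ⟨0, 0⟩, ⟨0, 0⟩, ⟨1, 2⟩, ⟨1, 2⟩]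
def mP : Matrix (Fin 4) (Fin 4) F9 := !![⟨0, 0⟩, ⟨0, 0⟩, ⟨1, 0⟩, ⟨0, 0⟩; ⟨0, 0⟩, ⟨0, 0⟩, ⟨0, 0⟩, ⟨1, 0⟩; ⟨1, 0⟩, ⟨0, 0⟩, ⟨0, 0⟩, ⟨0, 0⟩; ⟨0, 0⟩, ⟨1, 0⟩, ⟨0, 0⟩, ⟨0, 0⟩]
def mC : Matrix (Fin 4) (Fin 4) F9 := !![⟨1, 0⟩, ⟨0, 0⟩, ⟨0, 0⟩, ⟨0, 0⟩; ⟨0, 0⟩, ⟨1, 0⟩, ⟨0, 0⟩, ⟨0, 0⟩; ⟨0, 0⟩, ⟨0, 0⟩, ⟨0, 0⟩, ⟨0, 2⟩; ⟨0, 0⟩, ⟨0, 0⟩, ⟨0, 2⟩, ⟨0, 0⟩]

theorem uni_all : (Uni mA ∧ Uni mB ∧ Uni mU ∧ Uni mW) ∧ (Uni mD ∧ Uni mS ∧ Uni mP) := by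
  unfold Uni; decide +kernel

theorem rel_all : (mA * mA * mA = 1 ∧ mB * mB * mB = 1 ∧ mS * mS = 1 ∧ mA * mS = mS * mA ∧ mB * mS = mS * mB) ∧
    (mD * mS = mS * mD ∧ mA * mB = mB * mA ∧ mD * mA = mA * mD ∧ mU * mA = mA * mU ∧ mW * mA = mA * mW) ∧
    (mU * mW = mA * (mW * mU) ∧ mB2 * mD = mD * mB ∧ mB2 * mB * mC = mB * mB2) ∧
    (mC * mP ≠ mP * mC ∧ mS * mP ≠ mP * mS ∧ mA * mP ≠ mP * mA) := by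
  decide +kernel

variable {K : Type*} [Field K] [Fintype K]

theorem exists_lift (φ : F9 →+* K) [CharP K 3] {A : Matrix (Fin 4) (Fin 4) F9} (hA : Uni A) :
    ∃ g : Cfsg.SU 4 K 3, g.1.1 = A.map φ := by
  haveI : Fact (Nat.Prime 3) := ⟨Nat.prime_three⟩
  obtain ⟨hA, hdet⟩ := hA
  have hdet' : (A.map φ).det = 1 := by
    rw [← RingHom.mapMatrix_apply, ← RingHom.map_det, hdet, map_one]
  refine ⟨⟨⟨A.map φ, hdet'⟩, fun x y => ?_⟩, rfl⟩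
  show Cfsg.hermForm 4 K 3 ((A.map φ) *ᵥ x) ((A.map φ) *ᵥ y) = Cfsg.hermForm 4 K 3 x y
  have h1 : (A.map φ)ᵀ * (A.map φ).map (fun x => x ^ 3) = 1 := by
    have h2 : (A.map φ).map (fun x => x ^ 3) = (A.map (fun x => x * (x * x))).map φ := by
      ext i j; simp [pow_succ, mul_assoc]
    rw [h2, ← Matrix.transpose_map, ← Matrix.map_mul, hA, Matrix.map_one _ (map_zero φ) (map_one φ)]
  have h3 : ∀ (M : Matrix (Fin 4) (Fin 4) K) (w : Fin 4 → K) (i : Fin 4),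
      ((M *ᵥ w) i) ^ 3 = ((M.map (fun x => x ^ 3)) *ᵥ (fun l => (w l) ^ 3)) i := by
    intro M w i
    simp only [Matrix.mulVec, dotProduct, Matrix.map_apply, sum_pow_char, mul_pow]
  simp only [Cfsg.hermForm, h3]
  change ((A.map φ) *ᵥ x) ⬝ᵥ ((A.map φ).map (fun x => x ^ 3) *ᵥ fun l => y l ^ 3) = x ⬝ᵥ fun l => y l ^ 3
  rw [Matrix.dotProduct_mulVec, ← Matrix.mulVec_transpose, Matrix.mulVec_mulVec]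
  have h4 : ((A.map φ).map (fun x => x ^ 3))ᵀ * A.map φ = 1 := by
    rw [← Matrix.transpose_one, ← h1, Matrix.transpose_mul, Matrix.transpose_transpose]
  rw [h4, Matrix.one_mulVec]

/-- The elements. -/
theorem exists_witness (hK : Fintype.card K = 9) :
    ∃ a b d s u w : Cfsg.PSU 4 K 3, (a * a * a = 1 ∧ b * b * b = 1 ∧ s * s = 1 ∧ s ≠ 1 ∧ a ≠ 1) ∧
      (a * s = s * a ∧ b * s = s * b ∧ d * s = s * d ∧ a * b = b * a) ∧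
      (d * a = a * d ∧ u * a = a * u ∧ w * a = a * w ∧ u * w = a * (w * u)) ∧
      d * b * d⁻¹ * b ≠ b * (d * b * d⁻¹) := by
  haveI : Fact (Nat.Prime 3) := ⟨Nat.prime_three⟩
  haveI : CharP K 3 := charP_of_card_eq_prime_pow (f := 2) (by norm_num [hK])
  obtain ⟨φ, hφ⟩ := exists_hom hK
  obtain ⟨⟨hA, hB, hU, hW⟩, hD, hS, hP⟩ := uni_all
  obtain ⟨A, eA⟩ := exists_lift φ hA
  obtain ⟨B, eB⟩ := exists_lift φ hB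
  obtain ⟨U, eU⟩ := exists_lift φ hU
  obtain ⟨W, eW⟩ := exists_lift φ hW
  obtain ⟨D, eD⟩ := exists_lift φ hD
  obtain ⟨S, eS⟩ := exists_lift φ hS
  obtain ⟨P, eP⟩ := exists_lift φ hP
  obtain ⟨⟨r1, r2, r3, r4, r5⟩, ⟨r6, r7, r8, r9, r10⟩, ⟨r11, r12, r13⟩, n1, n2, n3⟩ := rel_all
  have eq_of : ∀ {X Y : Cfsg.SU 4 K 3}, X.1.1 = Y.1.1 → X = Y := fun h => Subtype.ext (Subtype.ext h)
  have val_mul : ∀ X Y : Cfsg.SU 4 K 3, (X * Y).1.1 = X.1.1 * Y.1.1 := fun X Y => rfl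
  have hmap : ∀ (M N : Matrix (Fin 4) (Fin 4) F9), (M * N).map φ = M.map φ * N.map φ := fun M N => Matrix.map_mul
  have hone : (1 : Matrix (Fin 4) (Fin 4) F9).map φ = 1 := Matrix.map_one _ (map_zero φ) (map_one φ)
  have not_center : ∀ {X : Cfsg.SU 4 K 3} {M : Matrix (Fin 4) (Fin 4) F9}, X.1.1 = M.map φ → M * mP ≠ mP * M →
      QuotientGroup.mk' (Subgroup.center (Cfsg.SU 4 K 3)) X ≠ 1 := fun {X M} eX hne h => hne (by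
    have h' := Subgroup.mem_center_iff.1 ((QuotientGroup.eq_one_iff X).1 h) P
    have h'' := congrArg (fun t : Cfsg.SU 4 K 3 => t.1.1) h'
    simp only [val_mul, eX, eP, ← hmap] at h''
    exact (Matrix.map_injective hφ.1 h'').symm)
  let π := QuotientGroup.mk' (Subgroup.center (Cfsg.SU 4 K 3))
  have rel : ∀ {X Y : Cfsg.SU 4 K 3}, X.1.1 = Y.1.1 → π X = π Y := fun h => congrArg π (eq_of h)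
  have hA3 : π (A * A * A) = π 1 := rel (by rw [val_mul, val_mul, eA, ← hmap, ← hmap, r1, hone]; rfl)
  have hB3 : π (B * B * B) = π 1 := rel (by rw [val_mul, val_mul, eB, ← hmap, ← hmap, r2, hone]; rfl)
  have hS2 : π (S * S) = π 1 := rel (by rw [val_mul, eS, ← hmap, r3, hone]; rfl)
  have hAS : π (A * S) = π (S * A) := rel (by rw [val_mul, val_mul, eA, eS, ← hmap, ← hmap, r4])
  have hBS : π (B * S) = π (S * B) := rel (by rw [val_mul, val_mul, eB, eS, ← hmap, ← hmap, r5])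
  have hDS : π (D * S) = π (S * D) := rel (by rw [val_mul, val_mul, eD, eS, ← hmap, ← hmap, r6])
  have hAB : π (A * B) = π (B * A) := rel (by rw [val_mul, val_mul, eA, eB, ← hmap, ← hmap, r7])
  have hDA : π (D * A) = π (A * D) := rel (by rw [val_mul, val_mul, eA, eD, ← hmap, ← hmap, r8])
  have hUA : π (U * A) = π (A * U) := rel (by rw [val_mul, val_mul, eA, eU, ← hmap, ← hmap, r9])
  have hWA : π (W * A) = π (A * W) := rel (by rw [val_mul, val_mul, eA, eW, ← hmap, ← hmap, r10])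
  have hUW : π (U * W) = π (A * (W * U)) :=
    rel (by rw [val_mul, val_mul, val_mul, eA, eU, eW, ← hmap, ← hmap, ← hmap, r11])
  refine ⟨π A, π B, π D, π S, π U, π W, ⟨?_, ?_, ?_, not_center eS n2, not_center eA n3⟩, ⟨?_, ?_, ?_, ?_⟩,
    ⟨?_, ?_, ?_, ?_⟩, ?_⟩
  all_goals try simp only [← map_mul]
  · exact hA3.trans (map_one π)
  · exact hB3.trans (map_one π)
  · exact hS2.trans (map_one π)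
  · exact hAS
  · exact hBS
  · exact hDS
  · exact hAB
  · exact hDA
  · exact hUA
  · exact hWA
  · exact hUW
  rw [← map_inv, ← map_mul, ← map_mul, ← map_mul]
  intro h
  set B2 := D * B * D⁻¹ with hB2
  have eB2 : B2.1.1 = mB2.map φ := by
    have hDinv : D.1.1 * (D⁻¹).1.1 = 1 := by rw [← val_mul, mul_inv_cancel]; rfl
    rw [hB2, val_mul, val_mul, eD, eB, ← hmap, ← r12, hmap, mul_assoc, ← eD, hDinv, mul_one]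
  set C := (B2 * B)⁻¹ * (B * B2) with hC
  have eC : C.1.1 = mC.map φ := by
    have h1 : ((B2 * B)⁻¹).1.1 * (B2 * B).1.1 = 1 := by rw [← val_mul, inv_mul_cancel]; rfl
    rw [hC, val_mul, val_mul B, eB2, eB, ← hmap, ← r13, hmap, hmap, ← eB2, ← eB, ← val_mul, ← mul_assoc, h1,
      one_mul]
  refine not_center eC n1 ?_
  rw [hC, map_mul, map_inv, inv_mul_eq_one]
  exact h

end CfsgLib.SuzType.Witness
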