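import Mathlib
import Cfsg.Agent.Lib.SuzType.Model
import Cfsg.Agent.Lib.SuzType.Extra

/-!
The elliptic six-dimensional space as a sum of three anisotropic planes, words in reflections, and the
orthogonal maps commuting with the rotation of the third plane.
-/

set_option autoImplicit false
set_option maxHeartbeats 1000000
set_option synthInstance.maxSize 8000
set_option synthInstance.maxHeartbeats 1000000
set_option linter.style.longLine false

namespace CfsgLib.SuzType

/-- first plane -/
def pA : V := ((1, 1), 0)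
def pA' : V := ((1, 0), ((1, 1), 0))
/-- second plane -/
def pB : V := ((1, 1), ((1, 0), 0))
def pB' : V := ((1, 1), ((0, 1), 0))
/-- third plane -/
def pC : V := (0, (0, (1, 0)))
def pC' : V := (0, (0, (0, 1)))

/-- the rotation of the third plane -/
def Y0 (v : V) : V := (v.1, (v.2.1, (v.2.2.2, v.2.2.1 + v.2.2.2)))

/-- a word of reflections -/
def app (L : List V) : V → V := L.foldr (fun a f v => refl a (f v)) id

theorem app_nil (v : V) : app [] v = v := rfl

theorem app_cons (a : V) (L : List V) (v : V) : app (a :: L) v = refl a (app L v) := rfl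

theorem app_append (L M : List V) (v : V) : app (L ++ M) v = app L (app M v) := by
  induction L with
  | nil => rfl
  | cons a L ih => rw [List.cons_append, app_cons, app_cons, ih]

theorem app_add (L : List V) (a b : V) : app L (a + b) = app L a + app L b := by
  induction L with
  | nil => rfl
  | cons c L ih => rw [app_cons, app_cons, app_cons, ih, refl_add]

theorem app_q {L : List V} (hL : ∀ a ∈ L, qV 1 a = 1) (v : V) : qV 1 (app L v) = qV 1 v := by
  induction L with
  | nil => rfl
  | cons a L ih =>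
    rw [app_cons, refl_q 1 a _ (Or.inl (hL a List.mem_cons_self)), ih fun b hb => hL b (List.mem_cons_of_mem _ hb)]

/-- the basis adapted to the three planes -/
def six : Fin 6 → V := ![pA, pA', pB, pB', pC, pC']

theorem six_span : ∀ v : V, ∃ a b c d g h : ZMod 2,
    v = a • pA + b • pA' + c • pB + d • pB' + g • pC + h • pC' := by decide +kernel

theorem eq_six {f g : V → V} (hf : ∀ a b, f (a + b) = f a + f b) (hg : ∀ a b, g (a + b) = g a + g b)
    (h : ∀ i, f (six i) = g (six i)) : f = g := by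
  funext v
  let F : V →+ V := AddMonoidHom.mk' f hf
  let H : V →+ V := AddMonoidHom.mk' g hg
  show F v = H v
  have hs : ∀ (K : V →+ V) (t : ZMod 2) (x : V), K (t • x) = t • K x := by
    intro K t x
    rcases zcases t with rfl | rfl <;> simp
  have h' : ∀ i, F (six i) = H (six i) := h
  obtain ⟨a, b, c, d, g₁, g₂, rfl⟩ := six_span v
  simp only [map_add, hs]
  rw [show F pA = H pA from h' 0, show F pA' = H pA' from h' 1, show F pB = H pB from h' 2,
    show F pB' = H pB' from h' 3, show F pC = H pC from h' 4, show F pC' = H pC' from h' 5]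

theorem Y0_add : ∀ a b : V, Y0 (a + b) = Y0 a + Y0 b := fun a b => by
  simp only [Y0, Prod.fst_add, Prod.snd_add, Prod.mk_add_mk]
  refine Prod.ext rfl (Prod.ext rfl (Prod.ext rfl ?_))
  dsimp; ring

theorem Y0_word : Y0 = app [pC, pC'] := eq_six Y0_add (app_add _) (by decide +kernel)

theorem Y0_three : ∀ v : V, Y0 (Y0 (Y0 v)) = v := by decide +kernel

/-- parameters for the orthogonal maps of even type commuting with the rotation -/
abbrev Par := Fin 3 × Fin 3 × Fin 3 × Fin 4

/-- representatives modulo the rotations -/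
def rep : Fin 4 → List V :=
  ![[], [pA, pB], [((0, 0), ((1, 0), (1, 0))), ((1, 0), ((1, 0), (1, 0))), pC, ((1, 0), (0, (1, 0)))],
    [((0, 0), ((0, 1), (1, 0))), ((1, 0), ((0, 1), (1, 0))), pC, ((1, 0), (0, (1, 0)))]]

/-- powers of the rotation of the first plane -/
def rA : Fin 3 → List V := ![[], [pA, pA'], [pA, pA', pA, pA']]
/-- powers of the rotation of the second plane -/
def rB : Fin 3 → List V := ![[], [pB, pB'], [pB, pB', pB, pB']]
/-- powers of the rotation of the third plane -/
def rC : Fin 3 → List V := ![[], [pC, pC'], [pC, pC', pC, pC']]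

/-- the word of a parameter -/
def word (p : Par) : List V := rep p.2.2.2 ++ (rA p.1 ++ (rB p.2.1 ++ rC p.2.2.1))

/-- the map of a parameter -/
def pmap (p : Par) : V → V := app (word p)

theorem word_q : ∀ p : Par, ∀ a ∈ word p, qV 1 a = 1 := by decide +kernel

theorem word_even : ∀ p : Par, (word p).length % 2 = 0 := by decide +kernel

theorem pmap_six_inj : ∀ p p' : Par, (∀ i, pmap p (six i) = pmap p' (six i)) → p = p' := by decide +kernel

theorem pmap_inj {p p' : Par} (h : pmap p = pmap p') : p = p' :=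
  pmap_six_inj p p' fun i => by rw [h]

theorem pmap_comm_six : ∀ p : Par, ∀ i, pmap p (Y0 (six i)) = Y0 (pmap p (six i)) := by decide +kernel

theorem pmap_comm (p : Par) (v : V) : pmap p (Y0 v) = Y0 (pmap p v) :=
  congrFun (eq_six (f := fun v => pmap p (Y0 v)) (g := fun v => Y0 (pmap p v))
    (fun a b => by show pmap p _ = _; rw [Y0_add, pmap, app_add])
    (fun a b => by show Y0 (app _ _) = _; rw [app_add, Y0_add]; rfl) (pmap_comm_six p)) v

/-- the six images allowed for a map commuting with the rotation -/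
theorem images : ∀ g : V, Y0 g ≠ g → (∀ h, Y0 h = h → B g h = 0) → qV 1 g = 1 →
    ∀ a : V, Y0 a = a → qV 1 a = 1 → ∀ b : V, Y0 b = b → qV 1 b = 1 → B a b = 1 →
    ∀ c : V, Y0 c = c → qV 1 c = 1 → B a c = 0 → B b c = 0 →
    ∀ d : V, Y0 d = d → qV 1 d = 1 → B a d = 0 → B b d = 0 → B c d = 1 →
    ∃ p : Par, pmap p pC = g ∧
      ((pmap p pA = a ∧ pmap p pA' = b ∧ pmap p pB = c ∧ pmap p pB' = d) ∨
       (pmap p (refl pA pA) = a ∧ pmap p (refl pA pA') = b ∧ pmap p (refl pA pB) = c ∧
        pmap p (refl pA pB') = d)) := by decide +kernel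

theorem moved_perp : ∀ u h : V, Y0 h = h → B (Y0 u + u) h = 0 := by decide +kernel

theorem pC_moved : ∃ u : V, Y0 u + u = pC := by decide +kernel

theorem six_facts : (Y0 pA = pA ∧ Y0 pA' = pA' ∧ Y0 pB = pB ∧ Y0 pB' = pB' ∧ Y0 pC = pC' ∧ Y0 pC ≠ pC) ∧
    (qV 1 pA = 1 ∧ qV 1 pA' = 1 ∧ qV 1 pB = 1 ∧ qV 1 pB' = 1 ∧ qV 1 pC = 1) ∧
    (B pA pA' = 1 ∧ B pA pB = 0 ∧ B pA pB' = 0 ∧ B pA' pB = 0 ∧ B pA' pB' = 0 ∧ B pB pB' = 1) ∧
    refl pA pC = pC ∧ refl pA pC' = pC' := by decide +kernel

/-- An orthogonal map commuting with the rotation is of even type or is one followed by a reflection. -/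
theorem classify {f : V → V} (hadd : ∀ a b, f (a + b) = f a + f b) (hq : ∀ v, qV 1 (f v) = qV 1 v)
    (hinj : Function.Injective f) (hY : ∀ v, f (Y0 v) = Y0 (f v)) :
    ∃ p : Par, f = pmap p ∨ f = fun v => pmap p (refl pA v) := by
  have hB : ∀ a b, B (f a) (f b) = B a b := fun a b => by
    have h := hq (a + b)
    rw [hadd, qV_add, qV_add, hq, hq] at h
    exact add_left_cancel h
  obtain ⟨⟨hA, hA', hB', hB'', hC, hCne⟩, ⟨q1, q2, q3, q4, q5⟩, ⟨b1, b2, b3, b4, b5, b6⟩, r1, r2⟩ := six_facts
  obtain ⟨u, hu⟩ := pC_moved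
  have hfix : ∀ {v}, Y0 v = v → Y0 (f v) = f v := fun {v} h => by rw [← hY, h]
  obtain ⟨p, hp, hcase⟩ := images (f pC) (fun h => hCne (hinj (by rw [hY, h])))
    (fun h hh => by rw [← hu, hadd, hY]; exact moved_perp _ _ hh) (by rw [hq, q5])
    _ (hfix hA) (by rw [hq, q1]) _ (hfix hA') (by rw [hq, q2]) (by rw [hB, b1])
    _ (hfix hB') (by rw [hq, q3]) (by rw [hB, b2]) (by rw [hB, b4])
    _ (hfix hB'') (by rw [hq, q4]) (by rw [hB, b3]) (by rw [hB, b5]) (by rw [hB, b6])
  have hp' : pmap p pC' = f pC' := by rw [← hC, pmap_comm, hp, hY]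
  refine ⟨p, ?_⟩
  rcases hcase with ⟨h1, h2, h3, h4⟩ | ⟨h1, h2, h3, h4⟩
  · refine Or.inl (eq_six hadd (app_add _) fun i => ?_)
    fin_cases i
    exacts [h1.symm, h2.symm, h3.symm, h4.symm, hp.symm, hp'.symm]
  · refine Or.inr (eq_six hadd (fun a b => by show app _ _ = _; rw [refl_add, app_add]; rfl) fun i => ?_)
    fin_cases i
    · exact h1.symm
    · exact h2.symm
    · exact h3.symm
    · exact h4.symm
    · show f pC = pmap p (refl pA pC); rw [r1, hp]
    · show f pC' = pmap p (refl pA pC'); rw [r2, hp']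

end CfsgLib.SuzType
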