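import Mathlib
import Cfsg.Agent.Lib.SuzType.Classes
import Cfsg.Agent.Lib.SuzType.ThreeModel

/-!
The centralizer acts on the coordinates as the products of an even number of reflections: it induces every
such product and no reflection.
-/

set_option autoImplicit false
set_option linter.style.longLine false
set_option maxHeartbeats 1000000
set_option synthInstance.maxSize 8000
set_option synthInstance.maxHeartbeats 1000000

namespace CfsgLib.SuzType

open Subgroup

variable {G : Type*} [Group G] [Finite G] {z : G} {Q : Subgroup G}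

theorem common_singular : ∀ a : V, qV 1 a = 1 → ∀ b : V, qV 1 b = 1 →
    ∃ v : V, v ≠ 0 ∧ qV 1 v = 0 ∧ B v a = 0 ∧ B v b = 0 := by decide +kernel

theorem perp_x0_tail : ∀ a : V, qV 1 a = 1 → B x0 a = 0 → a.1.2 = 0 ∧ qW 1 a.2 = 1 := by decide +kernel

theorem refl_inj_tail : ∀ a : V, a.1.2 = 0 → ∀ w : W,
    (refl a (inj w)).1.2 = 0 ∧ (refl a (inj w)).2 = w + BW w a.2 • a.2 := by decide +kernel

theorem swap_refl : ∀ i j k : Fin 5, i ≠ j →
    pt k + BW (pt k) (pt i + pt j) • (pt i + pt j) = pt (Equiv.swap i j k) := by decide +kernel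

theorem refl_B (a u v : V) (ha : qV 1 a = 1 ∨ a = 0) : B (refl a u) (refl a v) = B u v := by
  have h := refl_q 1 a (u + v) ha
  rw [refl_add, qV_add, qV_add, refl_q 1 a u ha, refl_q 1 a v ha] at h
  exact add_left_cancel h

theorem refl_smul (a : V) (t : ZMod 2) (v : V) : refl a (t • v) = t • refl a v := by
  rcases zcases t with rfl | rfl
  · rw [zero_smul, zero_smul]
    have := refl_add a 0 0
    rw [add_zero] at this
    exact left_eq_add.mp this
  · rw [one_smul, one_smul]

theorem refl_conj (a b v : V) (hb : qV 1 b = 1 ∨ b = 0) : refl b (refl a v) = refl (refl b a) (refl b v) := by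
  show refl b (v + B v a • a) = refl b v + B (refl b v) (refl b a) • refl b a
  rw [refl_add, refl_smul, refl_B b v a hb]

/-- A nonsingular vector orthogonal to the base point swaps two of the five points. -/
theorem refl_pts {a : V} (ha : qV 1 a = 1) (hx : B x0 a = 0) :
    ∃ i j : Fin 5, i ≠ j ∧ ∀ k, (refl a (inj (pt k))).1.2 = 0 ∧ (refl a (inj (pt k))).2 = pt (Equiv.swap i j k) := by
  obtain ⟨h1, h2⟩ := perp_x0_tail a ha hx
  obtain ⟨i, j, hij, he⟩ := nonsing_pair a.2 h2
  refine ⟨i, j, hij, fun k => ?_⟩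
  obtain ⟨h3, h4⟩ := refl_inj_tail a h1 (pt k)
  exact ⟨h3, by rw [h4, he, swap_refl i j k hij]⟩

theorem refl_x0 {a : V} (hx : B x0 a = 0) : refl a x0 = x0 := by
  simp [refl, hx]

namespace Coord

variable (K : Coord z Q 1) (H : Hyp z Q)
include H

theorem act_transform {s t : V} (hs : qV 1 s = 1 ∨ s = 0) (ht : qV 1 t = 1 ∨ t = 0) {c : G}
    (hc : c * z = z * c) (v : V) :
    (K.transform s t hs ht).act c (refl t (refl s v)) = refl t (refl s (K.act c v)) := by
  have hx := K.lift_mem v
  have h1 : (K.transform s t hs ht).vec (K.lift v) = refl t (refl s v) := by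
    show refl t (refl s (K.vec (K.lift v))) = _
    rw [K.vec_lift]
  rw [← h1, (K.transform s t hs ht).act_vec H hc hx]
  rfl

/-- A product of two reflections orthogonal to the base point is induced. -/
theorem exists_act_pair_base {a b : V} (ha : qV 1 a = 1) (hb : qV 1 b = 1) (hxa : B x0 a = 0)
    (hxb : B x0 b = 0) : ∃ c : G, c * z = z * c ∧ ∀ v, K.act c v = refl a (refl b v) := by
  obtain ⟨x, g, S⟩ := K.exists_base H
  obtain ⟨i, j, hij, hpa⟩ := refl_pts ha hxa
  obtain ⟨k, l, hkl, hpb⟩ := refl_pts hb hxb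
  let f : V → V := fun v => refl a (refl b v)
  have fadd : ∀ u v, f (u + v) = f u + f v := fun u v => by show refl a _ = _; rw [refl_add, refl_add]
  have fq : ∀ v, qV 1 (f v) = qV 1 v := fun v => by
    rw [refl_q 1 a _ (Or.inl ha), refl_q 1 b _ (Or.inl hb)]
  have fx : f x0 = x0 := by show refl a _ = _; rw [refl_x0 hxb, refl_x0 hxa]
  obtain ⟨d, hdz, -, hdx0, hd⟩ := S.exists_perm (π := Equiv.swap i j * Equiv.swap k l)
    (Equiv.Perm.mem_alternatingGroup.2 (by simp [hij, hkl]))
  have hd' : d⁻¹ * z = z * d⁻¹ := (Commute.inv_left hdz).eq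
  have hdx0' : K.act d⁻¹ x0 = x0 := by
    conv_lhs => rw [← hdx0]
    rw [K.act_inv_cancel H hdz]
  let h : V → V := fun v => K.act d⁻¹ (f v)
  have hfi : ∀ k', (f (inj (pt k'))).1.2 = 0 ∧ (f (inj (pt k'))).2 = pt ((Equiv.swap i j * Equiv.swap k l) k') := by
    intro k'
    obtain ⟨h1, h2⟩ := hpb k'
    have e : refl b (inj (pt k')) = (((refl b (inj (pt k'))).1.1, 0), pt (Equiv.swap k l k')) :=
      Prod.ext (Prod.ext rfl h1) h2
    obtain ⟨h3, h4⟩ := hpa (Equiv.swap k l k')
    show (refl a (refl b (inj (pt k')))).1.2 = 0 ∧ (refl a (refl b (inj (pt k')))).2 = _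
    rw [e]
    have hsplit : ((((refl b (inj (pt k'))).1.1, (0 : ZMod 2)), pt (Equiv.swap k l k')) : V) =
        (refl b (inj (pt k'))).1.1 • x0 + inj (pt (Equiv.swap k l k')) := by
      rcases zcases (refl b (inj (pt k'))).1.1 with r | r <;> simp [r, x0, inj]
    rw [hsplit, refl_add, refl_smul, refl_x0 hxa]
    exact ⟨by simpa [x0] using h3, by simpa [x0] using h4⟩
  have hh : h = E 1 (h f0).2 := by
    refine map_eq_E (fun u v => by show K.act _ _ = _; rw [fadd, K.act_add H hd'])
      (fun v => by show qV 1 (K.act _ _) = _; rw [K.act_q H hd', fq]) (by show K.act _ (f x0) = _; rw [fx, hdx0'])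
      fun w => ?_
    refine ext_pt (f := fun w => (h (inj w)).2) (g := fun w => w) (fun u v => ?_) (fun u v => rfl) (fun k' => ?_) w
    · show (K.act _ (f (inj (u + v)))).2 = _
      rw [show inj (u + v) = inj u + inj v from Prod.ext (by simp [inj]) rfl, fadd, K.act_add H hd']
      rfl
    · show (K.act d⁻¹ (f (inj (pt k')))).2 = pt k'
      obtain ⟨h1, h2⟩ := hfi k'
      rw [K.res_perp H hd' hdx0' _ h1, h2, ← hd k', K.res_inv_cancel H hdz hdx0]
  obtain ⟨r, hr, hur⟩ := S.exists_R (h f0).2
  have hrz := (S.mem_R.1 hr).2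
  refine ⟨d * r, (Commute.mul_left hdz hrz).eq, fun v => ?_⟩
  rw [K.act_mul H hdz hrz, S.act_R hr, hur, ← hh]
  show K.act d (K.act d⁻¹ (f v)) = f v
  conv_lhs => rw [← K.act_mul H hdz hd', mul_inv_cancel, K.act_one H]

/-- Every product of two reflections is induced. -/
theorem exists_act_pair {a b : V} (ha : qV 1 a = 1) (hb : qV 1 b = 1) :
    ∃ c : G, c * z = z * c ∧ ∀ v, K.act c v = refl a (refl b v) := by
  obtain ⟨v, hv, hvq, hva, hvb⟩ := common_singular a ha b hb
  obtain ⟨s, hs, t, ht, hst⟩ := move 1 v hv hvq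
  have hB : ∀ u, B x0 (refl t (refl s u)) = B v u := fun u => by
    rw [← hst, refl_B t _ _ ht, refl_B s _ _ hs]
  have hq : ∀ u, qV 1 (refl t (refl s u)) = qV 1 u := fun u => by
    rw [refl_q 1 t _ ht, refl_q 1 s _ hs]
  obtain ⟨c, hc, hact⟩ := (K.transform s t hs ht).exists_act_pair_base H (a := refl t (refl s a))
    (b := refl t (refl s b)) (by rw [hq, ha]) (by rw [hq, hb]) (by rw [hB, hva]) (by rw [hB, hvb])
  refine ⟨c, hc, fun w => ?_⟩
  have h1 := hact (refl t (refl s w))
  rw [K.act_transform H hs ht hc, ← refl_conj _ t _ ht, ← refl_conj _ s _ hs, ← refl_conj _ t _ ht,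
    ← refl_conj _ s _ hs] at h1
  have h2 := congrArg (fun u => refl s (refl t u)) h1
  simpa [refl_refl _ (B_self s), refl_refl _ (B_self t)] using h2

/-- No reflection is induced. -/
theorem not_refl {a : V} (ha : qV 1 a = 1) {c : G} (hc : c * z = z * c) : ¬ ∀ v, K.act c v = refl a v := by
  intro hact
  obtain ⟨v, hv, hvq, hva, -⟩ := common_singular a ha a ha
  obtain ⟨s, hs, t, ht, hst⟩ := move 1 v hv hvq
  set K' := K.transform s t hs ht with hK'
  set a' := refl t (refl s a) with ha'def
  have ha' : qV 1 a' = 1 := by rw [ha'def, refl_q 1 t _ ht, refl_q 1 s _ hs, ha]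
  have hxa : B x0 a' = 0 := by rw [← hst, ha'def, refl_B t _ _ ht, refl_B s _ _ hs, hva]
  have hact' : ∀ u, K'.act c u = refl a' u := fun u => by
    have h := K.act_transform H hs ht hc (refl s (refl t u))
    rw [hact, refl_conj a s _ hs, refl_conj (refl s a) t _ ht, refl_refl _ (B_self s), refl_refl _ (B_self t)] at h
    exact h
  obtain ⟨x, g, S⟩ := K'.exists_base H
  obtain ⟨i, j, hij, hp⟩ := refl_pts ha' hxa
  let cP : K'.P H := ⟨⟨c, mem_centralizer_singleton_iff.2 hc⟩, (hact' x0).trans (refl_x0 hxa)⟩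
  have hperm : K'.rho H cP = Equiv.swap i j := by
    refine Equiv.ext fun k => pt_injective ?_
    rw [← K'.rho_spec H]
    show (K'.act c (inj (pt k))).2 = _
    rw [hact', (hp k).2]
  have hmem : Equiv.swap i j ∈ alternatingGroup (Fin 5) := by
    rw [← S.rho_range]
    exact ⟨cP, hperm⟩
  rw [Equiv.Perm.mem_alternatingGroup, Equiv.Perm.sign_swap hij] at hmem
  exact absurd hmem (by decide)

/-- A word of even length in reflections is induced. -/
theorem exists_act_word : ∀ L : List V, (∀ a ∈ L, qV 1 a = 1) → L.length % 2 = 0 →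
    ∃ c : G, c * z = z * c ∧ ∀ v, K.act c v = app L v
  | [], _, _ => ⟨1, by rw [one_mul, mul_one], fun v => K.act_one H v⟩
  | [_], _, h => absurd h (by simp)
  | a :: b :: L, hq, h => by
    obtain ⟨c, hc, hca⟩ := exists_act_word L
      (fun d hd => hq d (List.mem_cons_of_mem _ (List.mem_cons_of_mem _ hd)))
      (by simp only [List.length_cons] at h; omega)
    obtain ⟨d, hd, hda⟩ := K.exists_act_pair H (hq a List.mem_cons_self)
      (hq b (List.mem_cons_of_mem _ List.mem_cons_self))
    exact ⟨d * c, (Commute.mul_left hd hc).eq, fun v => by rw [K.act_mul H hd hc, hca, hda]; rfl⟩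

end Coord

end CfsgLib.SuzType
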