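import Mathlib
import Cfsg.Agent.Lib.SuzType.ThreeEven

/-!
Coordinates in which an element of order three with commutator subgroup a quaternion group rotates the
third plane.
-/

set_option autoImplicit false
set_option linter.style.longLine false
set_option maxHeartbeats 1000000
set_option synthInstance.maxSize 8000
set_option synthInstance.maxHeartbeats 1000000

namespace CfsgLib.SuzType

open Subgroup

variable {G : Type*} [Group G] [Finite G] {z : G} {Q : Subgroup G}

theorem move_pC : ∀ g : V, qV 1 g = 1 → ∃ s : V, (qV 1 s = 1 ∨ s = 0) ∧ ∃ t : V, (qV 1 t = 1 ∨ t = 0) ∧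
    refl t (refl s g) = pC := by decide +kernel

theorem move_pC' : ∀ h : V, qV 1 h = 1 → B pC h = 1 → ∃ s : V, (qV 1 s = 1 ∨ s = 0) ∧ B pC s = 0 ∧
    ∃ t : V, (qV 1 t = 1 ∨ t = 0) ∧ B pC t = 0 ∧ refl t (refl s h) = pC' := by decide +kernel

theorem plane_perp : ∀ i : Fin 4, B ((![pA, pA', pB, pB'] : Fin 4 → V) i) pC = 0 ∧
    B ((![pA, pA', pB, pB'] : Fin 4 → V) i) pC' = 0 := by decide +kernel

theorem plane_facts : qV 1 pC = 1 ∧ B pC pC' = 1 ∧ Y0 pC = pC' ∧ Y0 pC' = pC + pC' ∧
    B pC' pC = 1 ∧ B pC pC = 0 ∧ B pC' pC' = 0 ∧ B (pC + pC') pC = 1 := by decide +kernel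

/-- Coordinates in which `y` is the rotation of the third plane. -/
structure Three (K : Coord z Q 1) (y : G) : Prop where
  hyp : Hyp z Q
  ord : orderOf y = 3
  yz : y * z = z * y
  act : K.act y = Y0

namespace Coord

variable (K : Coord z Q 1) (H : Hyp z Q)
include H

theorem exists_three {y : G} (hy : orderOf y = 3) (hyz : y * z = z * y) {U : Finset V}
    (hU : ∀ v, K.act y v + v ∈ U) (hU4 : U.card ≤ 4) (hns : ¬ ∀ a ∈ U, ∀ b ∈ U, B a b = 0) :
    ∃ K' : Coord z Q 1, Three K' y := by
  classical
  have hy2 : y * y * z = z * (y * y) := (Commute.mul_left hyz hyz).eq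
  have h3 : ∀ v, K.act y (K.act y (K.act y v)) = v := fun v => by
    rw [← K.act_mul H hyz hyz v, ← K.act_mul H hyz hy2 v, show y * (y * y) = y ^ 3 by rw [pow_succ', pow_two],
      ← hy, pow_orderOf_eq_one, K.act_one H]
  have hne : ∃ v, K.act y v + v ≠ 0 := by
    by_contra hcon
    push Not at hcon
    have hQ := K.mem_of_act H hyz fun v => by
      have h := hcon v
      have : K.act y v = v := by rw [← add_zero (K.act y v), ← addV v, ← add_assoc, h, zero_add]
      exact this
    have h1 : orderOf y ∣ 128 := by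
      rw [← H.card, ← Subgroup.orderOf_mk y hQ]
      exact orderOf_dvd_natCard _
    rw [hy] at h1
    norm_num at h1
  obtain ⟨v, hv⟩ := hne
  set w := K.act y v + v with hw
  have hyw : K.act y w = K.act y (K.act y v) + K.act y v := K.act_add H hyz _ _
  have hsum : w + K.act y w + K.act y (K.act y w) = 0 := by
    rw [hyw, K.act_add H hyz, h3, hw]
    generalize K.act y (K.act y v) = b
    generalize K.act y v = a
    have e : a + v + (b + a) + (v + b) = (a + a) + (v + v) + (b + b) := by abel
    rw [e]; simp [addV]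
  have hne' : K.act y w ≠ w := fun h => hv (by rwa [h, h, addV, zero_add] at hsum)
  have hy0 : K.act y w ≠ 0 := fun h => hv (K.act_injective H hyz (h.trans (K.act_zero H hyz).symm))
  have hthird : K.act y (K.act y w) = w + K.act y w := by
    rw [← add_zero (w + K.act y w), ← addV (K.act y (K.act y w)), ← add_assoc, hsum, zero_add]
  -- the image is this plane
  have hwU : w ∈ U := hU v
  have hywU : K.act y w ∈ U := by rw [hyw]; exact hU _
  have hwywU : w + K.act y w ∈ U := by
    rw [← hthird, hyw, K.act_add H hyz]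
    exact hU _
  have h0U : (0 : V) ∈ U := by
    have := hU 0
    rwa [K.act_zero H hyz, add_zero] at this
  have hUeq : U = {0, w, K.act y w, w + K.act y w} := by
    refine (Finset.eq_of_subset_of_card_le (fun a ha => ?_) (hU4.trans_eq ?_)).symm
    · simp only [Finset.mem_insert, Finset.mem_singleton] at ha
      rcases ha with rfl | rfl | rfl | rfl
      exacts [h0U, hwU, hywU, hwywU]
    · symm
      rw [Finset.card_insert_of_notMem, Finset.card_insert_of_notMem, Finset.card_pair]
      · intro h
        exact hv (by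
          have h' := congrArg (fun t => t + K.act y w) h
          simpa [addV, add_assoc] using h'.symm)
      · simp only [Finset.mem_insert, Finset.mem_singleton, not_or]
        refine ⟨hne'.symm, fun h => hy0 ?_⟩
        exact left_eq_add.mp h
      · simp only [Finset.mem_insert, Finset.mem_singleton, not_or]
        refine ⟨Ne.symm hv, Ne.symm hy0, fun h => hne' ?_⟩
        rw [← zero_add (K.act y w), ← addV w, add_assoc, ← h, add_zero]
  have hqy : qV 1 (K.act y w) = qV 1 w := K.act_q H hyz w
  have hqwy : qV 1 (w + K.act y w) = qV 1 w := by rw [← hthird, K.act_q H hyz, hqy]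
  have hBw : B w (K.act y w) = qV 1 w := by
    have h := qV_add 1 w (K.act y w)
    rw [hqwy, hqy] at h
    have h' : qV 1 w = B w (K.act y w) := by
      conv_lhs => rw [h]
      rw [show qV 1 w + qV 1 w = 0 from CharTwo.add_self_eq_zero _, zero_add]
    exact h'.symm
  have hqw : qV 1 w = 1 := by
    refine (zcases (qV 1 w)).resolve_left fun h0 => hns fun a ha b hb => ?_
    rw [hUeq] at ha hb
    simp only [Finset.mem_insert, Finset.mem_singleton] at ha hb
    have e1 : B w (K.act y w) = 0 := hBw.trans h0
    have e2 : B (K.act y w) w = 0 := by rw [B_comm, e1]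
    have z1 : ∀ u, B 0 u = 0 := fun u => by simp [B, BW]
    have z2 : ∀ u, B u 0 = 0 := fun u => by simp [B, BW]
    rcases ha with rfl | rfl | rfl | rfl <;> rcases hb with rfl | rfl | rfl | rfl <;>
      simp only [z1, z2, B_add_left, B_add_right, e1, e2, B_self, add_zero]
  -- move the plane
  obtain ⟨s, hs, t, ht, hst⟩ := move_pC w hqw
  have hB1 : ∀ a b, B (refl t (refl s a)) (refl t (refl s b)) = B a b := fun a b => by
    rw [refl_B t _ _ ht, refl_B s _ _ hs]
  obtain ⟨s', hs', hs'C, t', ht', ht'C, hst'⟩ := move_pC' (refl t (refl s (K.act y w)))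
    (by rw [refl_q 1 t _ ht, refl_q 1 s _ hs, hqy, hqw]) (by rw [← hst, hB1, hBw, hqw])
  set K₁ := K.transform s t hs ht with hK₁
  set K₂ := K₁.transform s' t' hs' ht' with hK₂
  set M : V → V := fun u => refl t' (refl s' (refl t (refl s u))) with hM
  have hact : ∀ u, K₂.act y (M u) = M (K.act y u) := fun u => by
    show K₂.act y (refl t' (refl s' _)) = _
    rw [K₁.act_transform H hs' ht' hyz, K.act_transform H hs ht hyz]
  have hMw : M w = pC := by
    show refl t' (refl s' (refl t (refl s w))) = pC
    rw [hst]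
    simp [refl, hs'C, ht'C]
  have hMyw : M (K.act y w) = pC' := hst'
  have hMadd : ∀ a b, M (a + b) = M a + M b := fun a b => by simp only [hM, refl_add]
  have hMsurj : ∀ u, ∃ a, M a = u := fun u => ⟨refl s (refl t (refl s' (refl t' u))), by
    simp [hM, refl_refl _ (B_self s), refl_refl _ (B_self t), refl_refl _ (B_self s'), refl_refl _ (B_self t')]⟩
  obtain ⟨-, hCC', hYC, hYC', hC'C, hCC, hC'C', hCC'C⟩ := plane_facts
  have hC : K₂.act y pC = pC' := by rw [← hMw, hact, hMyw]
  have hC' : K₂.act y pC' = pC + pC' := by rw [← hMyw, hact, hthird, hMadd, hMw, hMyw]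
  have hfix : ∀ i : Fin 4, K₂.act y ((![pA, pA', pB, pB'] : Fin 4 → V) i) = (![pA, pA', pB, pB'] : Fin 4 → V) i := by
    intro i
    obtain ⟨p1, p2⟩ := plane_perp i
    set q := (![pA, pA', pB, pB'] : Fin 4 → V) i
    obtain ⟨a, ha⟩ := hMsurj q
    have hu : K.act y a + a ∈ U := hU a
    rw [hUeq] at hu
    simp only [Finset.mem_insert, Finset.mem_singleton] at hu
    have hd : K₂.act y q + q = M (K.act y a + a) := by rw [hMadd, ← hact, ha]
    have k1 : B (K₂.act y q) pC' = B q pC := by rw [← hC, K₂.act_B H hyz]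
    have k2 : B (K₂.act y q) (pC + pC') = B q pC' := by rw [← hC', K₂.act_B H hyz]
    rw [B_add_right, k1, p1, p2, add_zero] at k2
    have d1 : B (K₂.act y q + q) pC = 0 := by rw [B_add_left, k2, p1, add_zero]
    have d2 : B (K₂.act y q + q) pC' = 0 := by rw [B_add_left, k1, p1, p2, add_zero]
    have hz : K₂.act y q + q = 0 := by
      rcases hu with h | h | h | h <;> rw [hd, h] at d1 d2 ⊢
      · have h0 := hMadd 0 0
        rw [add_zero] at h0
        exact left_eq_add.mp h0
      · rw [hMw, hCC'] at d2; exact absurd d2 one_ne_zero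
      · rw [hMyw, hC'C] at d1; exact absurd d1 one_ne_zero
      · rw [hMadd, hMw, hMyw, hCC'C] at d1; exact absurd d1 one_ne_zero
    calc K₂.act y q = K₂.act y q + (q + q) := by rw [addV, add_zero]
      _ = q := by rw [← add_assoc, hz, zero_add]
  refine ⟨K₂, H, hy, hyz, eq_six (K₂.act_add H hyz) Y0_add fun i => ?_⟩
  obtain ⟨⟨yA, yA', yB, yB', -, -⟩, -⟩ := six_facts
  fin_cases i
  · exact (hfix 0).trans yA.symm
  · exact (hfix 1).trans yA'.symm
  · exact (hfix 2).trans yB.symm
  · exact (hfix 3).trans yB'.symm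
  · exact hC.trans hYC.symm
  · exact hC'.trans hYC'.symm

end Coord

end CfsgLib.SuzType
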