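import Mathlib
import Cfsg.Agent.Lib.SuzType.ThreeNormal
import Cfsg.Agent.Lib.MonsterType.LocalLift

/-!
The common centralizer of `z` and a rotation `y` of the third plane.
-/

set_option autoImplicit false
set_option linter.style.longLine false
set_option maxHeartbeats 1000000
set_option synthInstance.maxSize 8000
set_option synthInstance.maxHeartbeats 1000000

namespace CfsgLib.SuzType

open Subgroup

variable {G : Type*} [Group G] [Finite G] {z : G} {Q : Subgroup G}

theorem fix_count : (Finset.univ.filter fun v : V => Y0 v = v).card = 16 := by decide +kernel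

theorem rC_six : ∀ k : Fin 3, ∀ i, pmap ((0, 0, k, 0) : Par) (six i) = Y0^[(k : ℕ)] (six i) := by decide +kernel

/-- The common centralizer. -/
def Dg {G : Type*} [Group G] (z y : G) : Subgroup G := centralizer ({z} : Set G) ⊓ centralizer ({y} : Set G)

theorem mem_Dg {G : Type*} [Group G] {z y c : G} : c ∈ Dg z y ↔ c * z = z * c ∧ c * y = y * c := by
  rw [Dg, mem_inf, mem_centralizer_singleton_iff, mem_centralizer_singleton_iff]

namespace Three

variable {K : Coord z Q 1} {y : G} (T : Three K y)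
include T

theorem y_mem : y ∈ Dg z y := mem_Dg.2 ⟨T.yz, rfl⟩

theorem z_mem : z ∈ Dg z y := mem_Dg.2 ⟨rfl, T.yz.symm⟩

theorem y_three : y ^ 3 = 1 := by rw [← T.ord, pow_orderOf_eq_one]

theorem vec_conj {q : G} (hq : q ∈ Q) : K.vec (y * q * y⁻¹) = Y0 (K.vec q) := by
  rw [← K.act_vec T.hyp T.yz hq, T.act]

theorem comm_y_iff {q : G} (hq : q ∈ Q) : q * y = y * q ↔ Y0 (K.vec q) = K.vec q := by
  constructor
  · intro h
    rw [← T.vec_conj hq, ← h, mul_inv_cancel_right]
  · intro h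
    rw [← T.vec_conj hq] at h
    rcases K.eq_or T.hyp (T.hyp.norm y T.yz q hq) hq h with e | e
    · exact (mul_inv_eq_iff_eq_mul.1 e).symm
    · exfalso
      refine T.hyp.extra.ne_one ?_
      have hyz' : y * (z * q) * y⁻¹ = z * (y * q * y⁻¹) := by rw [← mul_assoc y z, T.yz]; group
      have h3 : y * (y * (y * q * y⁻¹) * y⁻¹) * y⁻¹ = q := by
        calc y * (y * (y * q * y⁻¹) * y⁻¹) * y⁻¹ = y ^ 3 * q * (y ^ 3)⁻¹ := by
              simp [pow_succ, mul_assoc]
          _ = q := by rw [T.y_three]; group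
      rw [e, hyz', e, ← mul_assoc z z q, Coord.zz T.hyp, one_mul, e] at h3
      exact mul_eq_right.1 h3

theorem mem_Q_iff {q : G} (hq : q ∈ Q) : q ∈ Dg z y ↔ Y0 (K.vec q) = K.vec q := by
  rw [mem_Dg, ← T.comm_y_iff hq]
  exact and_iff_right (T.hyp.extra.comm_z hq)

theorem act_pow (k : Fin 3) : K.act (y ^ (k : ℕ)) = pmap ((0, 0, k, 0) : Par) := by
  have hit : ∀ n : ℕ, K.act (y ^ n) = Y0^[n] := by
    intro n
    induction n with
    | zero => funext v; rw [pow_zero, K.act_one T.hyp]; rfl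
    | succ n ih =>
      funext v
      rw [pow_succ', K.act_mul T.hyp T.yz ((show Commute y z from T.yz).pow_left n).eq, ih, T.act,
        Function.iterate_succ_apply']
  refine eq_six (K.act_add T.hyp ((show Commute y z from T.yz).pow_left _).eq) (app_add _) fun i => ?_
  rw [hit, rC_six]

/-- The image is of even type. -/
theorem exists_par {c : G} (hc : c ∈ Dg z y) : ∃ p, K.act c = pmap p := by
  obtain ⟨hcz, hcy⟩ := mem_Dg.1 hc
  obtain ⟨p, h | h⟩ := classify (K.act_add T.hyp hcz) (K.act_q T.hyp hcz) (K.act_injective T.hyp hcz) fun v => by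
    rw [← T.act, ← K.act_mul T.hyp hcz T.yz, hcy, K.act_mul T.hyp T.yz hcz]
  · exact ⟨p, h⟩
  · exfalso
    obtain ⟨d, hd, hda⟩ := K.exists_act_word T.hyp (word p) (word_q p) (word_even p)
    have hd' : d⁻¹ * z = z * d⁻¹ := (Commute.inv_left hd).eq
    refine K.not_refl T.hyp six_facts.2.1.1 (c := d⁻¹ * c) (Commute.mul_left hd' hcz).eq fun v => ?_
    rw [K.act_mul T.hyp hd' hcz, h]
    show K.act d⁻¹ (app (word p) (refl pA v)) = _
    rw [← hda, K.act_inv_cancel T.hyp hd]

/-- Every map of even type commuting with the rotation is induced inside the common centralizer. -/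
theorem exists_lift (p : Par) : ∃ c ∈ Dg z y, K.act c = pmap p := by
  have : Fact (Nat.Prime 3) := ⟨Nat.prime_three⟩
  obtain ⟨c, hc, hca⟩ := K.exists_act_word T.hyp (word p) (word_q p) (word_even p)
  have hca' : K.act c = pmap p := funext hca
  have hc' : c⁻¹ * z = z * c⁻¹ := (Commute.inv_left hc).eq
  have hy' : y⁻¹ * z = z * y⁻¹ := (Commute.inv_left T.yz).eq
  have hcomm : c * y * c⁻¹ * y⁻¹ ∈ Q := by
    have h1 : c * y * z = z * (c * y) := (Commute.mul_left hc T.yz).eq
    have h2 : c * y * c⁻¹ * z = z * (c * y * c⁻¹) := (Commute.mul_left h1 hc').eq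
    refine K.mem_of_act T.hyp (Commute.mul_left h2 hy').eq fun v => ?_
    rw [K.act_mul T.hyp h2 hy', K.act_mul T.hyp h1 hc', K.act_mul T.hyp hc T.yz, hca', T.act,
      pmap_comm, ← hca']
    have h3 : ∀ u, K.act c (K.act c⁻¹ u) = u := fun u => by
      rw [← K.act_mul T.hyp hc hc', mul_inv_cancel, K.act_one T.hyp]
    rw [h3, ← T.act, ← K.act_mul T.hyp T.yz hy', mul_inv_cancel, K.act_one T.hyp]
  obtain ⟨q, hq, hqc⟩ := CfsgLib.MonsterType.Local.exists_mul_commute (l := 3) (by norm_num)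
    (IsPGroup.of_card (n := 7) (by rw [T.hyp.card]; norm_num)) T.ord (fun q hq => T.hyp.norm y T.yz q hq) hcomm
  have hqz : q * z = z * q := T.hyp.extra.comm_z hq
  refine ⟨q * c, mem_Dg.2 ⟨(Commute.mul_left hqz hc).eq, hqc⟩, funext fun v => ?_⟩
  rw [K.act_mul T.hyp hqz hc, K.act_mem T.hyp hq, hca']

theorem card_QD : Nat.card {q : G // q ∈ Q ∧ q ∈ Dg z y} = 32 := by
  rw [show 32 = 2 * (Finset.univ.filter fun v : V => Y0 v = v).card by rw [fix_count],
    ← K.card_lifts T.hyp]
  exact Nat.card_congr (Equiv.subtypeEquivRight fun q => and_congr_right fun hq => T.mem_Q_iff hq)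

/-- An element of the common centralizer acting as another one differs from it by an element of `Q`. -/
theorem div_mem {c d : G} (hc : c ∈ Dg z y) (hd : d ∈ Dg z y) (h : K.act c = K.act d) :
    c⁻¹ * d ∈ Q ∧ c⁻¹ * d ∈ Dg z y := by
  have hm := mul_mem (inv_mem hc) hd
  refine ⟨K.mem_of_act T.hyp (mem_Dg.1 hm).1 fun v => ?_, hm⟩
  rw [K.act_mul T.hyp (mem_Dg.1 (inv_mem hc)).1 (mem_Dg.1 hd).1, ← h, K.act_inv_cancel T.hyp (mem_Dg.1 hc).1]

theorem card_Dg : Nat.card (Dg z y) = 3456 := by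
  choose c hc hca using T.exists_lift
  let f : Par × {q : G // q ∈ Q ∧ q ∈ Dg z y} → Dg z y := fun t =>
    ⟨c t.1 * t.2.1, mul_mem (hc _) t.2.2.2⟩
  have hact : ∀ p, ∀ q : {q : G // q ∈ Q ∧ q ∈ Dg z y}, K.act (c p * q.1) = pmap p := fun p q => funext fun v => by
    rw [K.act_mul T.hyp (mem_Dg.1 (hc p)).1 (mem_Dg.1 q.2.2).1, K.act_mem T.hyp q.2.1, hca]
  have hbij : Function.Bijective f := by
    refine ⟨fun ⟨p, q⟩ ⟨p', q'⟩ e => ?_, fun d => ?_⟩
    · have e' : c p * q.1 = c p' * q'.1 := congrArg Subtype.val e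
      obtain rfl : p = p' := pmap_inj (by rw [← hact p q, e', hact])
      rw [Subtype.ext (mul_left_cancel e')]
    · obtain ⟨p, hp⟩ := T.exists_par d.2
      obtain ⟨h1, h2⟩ := T.div_mem (hc p) d.2 (by rw [hca, hp])
      exact ⟨(p, ⟨_, h1, h2⟩), Subtype.ext (mul_inv_cancel_left _ _)⟩
  rw [← Nat.card_eq_of_bijective f hbij, Nat.card_prod, T.card_QD, Nat.card_eq_fintype_card]
  rfl

end Three

end CfsgLib.SuzType
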