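import Mathlib
import Cfsg.Agent.Lib.SuzType.ThreeLocal
import Cfsg.Agent.Lib.Large.SLTwoThree

/-!
The two subgroups isomorphic to `SL₂(3)` belonging to the first two planes.
-/

set_option autoImplicit false
set_option linter.style.longLine false
set_option maxHeartbeats 1000000
set_option synthInstance.maxSize 8000
set_option synthInstance.maxHeartbeats 1000000

namespace CfsgLib.SuzType

open Subgroup
open Fin.NatCast

theorem pmap_add (p : Par) (a b : V) : pmap p (a + b) = pmap p a + pmap p b := app_add _ a b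

/-- A plane together with the opposite one and the rotation of the plane. -/
structure Side where
  a : V
  a' : V
  o : V
  o' : V
  r : Fin 3 → Par
  fixed : Y0 a = a ∧ Y0 a' = a' ∧ Y0 o = o ∧ Y0 o' = o'
  qa : qV 1 a = 1 ∧ qV 1 a' = 1
  bil : B a a' = 1 ∧ B a o = 0 ∧ B a o' = 0 ∧ B a' o = 0 ∧ B a' o' = 0 ∧ B o o' = 1
  r_zero : ∀ i, pmap (r 0) (six i) = six i
  r_mul : ∀ i j k, pmap (r i) (pmap (r j) (six k)) = pmap (r (i + j)) (six k)
  r_act : pmap (r 1) a = a' ∧ pmap (r 1) a' = a + a' ∧ pmap (r 1) o = o ∧ pmap (r 1) o' = o'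
  r_ne : ∀ i k : Fin 3, r i = ((0, 0, k, 0) : Par) → i = 0 ∧ k = 0
  split : ∀ v, Y0 v = v → ∃ s t s' t' : ZMod 2, v = s • a + t • a' + (s' • o + t' • o')
  inP_iff : ∀ v, Y0 v = v → B v o = 0 → B v o' = 0 → v ∈ ({0, a, a', a + a'} : Finset V)
  cardP : ({0, a, a', a + a'} : Finset V).card = 4

/-- The first side. -/
def sideA : Side where
  a := pA
  a' := pA'
  o := pB
  o' := pB'
  r i := (i, 0, 0, 0)
  fixed := by decide +kernel
  qa := by decide +kernel
  bil := by decide +kernel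
  r_zero := by decide +kernel
  r_mul := by decide +kernel
  r_act := by decide +kernel
  r_ne := by decide +kernel
  split := by decide +kernel
  inP_iff := by decide +kernel
  cardP := by decide +kernel

/-- The second side. -/
def sideB : Side where
  a := pB
  a' := pB'
  o := pA
  o' := pA'
  r i := (0, i, 0, 0)
  fixed := by decide +kernel
  qa := by decide +kernel
  bil := by decide +kernel
  r_zero := by decide +kernel
  r_mul := by decide +kernel
  r_act := by decide +kernel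
  r_ne := by decide +kernel
  split := by decide +kernel
  inP_iff := by decide +kernel
  cardP := by decide +kernel

namespace Side

variable (s : Side)

/-- membership in the plane -/
def InP (v : V) : Prop := v ∈ ({0, s.a, s.a', s.a + s.a'} : Finset V)

theorem inP_perp {v : V} (h : s.InP v) : Y0 v = v ∧ B v s.o = 0 ∧ B v s.o' = 0 := by
  obtain ⟨-, b1, b2, b3, b4, -⟩ := s.bil
  simp only [InP, Finset.mem_insert, Finset.mem_singleton] at h
  rcases h with rfl | rfl | rfl | rfl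
  · exact ⟨by decide, by simp [B, BW], by simp [B, BW]⟩
  · exact ⟨s.fixed.1, b1, b2⟩
  · exact ⟨s.fixed.2.1, b3, b4⟩
  · exact ⟨by rw [Y0_add, s.fixed.1, s.fixed.2.1], by rw [B_add_left, b1, b3, add_zero],
      by rw [B_add_left, b2, b4, add_zero]⟩

theorem r0 (v : V) : pmap (s.r 0) v = v :=
  congrFun (eq_six (app_add _) (g := fun v => v) (fun _ _ => rfl) s.r_zero) v

theorem rmul (i j : Fin 3) (v : V) : pmap (s.r i) (pmap (s.r j) v) = pmap (s.r (i + j)) v :=
  congrFun (eq_six (f := fun v => pmap (s.r i) (pmap (s.r j) v))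
    (fun a b => by simp only [pmap_add]) (app_add _) (s.r_mul i j)) v

end Side

variable {G : Type*} [Group G] [Finite G] {z : G} {Q : Subgroup G}

/-- The elements attached to a side. -/
def InS (K : Coord z Q 1) (y : G) (s : Side) (c : G) : Prop :=
  c ∈ Dg z y ∧ c * K.lift s.o = K.lift s.o * c ∧ c * K.lift s.o' = K.lift s.o' * c ∧
    ∃ i, K.act c = pmap (s.r i)

namespace Three

variable {K : Coord z Q 1} {y : G} (T : Three K y) (s : Side)
include T

/-- The subgroup of a side. -/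
def sub : Subgroup G where
  carrier := {c | InS K y s c}
  one_mem' := ⟨one_mem _, by rw [one_mul, mul_one], by rw [one_mul, mul_one], 0,
    funext fun v => by rw [K.act_one T.hyp, s.r0]⟩
  mul_mem' := by
    rintro c d ⟨hc, ho, ho', i, hi⟩ ⟨hd, po, po', j, hj⟩
    refine ⟨mul_mem hc hd, ((show Commute c _ from ho).mul_left (show Commute d _ from po)).eq,
      ((show Commute c _ from ho').mul_left (show Commute d _ from po')).eq, i + j, funext fun v => ?_⟩
    rw [K.act_mul T.hyp (mem_Dg.1 hc).1 (mem_Dg.1 hd).1, hi, hj, s.rmul]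
  inv_mem' := by
    rintro c ⟨hc, ho, ho', i, hi⟩
    refine ⟨inv_mem hc, (show Commute c _ from ho).inv_left.eq, (show Commute c _ from ho').inv_left.eq, -i,
      funext fun v => ?_⟩
    conv_lhs => rw [← s.r0 v, ← add_neg_cancel i, ← s.rmul, ← hi]
    rw [K.act_inv_cancel T.hyp (mem_Dg.1 hc).1]

theorem mem_sub {c : G} : c ∈ T.sub s ↔ InS K y s c := Iff.rfl

theorem sub_le : T.sub s ≤ Dg z y := fun _ h => h.1

theorem Q_mem_sub {q : G} (hq : q ∈ Q) : q ∈ T.sub s ↔ s.InP (K.vec q) := by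
  have hne := T.hyp.extra.ne_one
  constructor
  · rintro ⟨hD, ho, ho', -⟩
    refine s.inP_iff _ ((T.mem_Q_iff hq).1 hD) ?_ ?_
    · rw [← K.vec_lift s.o]; exact (K.comm_iff hne hq (K.lift_mem _)).1 ho
    · rw [← K.vec_lift s.o']; exact (K.comm_iff hne hq (K.lift_mem _)).1 ho'
  · intro h
    obtain ⟨hY, h1, h2⟩ := s.inP_perp h
    refine ⟨(T.mem_Q_iff hq).2 hY, (K.comm_iff hne hq (K.lift_mem _)).2 (by rw [K.vec_lift, h1]),
      (K.comm_iff hne hq (K.lift_mem _)).2 (by rw [K.vec_lift, h2]), 0, funext fun v => ?_⟩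
    rw [K.act_mem T.hyp hq, s.r0]

theorem card_plane : Nat.card {q : G // q ∈ Q ∧ q ∈ T.sub s} = 8 := by
  classical
  rw [show 8 = 2 * (Finset.univ.filter fun v : V => v ∈ ({0, s.a, s.a', s.a + s.a'} : Finset V)).card by
      rw [Finset.filter_univ_mem, s.cardP], ← K.card_lifts T.hyp]
  exact Nat.card_congr (Equiv.subtypeEquivRight fun q => and_congr_right fun hq => T.Q_mem_sub s hq)

/-- Lifts of the plane lie in the subgroup. -/
theorem lift_mem_sub {v : V} (h : s.InP v) : K.lift v ∈ T.sub s :=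
  (T.Q_mem_sub s (K.lift_mem v)).2 (by rwa [K.vec_lift])

/-- An element of order three acting as the rotation of the plane. -/
theorem exists_rot : ∃ w ∈ T.sub s, K.act w = pmap (s.r 1) ∧ w ^ 3 = 1 := by
  classical
  have H := T.hyp
  have hne := H.extra.ne_one
  obtain ⟨c, hc, hca⟩ := T.exists_lift (s.r 1)
  have hcz := (mem_Dg.1 hc).1
  have hcases : ∀ {v : V}, pmap (s.r 1) v = v → ∀ {q : G}, q ∈ Q → K.vec q = v →
      c * q * c⁻¹ = q ∨ c * q * c⁻¹ = z * q := fun {v} hv {q} hq hqv =>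
    K.eq_or H (H.norm c hcz q hq) hq (by rw [← K.act_vec H hcz hq, hca, hqv, hv])
  obtain ⟨-, -, ho, ho'⟩ := s.fixed
  obtain ⟨-, -, r3, r4⟩ := s.r_act
  obtain ⟨-, -, -, -, -, bo⟩ := s.bil
  let e1 : ZMod 2 := if c * K.lift s.o * c⁻¹ = K.lift s.o then 0 else 1
  let e2 : ZMod 2 := if c * K.lift s.o' * c⁻¹ = K.lift s.o' then 0 else 1
  set xv : V := e2 • s.o + e1 • s.o' with hxv
  set m := K.lift xv with hm
  have hmQ : m ∈ Q := K.lift_mem _
  have hxY : Y0 xv = xv := by
    rcases zcases e1 with a | a <;> rcases zcases e2 with b | b <;>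
      simp only [hxv, a, b, zero_smul, one_smul, zero_add, add_zero, Y0_add, ho, ho'] <;> decide
  have hmD : m ∈ Dg z y := (T.mem_Q_iff hmQ).2 (by rw [hm, K.vec_lift, hxY])
  have hzero : ∀ v : V, B v 0 = 0 := fun v => by simp [B, BW]
  have hb1 : B s.o xv = e1 := by
    rcases zcases e1 with a | a <;> rcases zcases e2 with b | b <;>
      simp [hxv, a, b, B_add_right, B_self, bo, hzero]
  have hb2 : B s.o' xv = e2 := by
    rcases zcases e1 with a | a <;> rcases zcases e2 with b | b <;>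
      simp [hxv, a, b, B_add_right, B_self, B_comm s.o' s.o, bo, hzero]
  have hfix : ∀ (v : V) (d : ZMod 2), pmap (s.r 1) v = v →
      d = (if c * K.lift v * c⁻¹ = K.lift v then 0 else 1) → B v xv = d →
      m * c * K.lift v = K.lift v * (m * c) := by
    intro v d hv hd hb
    have hmv := K.conj (K.lift_mem v) hmQ
    rw [K.vec_lift, hm, K.vec_lift, hb] at hmv
    have hzz : ∀ u : G, z * (z * u) = u := fun u => by rw [← mul_assoc, Coord.zz H, one_mul]
    refine mul_inv_eq_iff_eq_mul.1 ?_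
    rw [show m * c * K.lift v * (m * c)⁻¹ = m * (c * K.lift v * c⁻¹) * m⁻¹ by group]
    rcases hcases hv (K.lift_mem v) (K.vec_lift v) with e | e
    · rw [e, if_pos rfl] at hd
      rw [hd, if_pos rfl, ← hm] at hmv
      rw [e]
      exact hmv
    · have hne' : c * K.lift v * c⁻¹ ≠ K.lift v := by
        rw [e]; exact fun h => hne (mul_eq_right.1 h)
      rw [if_neg hne'] at hd
      rw [hd, if_neg one_ne_zero, ← hm] at hmv
      rw [e, show m * (z * K.lift v) * m⁻¹ = (m * z * m⁻¹) * (m * K.lift v * m⁻¹) by group, hmv,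
        H.extra.comm_z hmQ, mul_inv_cancel_right, hzz]
  set c' := m * c with hc'
  have hc'D : c' ∈ Dg z y := mul_mem hmD hc
  have hc'a : K.act c' = pmap (s.r 1) := funext fun v => by
    rw [hc', K.act_mul H (mem_Dg.1 hmD).1 hcz, K.act_mem H hmQ, hca]
  have hc'S : c' ∈ T.sub s := ⟨hc'D, hfix _ e1 r3 rfl hb1, hfix _ e2 r4 rfl hb2, 1, hc'a⟩
  have hpow : ∀ n : ℕ, K.act (c' ^ n) = pmap (s.r (n : Fin 3)) := by
    intro n
    induction n with
    | zero => funext v; rw [pow_zero, K.act_one H, Nat.cast_zero, s.r0]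
    | succ n ih =>
      funext v
      rw [pow_succ', K.act_mul H (mem_Dg.1 hc'D).1 (mem_Dg.1 (pow_mem hc'D n)).1, ih, hc'a, s.rmul,
        Nat.cast_succ, add_comm]
  refine ⟨c' ^ 4, pow_mem hc'S 4, by rw [hpow]; rfl, ?_⟩
  have h3 : c' ^ 3 ∈ Q := K.mem_of_act H (mem_Dg.1 (pow_mem hc'D 3)).1 fun v => by
    rw [hpow]
    exact s.r0 v
  have h4 : (c' ^ 3) * (c' ^ 3) = 1 ∨ (c' ^ 3) * (c' ^ 3) = z := H.extra.sq_cases h3
  rw [← pow_mul, show 4 * 3 = 3 * 2 * 2 by norm_num, pow_mul, pow_mul, pow_two (c' ^ 3), pow_two]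
  rcases h4 with e | e <;> rw [e]
  · rw [one_mul]
  · exact Coord.zz H

theorem exists_eq_mul {w : G} (hw : w ∈ T.sub s) (hwa : K.act w = pmap (s.r 1)) {c : G} (hc : c ∈ T.sub s) :
    ∃ (i : ℕ) (q : G), q ∈ Q ∧ q ∈ T.sub s ∧ i < 3 ∧ c = w ^ i * q := by
  obtain ⟨i, hi⟩ := hc.2.2.2
  have hpow : ∀ n : ℕ, K.act (w ^ n) = pmap (s.r (n : Fin 3)) := by
    intro n
    induction n with
    | zero => funext v; rw [pow_zero, K.act_one T.hyp, Nat.cast_zero, s.r0]
    | succ n ih =>
      funext v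
      rw [pow_succ', K.act_mul T.hyp (mem_Dg.1 hw.1).1 (mem_Dg.1 (pow_mem hw.1 n)).1, ih, hwa, s.rmul,
        Nat.cast_succ, add_comm]
  obtain ⟨h1, -⟩ := T.div_mem (pow_mem hw.1 i.val) hc.1 (by rw [hpow, hi, Fin.cast_val_eq_self])
  exact ⟨i.val, _, h1, mul_mem (inv_mem (pow_mem hw _)) hc, i.2, (mul_inv_cancel_left _ _).symm⟩

theorem card_sub : Nat.card (T.sub s) = 24 := by
  obtain ⟨w, hw, hwa, hw3⟩ := T.exists_rot s
  have hinj : ∀ {i j : ℕ}, i < 3 → j < 3 → w ^ i ∈ Q → w ^ j ∈ Q → i = j := by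
    have key : ∀ {i : ℕ}, i < 3 → w ^ i ∈ Q → i = 0 := by
      intro i hi hiQ
      by_contra h0
      have hwQ : w ∈ Q := by
        have e : w = (w ^ i) ^ i := by
          rw [← pow_mul, pow_eq_pow_mod _ hw3, show i * i % 3 = 1 by interval_cases i <;> simp_all, pow_one]
        rw [e]; exact pow_mem hiQ i
      have h := congrFun hwa s.a
      rw [K.act_mem T.hyp hwQ, s.r_act.1] at h
      have := s.bil.1
      rw [← h, B_self] at this
      exact absurd this (by decide)
    intro i j hi hj hiQ hjQ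
    rw [key hi hiQ, key hj hjQ]
  let f : Fin 3 × {q : G // q ∈ Q ∧ q ∈ T.sub s} → T.sub s := fun t =>
    ⟨w ^ (t.1 : ℕ) * t.2.1, mul_mem (pow_mem hw _) t.2.2.2⟩
  have hbij : Function.Bijective f := by
    refine ⟨fun ⟨i, q⟩ ⟨j, q'⟩ e => ?_, fun ⟨c, hc⟩ => ?_⟩
    · have e' : w ^ (i : ℕ) * q.1 = w ^ (j : ℕ) * q'.1 := congrArg Subtype.val e
      have hk : w ^ (((i : ℕ) + 2 * (j : ℕ)) % 3) ∈ Q := by
        rw [← pow_eq_pow_mod _ hw3, add_comm, pow_add]
        have : w ^ (2 * (j : ℕ)) = (w ^ (j : ℕ))⁻¹ := by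
          rw [eq_inv_iff_mul_eq_one, ← pow_add, show 2 * (j : ℕ) + j = 3 * j by ring, pow_mul, hw3, one_pow]
        rw [this, show (w ^ (j : ℕ))⁻¹ * w ^ (i : ℕ) = q'.1 * q.1⁻¹ by
          calc (w ^ (j : ℕ))⁻¹ * w ^ (i : ℕ) = (w ^ (j : ℕ))⁻¹ * (w ^ (i : ℕ) * q.1) * q.1⁻¹ := by group
            _ = q'.1 * q.1⁻¹ := by rw [e']; group]
        exact mul_mem q'.2.1 (inv_mem q.2.1)
      have := hinj (Nat.mod_lt _ (by norm_num)) (show 0 < 3 by norm_num) hk (by rw [pow_zero]; exact one_mem _)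
      obtain rfl : i = j := Fin.ext (by have := i.2; have := j.2; omega)
      rw [Subtype.ext (mul_left_cancel e')]
    · obtain ⟨i, q, hq, hqS, hi, e⟩ := T.exists_eq_mul s hw hwa hc
      exact ⟨(⟨i, hi⟩, ⟨q, hq, hqS⟩), Subtype.ext e.symm⟩
  rw [← Nat.card_eq_of_bijective f hbij, Nat.card_prod, T.card_plane s, Nat.card_eq_fintype_card]
  rfl

/-- Generators of the plane part and the rotation. -/
theorem exists_rel : ∃ I J W : ↥(T.sub s), CfsgLib.Large.SLTwoThree.Rel I J W ∧ (I : G) ∈ Q ∧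
    K.vec (I : G) = s.a ∧ K.act (W : G) = pmap (s.r 1) := by
  have H := T.hyp
  have hne := H.extra.ne_one
  obtain ⟨w, hw, hwa, hw3⟩ := T.exists_rot s
  have hwz := (mem_Dg.1 hw.1).1
  obtain ⟨b1, -⟩ := s.bil
  obtain ⟨r1, r2, -, -⟩ := s.r_act
  have hsq : ∀ {q : G}, q ∈ Q → qV 1 (K.vec q) = 1 → q * q = z := fun {q} hq h => by
    rw [K.sq hq, h, if_neg one_ne_zero]
  have main : ∀ i0 : G, i0 ∈ Q → K.vec i0 = s.a → w * (w * i0 * w⁻¹) * w⁻¹ = i0 * (w * i0 * w⁻¹) →
      ∃ I J W : ↥(T.sub s), CfsgLib.Large.SLTwoThree.Rel I J W ∧ (I : G) ∈ Q ∧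
        K.vec (I : G) = s.a ∧ K.act (W : G) = pmap (s.r 1) := by
    intro i0 hi hv hwj
    set j0 := w * i0 * w⁻¹ with hj0
    have hjQ : j0 ∈ Q := H.norm w hwz _ hi
    have hjv : K.vec j0 = s.a' := by rw [hj0, ← K.act_vec H hwz hi, hwa, hv, r1]
    have hiS : i0 ∈ T.sub s := (T.Q_mem_sub s hi).2 (by simp [Side.InP, hv])
    have hjS : j0 ∈ T.sub s := (T.Q_mem_sub s hjQ).2 (by simp [Side.InP, hjv])
    have hi2 := hsq hi (by rw [hv, s.qa.1])
    have hj2 := hsq hjQ (by rw [hjv, s.qa.2])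
    have hji : j0 * i0 = z * (i0 * j0) := by
      have h := K.conj hi hjQ
      rw [hv, hjv, b1, if_neg one_ne_zero] at h
      rw [← mul_assoc]
      exact mul_inv_eq_iff_eq_mul.1 h
    refine ⟨⟨i0, hiS⟩, ⟨j0, hjS⟩, ⟨w, hw⟩, ⟨?_, ?_, ?_, ?_, ?_, ?_⟩, hi, hv, hwa⟩
    · exact Subtype.ext (show i0 ^ 4 = 1 by rw [show (4 : ℕ) = 2 * 2 from rfl, pow_mul, pow_two i0, hi2, pow_two, Coord.zz H])
    · exact Subtype.ext (show j0 * j0 = i0 ^ 2 by rw [pow_two, hi2, hj2])
    · refine Subtype.ext (show j0 * i0 = i0 ^ 3 * j0 from ?_)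
      rw [hji, pow_succ, pow_two, hi2, mul_assoc]
    · exact Subtype.ext hw3
    · exact Subtype.ext (show w * i0 = j0 * w by rw [hj0, inv_mul_cancel_right])
    · exact Subtype.ext (show w * j0 = i0 * j0 * w from mul_inv_eq_iff_eq_mul.1 hwj)
  set i0 := K.lift s.a with hi0
  have hi := K.lift_mem s.a
  have hv := K.vec_lift s.a
  set j0 := w * i0 * w⁻¹ with hj0
  have hjQ : j0 ∈ Q := H.norm w hwz _ hi
  have hjv : K.vec j0 = s.a' := by rw [hj0, ← K.act_vec H hwz hi, hwa, hv, r1]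
  have hkk : K.vec (w * j0 * w⁻¹) = K.vec (i0 * j0) := by
    rw [← K.act_vec H hwz hjQ, hwa, hjv, r2, K.mul hi hjQ, hv, hjv]
  rcases K.eq_or H (H.norm w hwz _ hjQ) (mul_mem hi hjQ) hkk with e | e
  · exact main i0 hi hv e
  · refine main (z * i0) (mul_mem (Coord.zQ H) hi) (by rw [K.mul (Coord.zQ H) hi, K.vec_z H, zero_add, hv]) ?_
    have hzc : w * z = z * w := hwz
    have e1 : w * (z * i0) * w⁻¹ = z * j0 := by rw [← mul_assoc w z, hzc, hj0]; group
    have e2 : w * (z * j0) * w⁻¹ = z * (w * j0 * w⁻¹) := by rw [← mul_assoc w z, hzc]; group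
    rw [e1, e2, e, mul_assoc z i0 (z * j0), ← mul_assoc i0 z, H.extra.comm_z hi, mul_assoc z i0 j0]

theorem equiv_sl : Nonempty (↥(T.sub s) ≃* Matrix.SpecialLinearGroup (Fin 2) (ZMod 3)) := by
  classical
  obtain ⟨I, J, W, hR, hIQ, hIv, hWa⟩ := T.exists_rel s
  refine CfsgLib.Large.SLTwoThree.nonempty_equiv hR (T.card_sub s) fun L hI hJ hW => ?_
  refine eq_top_iff.2 fun c _ => ?_
  obtain ⟨i, q, hq, hqS, -, e⟩ := T.exists_eq_mul s W.2 hWa c.2
  have hqL : (⟨q, hqS⟩ : ↥(T.sub s)) ∈ L := by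
    set P : Subgroup ↥(T.sub s) := Q.subgroupOf (T.sub s) with hP
    have hPc : Nat.card P = 8 := by
      rw [← T.card_plane s]
      exact Nat.card_congr ⟨fun x => ⟨x.1.1, x.2, x.1.2⟩, fun x => ⟨⟨x.1, x.2.2⟩, x.2.1⟩,
        fun x => rfl, fun x => rfl⟩
    have hWz := (mem_Dg.1 W.2.1).1
    have hJQ : (J : G) ∈ Q := by
      have h : (W : G) * I = J * W := congrArg Subtype.val hR.wi
      rw [show (J : G) = W * I * (W : G)⁻¹ from (mul_inv_eq_iff_eq_mul.2 h).symm]
      exact T.hyp.norm _ hWz _ hIQ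
    have hJv : K.vec (J : G) = s.a' := by
      have h : (W : G) * I = J * W := congrArg Subtype.val hR.wi
      rw [show (J : G) = W * I * (W : G)⁻¹ from (mul_inv_eq_iff_eq_mul.2 h).symm,
        ← K.act_vec T.hyp hWz hIQ, hWa, hIv, s.r_act.1]
    let five : Fin 5 → ↥(L ⊓ P) := ![1, ⟨I * I, mul_mem hI hI, mul_mem hIQ hIQ⟩, ⟨I, hI, hIQ⟩, ⟨J, hJ, hJQ⟩,
      ⟨I * J, mul_mem hI hJ, mul_mem hIQ hJQ⟩]
    have hinj : Function.Injective five := by
      have hI2 : (I : G) * I = z := by rw [K.sq hIQ, hIv, s.qa.1, if_neg one_ne_zero]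
      let val : Fin 5 → V := ![0, 0, s.a, s.a', s.a + s.a']
      have hval : ∀ k, K.vec ((five k).1 : G) = val k := by
        intro k
        fin_cases k
        · exact K.vec_one
        · show K.vec ((I : G) * I) = 0; rw [hI2, K.vec_z T.hyp]
        · exact hIv
        · exact hJv
        · show K.vec ((I : G) * J) = _; rw [K.mul hIQ hJQ, hIv, hJv]; rfl
      have hd : s.a ≠ 0 ∧ s.a' ≠ 0 ∧ s.a ≠ s.a' ∧ s.a + s.a' ≠ 0 ∧ s.a + s.a' ≠ s.a ∧ s.a + s.a' ≠ s.a' := by
        have h0 : ∀ u, B 0 u = 0 := fun u => by simp [B, BW]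
        have h0' : ∀ u, B u 0 = 0 := fun u => by simp [B, BW]
        have b1 := s.bil.1
        have a0 : s.a ≠ 0 := fun h => by rw [h, h0] at b1; exact absurd b1 (by decide)
        have a0' : s.a' ≠ 0 := fun h => by rw [h, h0'] at b1; exact absurd b1 (by decide)
        have aa : s.a ≠ s.a' := fun h => by rw [h, B_self] at b1; exact absurd b1 (by decide)
        exact ⟨a0, a0', aa, fun h => aa (by rw [← add_zero s.a, ← addV s.a', ← add_assoc, h, zero_add]),
          fun h => a0' (add_eq_left.1 h), fun h => a0 (add_eq_right.1 h)⟩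
      obtain ⟨d1, d2, d3, d4, d5, d6⟩ := hd
      intro i j hij
      have hv : val i = val j := by rw [← hval, ← hval, hij]
      have hg := congrArg (fun x : ↥(L ⊓ P) => (x.1 : G)) hij
      fin_cases i <;> fin_cases j <;>
        first
          | rfl
          | (exfalso; simp [five, val, hI2, T.hyp.extra.ne_one, T.hyp.extra.ne_one.symm, d1, d1.symm, d2, d2.symm,
              d3, d3.symm, d4, d4.symm, d5, d5.symm, d6, d6.symm] at hv hg; done)
    have h5 := Nat.card_le_card_of_injective five hinj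
    rw [Nat.card_fin] at h5
    have hdvd : Nat.card ↥(L ⊓ P) ∣ 8 := hPc ▸ card_dvd_of_le inf_le_right
    have h8 : Nat.card ↥(L ⊓ P) = 8 := by
      have := Nat.le_of_dvd (by norm_num) hdvd
      interval_cases h : Nat.card ↥(L ⊓ P) <;> omega
    have hPL : L ⊓ P = P := eq_of_le_of_card_ge inf_le_right (by rw [h8, hPc])
    exact (hPL.symm ▸ (show (⟨q, hqS⟩ : ↥(T.sub s)) ∈ P from hq) : (⟨q, hqS⟩ : ↥(T.sub s)) ∈ L ⊓ P).1
  rw [show c = W ^ i * ⟨q, hqS⟩ from Subtype.ext e]
  exact mul_mem (pow_mem hW i) hqL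

theorem plane_other {s' : Side} (h1 : s'.o = s.a) (h2 : s'.o' = s.a') {q : G} (hq : q ∈ Q) (hqS : q ∈ T.sub s)
    {c : G} (hc : c ∈ T.sub s') : c * q = q * c := by
  have H := T.hyp
  obtain ⟨hcD, hc1, hc2, -⟩ := hc
  have hcz := (mem_Dg.1 hcD).1
  rw [h1] at hc1
  rw [h2] at hc2
  have hlift : ∀ u : G, u ∈ Q → c * u = u * c → K.vec q = K.vec u → c * q = q * c := fun u hu hcu hv => by
    rcases K.eq_or H hq hu hv with rfl | rfl
    · exact hcu
    · rw [← mul_assoc, hcz, mul_assoc, hcu, mul_assoc]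
  have h := (T.Q_mem_sub s hq).1 hqS
  simp only [Side.InP, Finset.mem_insert, Finset.mem_singleton] at h
  rcases h with h | h | h | h
  · exact hlift 1 (one_mem _) (by rw [mul_one, one_mul]) (h.trans K.vec_one.symm)
  · exact hlift _ (K.lift_mem _) hc1 (h.trans (K.vec_lift _).symm)
  · exact hlift _ (K.lift_mem _) hc2 (h.trans (K.vec_lift _).symm)
  · exact hlift _ (mul_mem (K.lift_mem _) (K.lift_mem _)) ((show Commute c _ from hc1).mul_right hc2).eq
      (h.trans (by rw [K.mul (K.lift_mem _) (K.lift_mem _), K.vec_lift, K.vec_lift]))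

/-- The two sides commute. -/
theorem sides_commute {c d : G} (hc : c ∈ T.sub sideA) (hd : d ∈ T.sub sideB) : c * d = d * c := by
  have H := T.hyp
  obtain ⟨w, hw, hwa, hw3⟩ := T.exists_rot sideA
  obtain ⟨v, hv, hva, hv3⟩ := T.exists_rot sideB
  have hwv : w * v = v * w := by
    have hwz := (mem_Dg.1 hw.1).1
    have hvz := (mem_Dg.1 hv.1).1
    set k := w * v * w⁻¹ * v⁻¹ with hk
    have hkD : k ∈ Dg z y := mul_mem (mul_mem (mul_mem hw.1 hv.1) (inv_mem hw.1)) (inv_mem hv.1)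
    have hkz := (mem_Dg.1 hkD).1
    have hact : ∀ u, K.act (w * v) u = K.act (v * w) u := fun u => by
      rw [K.act_mul H hwz hvz, K.act_mul H hvz hwz, hwa, hva]
      exact congrFun (eq_six (f := fun u => pmap (sideA.r 1) (pmap (sideB.r 1) u))
        (g := fun u => pmap (sideB.r 1) (pmap (sideA.r 1) u))
        (fun a b => by simp only [pmap_add])
        (fun a b => by simp only [pmap_add]) (by decide +kernel)) u
    have hkQ : k ∈ Q := K.mem_of_act H hkz fun u => by
      have hvw : v * w * z = z * (v * w) := (Commute.mul_left hvz hwz).eq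
      have hi : (v * w)⁻¹ * z = z * (v * w)⁻¹ := (Commute.inv_left hvw).eq
      rw [show k = w * v * (v * w)⁻¹ by rw [hk]; group, K.act_mul H (Commute.mul_left hwz hvz).eq hi, hact,
        ← K.act_mul H hvw hi, mul_inv_cancel, K.act_one H]
    have hkey : k = 1 ∨ k = z := by
      have hz0 : K.vec k = 0 := by
        have hnorm : ∀ {q : G}, q ∈ Q → q ∈ T.sub sideA → k * q = q * k := fun {q} hq hqS => by
          have hvq := T.plane_other sideA (s' := sideB) rfl rfl hq hqS hv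
          have h1 : v⁻¹ * q * v = q := by rw [mul_assoc, ← hvq, inv_mul_cancel_left]
          have h2 : w⁻¹ * q * w ∈ Q ∧ w⁻¹ * q * w ∈ T.sub sideA := by
            refine ⟨?_, mul_mem (mul_mem (inv_mem hw) hqS) hw⟩
            have := H.norm w⁻¹ (Commute.inv_left hwz).eq q hq
            rwa [inv_inv] at this
          have h3 : v * (w⁻¹ * q * w) = (w⁻¹ * q * w) * v := T.plane_other sideA (s' := sideB) rfl rfl h2.1 h2.2 hv
          calc k * q = w * v * w⁻¹ * (v⁻¹ * q * v) * v⁻¹ := by rw [hk]; group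
            _ = w * (v * (w⁻¹ * q * w)) * w⁻¹ * v⁻¹ := by rw [h1]; group
            _ = q * k := by rw [h3, hk]; group
        have hnormB : ∀ {q : G}, q ∈ Q → q ∈ T.sub sideB → k * q = q * k := fun {q} hq hqS => by
          have h1 : w * q = q * w := T.plane_other sideB (s' := sideA) rfl rfl hq hqS hw
          have h2 : v⁻¹ * q * v ∈ Q ∧ v⁻¹ * q * v ∈ T.sub sideB := by
            refine ⟨?_, mul_mem (mul_mem (inv_mem hv) hqS) hv⟩
            have := H.norm v⁻¹ (Commute.inv_left hvz).eq q hq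
            rwa [inv_inv] at this
          have h3 : w * (v⁻¹ * q * v) = (v⁻¹ * q * v) * w := T.plane_other sideB (s' := sideA) rfl rfl h2.1 h2.2 hw
          have h3' : w⁻¹ * (v⁻¹ * q * v) = (v⁻¹ * q * v) * w⁻¹ :=
            ((show Commute w _ from h3).inv_left).eq
          calc k * q = w * v * (w⁻¹ * (v⁻¹ * q * v)) * v⁻¹ := by rw [hk]; group
            _ = w * q * (v * w⁻¹ * v⁻¹) := by rw [h3']; group
            _ = q * k := by rw [h1, hk]; group
        have hB : ∀ u, sideA.InP u ∨ sideB.InP u → B (K.vec k) u = 0 := fun u hu => by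
          rw [← K.vec_lift u]
          refine (K.comm_iff H.extra.ne_one hkQ (K.lift_mem u)).1 ?_
          rcases hu with hu | hu
          · exact hnorm (K.lift_mem u) (T.lift_mem_sub sideA hu)
          · exact hnormB (K.lift_mem u) (T.lift_mem_sub sideB hu)
        have key : ∀ u : V, Y0 u = u → B u pA = 0 → B u pA' = 0 → B u pB = 0 → B u pB' = 0 → u = 0 := by
          decide +kernel
        exact key _ ((T.mem_Q_iff hkQ).1 hkD) (hB _ (Or.inl (by simp [Side.InP, sideA])))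
          (hB _ (Or.inl (by simp [Side.InP, sideA]))) (hB _ (Or.inr (by simp [Side.InP, sideB])))
          (hB _ (Or.inr (by simp [Side.InP, sideB])))
      exact (K.zero_iff hkQ).1 hz0
    rcases hkey with e | e
    · exact mul_inv_eq_one.1 (show w * v * (v * w)⁻¹ = 1 by rw [← e, hk]; group)
    · exfalso
      refine H.extra.ne_one ?_
      have h1 : w * v * w⁻¹ = z * v := by rw [← e, hk]; group
      have h2 : (z * v) ^ 3 = 1 := by rw [← h1, conj_pow, hv3, mul_one, mul_inv_cancel]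
      rw [(show Commute z v from hvz.symm).mul_pow, hv3, mul_one, pow_succ, pow_two, Coord.zz H, one_mul] at h2
      exact h2
  obtain ⟨i, q, hq, hqS, -, rfl⟩ := T.exists_eq_mul sideA hw hwa hc
  obtain ⟨j, r, hr, hrS, -, rfl⟩ := T.exists_eq_mul sideB hv hva hd
  have h1 : Commute (w ^ i) (v ^ j) := (show Commute w v from hwv).pow_pow i j
  have h2 : Commute (w ^ i) r := (T.plane_other sideB (s' := sideA) rfl rfl hr hrS (pow_mem hw i))
  have h3 : Commute q (v ^ j) := (T.plane_other sideA (s' := sideB) rfl rfl hq hqS (pow_mem hv j) : _ = _).symm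
  have h4 : Commute q r := T.plane_other sideB (s' := sideA) rfl rfl hr hrS hqS
  exact ((h1.mul_right h2).mul_left (h3.mul_right h4)).eq

end Three

end CfsgLib.SuzType
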