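import Mathlib
import Cfsg.Agent.Lib.SuzType.ThreeSide
import Cfsg.Agent.Lib.MonsterType.LocalQuot

/-!
The centralizer of `y` modulo `⟨y⟩` satisfies the hypothesis characterizing the unitary group of dimension
four over the field with nine elements.
-/

set_option autoImplicit false
set_option linter.style.longLine false
set_option maxHeartbeats 1000000
set_option synthInstance.maxSize 8000
set_option synthInstance.maxHeartbeats 1000000

namespace CfsgLib.SuzType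

open Subgroup
open Fin.NatCast

/-- The centralizer of `⟨y⟩`. -/
abbrev Cy {G : Type*} [Group G] (y : G) : Subgroup G := centralizer (zpowers y : Set G)

/-- `⟨y⟩` inside its centralizer. -/
abbrev Zy {G : Type*} [Group G] (y : G) : Subgroup ↥(Cy y) := (zpowers y).subgroupOf (Cy y)

theorem mem_Cy {G : Type*} [Group G] {y c : G} : c ∈ Cy y ↔ c * y = y * c :=
  CfsgLib.MonsterType.Local.mem_centralizer_zpowers

theorem Zy_central {G : Type*} [Group G] {y : G} (c : ↥(Cy y)) {w : ↥(Cy y)} (hw : w ∈ Zy y) : c * w = w * c :=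
  Subtype.ext (mem_centralizer_iff.1 c.2 (w : G) hw).symm

instance Zy_normal {G : Type*} [Group G] (y : G) : (Zy y).Normal :=
  ⟨fun w hw c => by rwa [Zy_central c hw, mul_inv_cancel_right]⟩

/-- The projection. -/
abbrev piY {G : Type*} [Group G] (y : G) : ↥(Cy y) →* ↥(Cy y) ⧸ Zy y := QuotientGroup.mk' (Zy y)

theorem par_mul_six : ∀ i j k : Fin 3, ∀ t,
    pmap ((i, 0, 0, 0) : Par) (pmap ((0, j, 0, 0) : Par) (pmap ((0, 0, k, 0) : Par) (six t))) =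
      pmap ((i, j, k, 0) : Par) (six t) := by decide +kernel

theorem par_four_six : ∀ p : Par, ∃ i j k : Fin 3, ∀ t,
    pmap p (pmap p (pmap p (pmap p (six t)))) = pmap ((i, j, k, 0) : Par) (six t) := by decide +kernel

theorem par_conj_six : ∀ p : Par, ∀ s : Bool, ∃ i j : Fin 3, ∀ t,
    pmap p (pmap (if s then ((1, 0, 0, 0) : Par) else (0, 1, 0, 0)) (six t)) =
      pmap ((i, j, 0, 0) : Par) (pmap p (six t)) := by decide +kernel

theorem par_commuting : ∀ p : Par,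
    (∀ t, pmap p (pmap ((1, 0, 0, 0) : Par) (six t)) = pmap ((1, 0, 0, 0) : Par) (pmap p (six t))) →
    (∀ t, pmap p (pmap ((0, 1, 0, 0) : Par) (six t)) = pmap ((0, 1, 0, 0) : Par) (pmap p (six t))) →
    p.2.2.2 = 0 := by decide +kernel

theorem par_fix : ∀ p : Par, pmap p pA = pA → pmap p pA' = pA' → pmap p pB = pB → pmap p pB' = pB' →
    ∃ k : Fin 3, p = ((0, 0, k, 0) : Par) := by decide +kernel

theorem fix_split : ∀ v : V, Y0 v = v → ∃ a b : V, (a = 0 ∨ a = pA ∨ a = pA' ∨ a = pA + pA') ∧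
    (b = 0 ∨ b = pB ∨ b = pB' ∨ b = pB + pB') ∧ v = a + b := by decide +kernel

theorem plane_meet : ∀ v : V, (v = 0 ∨ v = pA ∨ v = pA' ∨ v = pA + pA') →
    (v = 0 ∨ v = pB ∨ v = pB' ∨ v = pB + pB') → v = 0 := by decide +kernel

theorem fix_radical : ∀ v : V, Y0 v = v → B v pA = 0 → B v pA' = 0 → B v pB = 0 → B v pB' = 0 → v = 0 := by
  decide +kernel

theorem singular_fix : Y0 (pA + pB) = pA + pB ∧ qV 1 (pA + pB) = 0 ∧ pA + pB ≠ 0 := by decide +kernel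

theorem sl_three_products : ∀ g : Matrix.SpecialLinearGroup (Fin 2) (ZMod 3),
    ∃ a b c : Matrix.SpecialLinearGroup (Fin 2) (ZMod 3),
      a ^ 3 = 1 ∧ b ^ 3 = 1 ∧ c ^ 3 = 1 ∧ g = a * b * c := by decide +kernel

variable {G : Type*} [Group G] [Finite G] {z : G} {Q : Subgroup G}

namespace Three

variable {K : Coord z Q 1} {y : G} (T : Three K y)
include T

theorem zY : z ∈ Cy y := mem_Cy.2 T.yz.symm

/-- The image of `z`. -/
def zb : ↥(Cy y) ⧸ Zy y := piY y ⟨z, T.zY⟩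

theorem DY {c : G} (hc : c ∈ Dg z y) : c ∈ Cy y := mem_Cy.2 (mem_Dg.1 hc).2

theorem zpow_cases {c : G} (hc : c ∈ zpowers y) : ∃ k : Fin 3, c = y ^ (k : ℕ) := by
  obtain ⟨n, rfl⟩ := (Submonoid.mem_powers_iff _ _).1 ((isOfFinOrder_of_finite y).mem_powers_iff_mem_zpowers.2 hc)
  exact ⟨⟨n % 3, Nat.mod_lt _ (by norm_num)⟩, pow_eq_pow_mod n T.y_three⟩

theorem Q_pow {q : G} (hq : q ∈ Q) : q ^ 4 = 1 := by
  rw [show 4 = 2 * 2 from rfl, pow_mul, pow_two q]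
  rcases T.hyp.extra.sq_cases hq with e | e <;> rw [e, pow_two]
  · rw [one_mul]
  · exact Coord.zz T.hyp

theorem Q_zpow {q : G} (hq : q ∈ Q) (hy : q ∈ zpowers y) : q = 1 := by
  have : Fact (Nat.Prime 3) := ⟨Nat.prime_three⟩
  exact CfsgLib.MonsterType.Local.eq_one_of_two_odd (IsPGroup.of_card (n := 7) (by rw [T.hyp.card]; norm_num))
    (by norm_num) T.ord hq hy

/-- Two elements of order dividing four commuting with `y` and congruent modulo `⟨y⟩` are equal. -/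
theorem eq_of_pow_four {u v : G} (hu : u ^ 4 = 1) (hv : v ^ 4 = 1) (huy : u * y = y * u)
    (h : u⁻¹ * v ∈ zpowers y) : u = v := by
  obtain ⟨k, hk⟩ := T.zpow_cases h
  have hv' : v = u * y ^ (k : ℕ) := by rw [← hk, mul_inv_cancel_left]
  rw [hv', (show Commute u (y ^ (k : ℕ)) from (show Commute u y from huy).pow_right _).mul_pow, hu, one_mul] at hv
  have : y ^ (k : ℕ) = 1 := by
    calc y ^ (k : ℕ) = y ^ ((k : ℕ) * 4) := by
          rw [pow_eq_pow_mod _ T.y_three, pow_eq_pow_mod ((k : ℕ) * 4) T.y_three]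
          congr 1
          omega
      _ = (y ^ (k : ℕ)) ^ 4 := pow_mul _ _ _
      _ = 1 := hv
  rw [hv', this, mul_one]

/-- The common centralizer maps onto the centralizer of the image of `z`. -/
def phi : ↥(Dg z y) →* ↥(centralizer ({T.zb} : Set (↥(Cy y) ⧸ Zy y))) :=
  ((piY y).comp (Subgroup.inclusion (fun _ h => T.DY h))).codRestrict _ fun c => by
    refine mem_centralizer_singleton_iff.2 ?_
    show piY y ⟨c, _⟩ * piY y ⟨z, T.zY⟩ = piY y ⟨z, T.zY⟩ * piY y ⟨c, _⟩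
    rw [← map_mul, ← map_mul]
    exact congrArg (piY y) (Subtype.ext (mem_Dg.1 c.2).1)

theorem phi_coe (c : ↥(Dg z y)) : (T.phi c : ↥(Cy y) ⧸ Zy y) = piY y ⟨c, T.DY c.2⟩ := rfl

theorem phi_one {c : ↥(Dg z y)} : T.phi c = 1 ↔ (c : G) ∈ zpowers y := by
  rw [Subtype.ext_iff, T.phi_coe]
  exact QuotientGroup.eq_one_iff _

theorem phi_eq {c d : ↥(Dg z y)} : T.phi c = T.phi d ↔ (c : G)⁻¹ * d ∈ zpowers y := by
  rw [← inv_mul_eq_one, ← map_inv, ← map_mul, T.phi_one]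
  rfl

omit T in
omit [Finite G] in
theorem piY_eq {u v : ↥(Cy y)} (h : piY y u = piY y v) : (u : G)⁻¹ * v ∈ zpowers y :=
  show u⁻¹ * v ∈ Zy y from (QuotientGroup.eq (s := Zy y) (a := u) (b := v)).1 h

theorem phi_surjective : Function.Surjective T.phi := by
  rintro ⟨d, hd⟩
  obtain ⟨c, rfl⟩ := QuotientGroup.mk'_surjective _ d
  have hc := mem_centralizer_singleton_iff.1 hd
  change piY y c * piY y ⟨z, T.zY⟩ = piY y ⟨z, T.zY⟩ * piY y c at hc
  have hcy : (c : G) * y = y * c := mem_Cy.1 c.2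
  have h : piY y (c * ⟨z, T.zY⟩ * c⁻¹) = piY y ⟨z, T.zY⟩ := by
    rw [map_mul, map_mul, map_inv, hc, mul_inv_cancel_right]
  have hm := QuotientGroup.eq.1 h
  have e : (c : G) * z * (c : G)⁻¹ = z := by
    refine T.eq_of_pow_four ?_ (T.Q_pow (Coord.zQ T.hyp)) ?_ hm
    · rw [conj_pow, T.Q_pow (Coord.zQ T.hyp), mul_one, mul_inv_cancel]
    · exact (((show Commute (c : G) y from hcy).mul_left (show Commute z y from T.yz.symm)).mul_left
        (show Commute (c : G) y from hcy).inv_left).eq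
  exact ⟨⟨c, mem_Dg.2 ⟨mul_inv_eq_iff_eq_mul.1 e, hcy⟩⟩, rfl⟩

theorem card_cz : Nat.card ↥(centralizer ({T.zb} : Set (↥(Cy y) ⧸ Zy y))) = 2 ^ 7 * 3 ^ 2 := by
  have hker : Nat.card T.phi.ker = 3 := by
    rw [← T.ord, ← Nat.card_zpowers]
    refine Nat.card_congr ⟨fun c => ⟨c.1.1, T.phi_one.1 c.2⟩,
      fun c => ⟨⟨c.1, (zpowers_le.2 T.y_mem) c.2⟩, T.phi_one.2 c.2⟩, fun c => rfl, fun c => rfl⟩
  have h := card_eq_card_quotient_mul_card_subgroup T.phi.ker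
  rw [Nat.card_congr (QuotientGroup.quotientKerEquivOfSurjective T.phi T.phi_surjective).toEquiv, hker,
    T.card_Dg] at h
  omega

/-- The image of a side. -/
def side (s : Side) : Subgroup ↥(centralizer ({T.zb} : Set (↥(Cy y) ⧸ Zy y))) :=
  ((T.sub s).subgroupOf (Dg z y)).map T.phi

/-- The image of the fixed points of `y` in `Q`. -/
def qbar : Subgroup ↥(centralizer ({T.zb} : Set (↥(Cy y) ⧸ Zy y))) := (Q.subgroupOf (Dg z y)).map T.phi

instance qbar_normal : (T.qbar).Normal := by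
  refine Subgroup.Normal.map ⟨fun q hq c => ?_⟩ T.phi T.phi_surjective
  exact T.hyp.norm _ (mem_Dg.1 c.2).1 _ hq

theorem sub_zpow (s : Side) {c : G} (hc : c ∈ T.sub s) (hy : c ∈ zpowers y) : c = 1 := by
  obtain ⟨k, rfl⟩ := T.zpow_cases hy
  obtain ⟨i, hi⟩ := hc.2.2.2
  rw [T.act_pow] at hi
  rw [(s.r_ne i k (pmap_inj hi).symm).2]
  exact pow_zero y

theorem side_equiv (s : Side) : Nonempty (↥(T.side s) ≃* Matrix.SpecialLinearGroup (Fin 2) (ZMod 3)) := by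
  obtain ⟨e⟩ := T.equiv_sl s
  let f : ↥(T.sub s) →* ↥(T.side s) :=
    (T.phi.comp (Subgroup.inclusion (T.sub_le s))).codRestrict _ fun c =>
      ⟨⟨c, T.sub_le s c.2⟩, c.2, rfl⟩
  refine ⟨(MulEquiv.ofBijective f ⟨?_, ?_⟩).symm.trans e⟩
  · refine (injective_iff_map_eq_one f).2 fun c hc => Subtype.ext (T.sub_zpow s c.2 ?_)
    exact T.phi_one.1 (congrArg (fun t : ↥(T.side s) => (t : ↥(centralizer ({T.zb} : Set (↥(Cy y) ⧸ Zy y))))) hc)
  · rintro ⟨_, c, hc, rfl⟩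
    exact ⟨⟨c, hc⟩, rfl⟩

/-- The product of the two sides. -/
def both : Subgroup G where
  carrier := {c | ∃ a ∈ T.sub sideA, ∃ b ∈ T.sub sideB, c = a * b}
  one_mem' := ⟨1, one_mem _, 1, one_mem _, (mul_one 1).symm⟩
  mul_mem' := by
    rintro _ _ ⟨a, ha, b, hb, rfl⟩ ⟨a', ha', b', hb', rfl⟩
    refine ⟨a * a', mul_mem ha ha', b * b', mul_mem hb hb', ?_⟩
    rw [mul_assoc a b, ← mul_assoc b a', ← T.sides_commute ha' hb]
    simp only [mul_assoc]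
  inv_mem' := by
    rintro _ ⟨a, ha, b, hb, rfl⟩
    exact ⟨a⁻¹, inv_mem ha, b⁻¹, inv_mem hb, by rw [mul_inv_rev, T.sides_commute (inv_mem ha) (inv_mem hb)]⟩

theorem both_le : T.both ≤ Dg z y := by
  rintro _ ⟨a, ha, b, hb, rfl⟩
  exact mul_mem ha.1 hb.1

theorem sideA_le_both : T.sub sideA ≤ T.both := fun a ha => ⟨a, ha, 1, one_mem _, (mul_one a).symm⟩

theorem sideB_le_both : T.sub sideB ≤ T.both := fun b hb => ⟨1, one_mem _, b, hb, (one_mul b).symm⟩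

theorem sides_sup : T.side sideA ⊔ T.side sideB = (T.both.subgroupOf (Dg z y)).map T.phi := by
  refine le_antisymm (sup_le ?_ ?_) ?_
  · exact map_mono fun c hc => T.sideA_le_both hc
  · exact map_mono fun c hc => T.sideB_le_both hc
  · rintro _ ⟨⟨_, hD⟩, ⟨a, ha, b, hb, rfl⟩, rfl⟩
    rw [show (⟨a * b, hD⟩ : ↥(Dg z y)) = ⟨a, ha.1⟩ * ⟨b, hb.1⟩ from rfl, map_mul]
    exact mul_mem (mem_sup_left ⟨⟨a, ha.1⟩, ha, rfl⟩) (mem_sup_right ⟨⟨b, hb.1⟩, hb, rfl⟩)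

theorem mem_sup_iff {x : ↥(centralizer ({T.zb} : Set (↥(Cy y) ⧸ Zy y)))} :
    x ∈ T.side sideA ⊔ T.side sideB ↔ ∃ c : ↥(Dg z y), (c : G) ∈ T.both ∧ T.phi c = x := by
  rw [T.sides_sup]
  exact Iff.rfl

theorem Q_le_both {q : G} (hq : q ∈ Q) (hqD : q ∈ Dg z y) : q ∈ T.both := by
  obtain ⟨a, b, ha, hb, hab⟩ := fix_split _ ((T.mem_Q_iff hq).1 hqD)
  have hA : sideA.InP a := by simpa [Side.InP, sideA] using ha
  have hB : sideB.InP b := by simpa [Side.InP, sideB] using hb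
  have hz : z ∈ T.sub sideA := (T.Q_mem_sub sideA (Coord.zQ T.hyp)).2 (by simp [Side.InP, K.vec_z T.hyp])
  rcases K.eq_or T.hyp hq (mul_mem (K.lift_mem a) (K.lift_mem b))
    (by rw [K.mul (K.lift_mem a) (K.lift_mem b), K.vec_lift, K.vec_lift, hab]) with e | e <;> rw [e]
  · exact mul_mem (T.sideA_le_both (T.lift_mem_sub sideA hA)) (T.sideB_le_both (T.lift_mem_sub sideB hB))
  · exact mul_mem (T.sideA_le_both hz)
      (mul_mem (T.sideA_le_both (T.lift_mem_sub sideA hA)) (T.sideB_le_both (T.lift_mem_sub sideB hB)))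

theorem qbar_le_sup : T.qbar ≤ T.side sideA ⊔ T.side sideB := by
  rintro _ ⟨q, hq, rfl⟩
  exact T.mem_sup_iff.2 ⟨q, T.Q_le_both hq q.2, rfl⟩

theorem act_rot (i j k : Fin 3) : ∃ c : ↥(Dg z y), (c : G) ∈ T.both ∧
    K.act ((c : G) * y ^ (k : ℕ)) = pmap ((i, j, k, 0) : Par) := by
  have H := T.hyp
  obtain ⟨a, ha, haa, -⟩ := T.exists_rot sideA
  obtain ⟨b, hb, hba, -⟩ := T.exists_rot sideB
  have hpow : ∀ (s : Side) {w : G}, w ∈ T.sub s → K.act w = pmap (s.r 1) → ∀ n : ℕ,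
      K.act (w ^ n) = pmap (s.r (n : Fin 3)) := by
    intro s w hw hwa n
    induction n with
    | zero => funext v; rw [pow_zero, K.act_one H, Nat.cast_zero, s.r0]
    | succ n ih =>
      funext v
      rw [pow_succ', K.act_mul H (mem_Dg.1 hw.1).1 (mem_Dg.1 (pow_mem hw.1 n)).1, ih, hwa, s.rmul,
        Nat.cast_succ, add_comm]
  have hai := pow_mem ha (i : ℕ)
  have hbj := pow_mem hb (j : ℕ)
  refine ⟨⟨_, mul_mem hai.1 hbj.1⟩, ⟨_, hai, _, hbj, rfl⟩, ?_⟩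
  refine eq_six (K.act_add H (mem_Dg.1 (mul_mem (mul_mem hai.1 hbj.1) (pow_mem T.y_mem _))).1) (pmap_add _)
    fun t => ?_
  show K.act (a ^ (i : ℕ) * b ^ (j : ℕ) * y ^ (k : ℕ)) _ = _
  rw [K.act_mul H (mem_Dg.1 (mul_mem hai.1 hbj.1)).1 (mem_Dg.1 (pow_mem T.y_mem _)).1,
    K.act_mul H (mem_Dg.1 hai.1).1 (mem_Dg.1 hbj.1).1, hpow sideA ha haa, hpow sideB hb hba, T.act_pow,
    Fin.cast_val_eq_self, Fin.cast_val_eq_self]
  exact par_mul_six i j k t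

/-- Elements acting through the rotations lie in the product of the sides and `⟨y⟩`. -/
theorem mem_both_of_act {c : ↥(Dg z y)} {i j k : Fin 3} (h : K.act (c : G) = pmap ((i, j, k, 0) : Par)) :
    T.phi c ∈ T.side sideA ⊔ T.side sideB := by
  obtain ⟨d, hd, hda⟩ := T.act_rot i j k
  have hdy := mul_mem d.2 (pow_mem T.y_mem (k : ℕ))
  obtain ⟨h1, h2⟩ := T.div_mem hdy c.2 (hda.trans h.symm)
  refine T.mem_sup_iff.2 ⟨d * ⟨_, h2⟩, mul_mem hd (T.Q_le_both h1 h2), T.phi_eq.2 ?_⟩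
  have hyk : Commute (y ^ (k : ℕ)) (c : G) := ((show Commute (c : G) y from (mem_Dg.1 c.2).2).pow_right _).symm
  have hdk : Commute (y ^ (k : ℕ)) (d : G) := ((show Commute (d : G) y from (mem_Dg.1 d.2).2).pow_right _).symm
  have e : ((d : G) * (((d : G) * y ^ (k : ℕ))⁻¹ * c))⁻¹ * c = (c : G)⁻¹ * (d * y ^ (k : ℕ) * (d : G)⁻¹) * c := by
    group
  show ((d : G) * (((d : G) * y ^ (k : ℕ))⁻¹ * c))⁻¹ * c ∈ zpowers y
  rw [e, ← hdk.eq, mul_inv_cancel_right, mul_assoc, hyk.eq, inv_mul_cancel_left]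
  exact pow_mem (mem_zpowers y) _

theorem act_both {c : ↥(Dg z y)} (hc : (c : G) ∈ T.both) : ∃ i j : Fin 3, K.act (c : G) = pmap ((i, j, 0, 0) : Par) := by
  obtain ⟨a, ha, b, hb, hab⟩ := hc
  obtain ⟨i, hi⟩ := ha.2.2.2
  obtain ⟨j, hj⟩ := hb.2.2.2
  refine ⟨i, j, eq_six (K.act_add T.hyp (mem_Dg.1 c.2).1) (pmap_add _) fun t => ?_⟩
  rw [hab, K.act_mul T.hyp (mem_Dg.1 ha.1).1 (mem_Dg.1 hb.1).1, hi, hj, ← par_mul_six]
  show _ = pmap _ (pmap _ (pmap ((0, 0, 0, 0) : Par) _))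
  rfl

theorem qbar_pGroup : IsPGroup 2 ↥(T.qbar) := by
  rintro ⟨_, q, hq, rfl⟩
  refine ⟨2, Subtype.ext ?_⟩
  show T.phi q ^ (2 ^ 2) = 1
  rw [← map_pow, show q ^ (2 ^ 2) = 1 from Subtype.ext (T.Q_pow hq), map_one]

/-- A two-element of the product of the sides lies in the image of `Q`. -/
theorem mem_qbar_of_two {x : ↥(centralizer ({T.zb} : Set (↥(Cy y) ⧸ Zy y)))}
    (hx : x ∈ T.side sideA ⊔ T.side sideB) {n : ℕ} (hn : x ^ 2 ^ n = 1) : x ∈ T.qbar := by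
  obtain ⟨c, hc, rfl⟩ := T.mem_sup_iff.1 hx
  obtain ⟨i, j, hij⟩ := T.act_both hc
  have hcz := (mem_Dg.1 c.2).1
  have key : ∀ i j : Fin 3, ∀ t, pmap ((i, j, 0, 0) : Par) (pmap ((i, j, 0, 0) : Par)
      (pmap ((i, j, 0, 0) : Par) (six t))) = six t := by decide +kernel
  have h3 : T.phi c ^ 3 ∈ T.qbar := by
    refine ⟨c ^ 3, ?_, map_pow _ _ _⟩
    show (c : G) ^ 3 ∈ Q
    refine K.mem_of_act T.hyp (mem_Dg.1 (pow_mem c.2 3)).1 fun v => ?_
    refine congrFun (eq_six (g := fun v => v) (K.act_add T.hyp (mem_Dg.1 (pow_mem c.2 3)).1) (fun _ _ => rfl)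
      fun t => ?_) v
    rw [pow_succ', pow_two, K.act_mul T.hyp hcz ((show Commute (c : G) z from hcz).mul_left hcz).eq,
      K.act_mul T.hyp hcz hcz, hij, key]
  have hcop : Nat.Coprime 3 (orderOf (T.phi c)) := by
    obtain ⟨m, -, hm⟩ := (Nat.dvd_prime_pow Nat.prime_two).1 (orderOf_dvd_of_pow_eq_one hn)
    rw [hm]
    exact Nat.Coprime.pow_right m (by norm_num)
  obtain ⟨m, hm⟩ := exists_pow_eq_self_of_coprime hcop
  rw [← hm]
  exact pow_mem h3 m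

theorem pCore_eq : Cfsg.pCore 2 ↥(centralizer ({T.zb} : Set (↥(Cy y) ⧸ Zy y))) = T.qbar := by
  have : Fact (Nat.Prime 2) := ⟨Nat.prime_two⟩
  have hP := CfsgLib.PCore.pCore_isPGroup (p := 2) (G := ↥(centralizer ({T.zb} : Set (↥(Cy y) ⧸ Zy y))))
  refine le_antisymm (fun x hx => ?_) (CfsgLib.PCore.le_pCore T.qbar_normal T.qbar_pGroup)
  set P := Cfsg.pCore 2 ↥(centralizer ({T.zb} : Set (↥(Cy y) ⧸ Zy y)))
  have hPn : P.Normal := Cfsg.pCore_normal 2 _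
  obtain ⟨c, rfl⟩ := T.phi_surjective x
  obtain ⟨p, hp⟩ := T.exists_par c.2
  have hcz := (mem_Dg.1 c.2).1
  obtain ⟨n, hn⟩ := hP ⟨_, hx⟩
  have main : ∀ (s : Bool) {w : G}, w ∈ T.both →
      K.act w = pmap (if s then ((1, 0, 0, 0) : Par) else (0, 1, 0, 0)) → ∀ t,
      pmap p (pmap (if s then ((1, 0, 0, 0) : Par) else (0, 1, 0, 0)) (six t)) =
        pmap (if s then ((1, 0, 0, 0) : Par) else (0, 1, 0, 0)) (pmap p (six t)) := by
    intro s w hw hwa t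
    obtain ⟨i, j, hij⟩ := par_conj_six p s
    set r : Par := if s then ((1, 0, 0, 0) : Par) else (0, 1, 0, 0) with hr
    have hwD := T.both_le hw
    have hwz := (mem_Dg.1 hwD).1
    set d : ↥(Dg z y) := c * ⟨w, hwD⟩ * c⁻¹ with hd
    have hci : ((c : G))⁻¹ * z = z * ((c : G))⁻¹ := (Commute.inv_left hcz).eq
    have hdact : K.act (d : G) = pmap ((i, j, 0, 0) : Par) := by
      funext v
      have hcwz : (c : G) * w * z = z * ((c : G) * w) := (Commute.mul_left hcz hwz).eq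
      show K.act ((c : G) * w * (c : G)⁻¹) v = _
      rw [K.act_mul T.hyp hcwz hci, K.act_mul T.hyp hcz hwz, hp, hwa]
      have hfun := congrFun (eq_six (f := fun v => pmap p (pmap r v)) (g := fun v => pmap ((i, j, 0, 0) : Par) (pmap p v))
        (fun a b => by simp only [pmap_add]) (fun a b => by simp only [pmap_add]) hij) (K.act (c : G)⁻¹ v)
      rw [hfun, ← hp, ← K.act_mul T.hyp hcz hci, mul_inv_cancel, K.act_one T.hyp]
    set u : ↥(Dg z y) := d * (⟨w, hwD⟩ : ↥(Dg z y))⁻¹ with hu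
    have huP : T.phi u ∈ P := by
      have e : T.phi u = T.phi c * (T.phi ⟨w, hwD⟩ * (T.phi c)⁻¹ * (T.phi ⟨w, hwD⟩)⁻¹) := by
        simp only [hu, hd, map_mul, map_inv, mul_assoc]
      rw [e]
      exact mul_mem hx (hPn.conj_mem _ (inv_mem hx) _)
    have huK : T.phi u ∈ T.side sideA ⊔ T.side sideB := by
      rw [hu, map_mul, map_inv]
      exact mul_mem (T.mem_both_of_act hdact) (inv_mem (T.mem_sup_iff.2 ⟨⟨w, hwD⟩, hw, rfl⟩))
    obtain ⟨m, hm⟩ := hP ⟨_, huP⟩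
    obtain ⟨q, hq, hqu⟩ := T.mem_qbar_of_two huK (congrArg Subtype.val hm)
    obtain ⟨k, hk⟩ := T.zpow_cases (T.phi_eq.1 hqu)
    have hrk : ∀ v, pmap ((i, j, 0, 0) : Par) v = pmap ((0, 0, k, 0) : Par) (pmap r v) := fun v => by
      rw [← hdact, ← T.act_pow, ← hwa, ← K.act_mul T.hyp (mem_Dg.1 (pow_mem T.y_mem _)).1 hwz]
      have e : (d : G) = (q : G) * (y ^ (k : ℕ) * w) := by
        rw [← hk]
        show (d : G) = (q : G) * (((q : G))⁻¹ * ((d : G) * w⁻¹) * w)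
        group
      rw [e, K.act_mul T.hyp (mem_Dg.1 q.2).1 (mem_Dg.1 (mul_mem (pow_mem T.y_mem _) hwD)).1]
      exact K.act_mem T.hyp hq _
    have key : ∀ i j k : Fin 3, ∀ s : Bool, (∀ t, pmap ((i, j, 0, 0) : Par) (six t) =
        pmap ((0, 0, k, 0) : Par) (pmap (if s then ((1, 0, 0, 0) : Par) else (0, 1, 0, 0)) (six t))) →
        ((i, j, 0, 0) : Par) = if s then ((1, 0, 0, 0) : Par) else (0, 1, 0, 0) := by decide +kernel
    rw [hij, key i j k s fun t => hrk _]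
  obtain ⟨a, ha, haa, -⟩ := T.exists_rot sideA
  obtain ⟨b, hb, hba, -⟩ := T.exists_rot sideB
  have h0 := par_commuting p (main true (T.sideA_le_both ha) haa) (main false (T.sideB_le_both hb) hba)
  obtain ⟨p1, p2, p3, p4⟩ := p
  obtain rfl : p4 = 0 := h0
  exact T.mem_qbar_of_two (T.mem_both_of_act hp) (congrArg Subtype.val hn)

theorem centralizer_qbar : centralizer (T.qbar : Set ↥(centralizer ({T.zb} : Set (↥(Cy y) ⧸ Zy y)))) ≤ T.qbar := by
  intro x hx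
  obtain ⟨c, rfl⟩ := T.phi_surjective x
  have H := T.hyp
  obtain ⟨hcz, hcy⟩ := mem_Dg.1 c.2
  have hcomm : ∀ q : G, ∀ (hq : q ∈ Q) (hqD : q ∈ Dg z y), (c : G) * q = q * c := by
    intro q hq hqD
    have h := mem_centralizer_iff.1 hx (T.phi ⟨q, hqD⟩) ⟨_, hq, rfl⟩
    rw [← map_mul, ← map_mul, T.phi_eq] at h
    have hconj := H.norm _ hcz q hq
    refine mul_inv_eq_iff_eq_mul.1 (T.eq_of_pow_four (T.Q_pow hconj) (T.Q_pow hq) ?_ ?_)
    · exact (((show Commute (c : G) y from hcy).mul_left (mem_Dg.1 hqD).2).mul_left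
        (show Commute (c : G) y from hcy).inv_left).eq
    · change ((q : G) * c)⁻¹ * ((c : G) * q) ∈ zpowers y at h
      obtain ⟨k, hk⟩ := T.zpow_cases h
      have hkc : Commute (y ^ (k : ℕ)) (c : G) := ((show Commute (c : G) y from hcy).pow_right _).symm
      have e : (c : G) * q = q * c * y ^ (k : ℕ) := by rw [← hk, mul_inv_cancel_left]
      have e2 : (c : G) * q * (c : G)⁻¹ = q * y ^ (k : ℕ) := by
        rw [e, mul_assoc q, ← hkc.eq, ← mul_assoc, mul_inv_cancel_right]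
      rw [e2, mul_inv_rev, mul_assoc, inv_mul_cancel, mul_one]
      exact inv_mem (pow_mem (mem_zpowers y) _)
  obtain ⟨p, hp⟩ := T.exists_par c.2
  have hfix : ∀ v, Y0 v = v → pmap p v = v := fun v hv => by
    have hm : K.lift v ∈ Dg z y := (T.mem_Q_iff (K.lift_mem v)).2 (by rw [K.vec_lift, hv])
    rw [← hp]
    show K.vec ((c : G) * K.lift v * (c : G)⁻¹) = v
    rw [hcomm _ (K.lift_mem v) hm, mul_inv_cancel_right, K.vec_lift]
  obtain ⟨⟨fA, fA', fB, fB', -, -⟩, -⟩ := six_facts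
  obtain ⟨k, rfl⟩ := par_fix p (hfix _ fA) (hfix _ fA') (hfix _ fB) (hfix _ fB')
  obtain ⟨h1, h2⟩ := T.div_mem (pow_mem T.y_mem (k : ℕ)) c.2 ((T.act_pow k).trans hp.symm)
  refine ⟨⟨_, h2⟩, h1, T.phi_eq.2 ?_⟩
  show ((y ^ (k : ℕ))⁻¹ * (c : G))⁻¹ * c ∈ zpowers y
  rw [mul_inv_rev, inv_inv, mul_assoc, ((show Commute (c : G) y from hcy).pow_right _).symm.eq, inv_mul_cancel_left]
  exact pow_mem (mem_zpowers y) _

theorem gfit : Cfsg.generalizedFittingSubgroup ↥(centralizer ({T.zb} : Set (↥(Cy y) ⧸ Zy y))) = T.qbar := by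
  have : Fact (Nat.Prime 2) := ⟨Nat.prime_two⟩
  rw [CfsgLib.Components.generalizedFitting_eq_pCore_of_centralizer_le 2
    (by rw [T.pCore_eq]; exact T.centralizer_qbar), T.pCore_eq]

theorem sides_commute' {a b : ↥(centralizer ({T.zb} : Set (↥(Cy y) ⧸ Zy y)))} (ha : a ∈ T.side sideA)
    (hb : b ∈ T.side sideB) : a * b = b * a := by
  obtain ⟨u, hu, rfl⟩ := ha
  obtain ⟨v, hv, rfl⟩ := hb
  rw [← map_mul, ← map_mul]
  exact congrArg T.phi (Subtype.ext (T.sides_commute hu hv))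

theorem side_normal_left : ((T.side sideA).subgroupOf (T.side sideA ⊔ T.side sideB)).Normal := by
  refine ⟨fun n hn g => ?_⟩
  obtain ⟨c, ⟨a, ha, b, hb, hab⟩, hc⟩ := T.mem_sup_iff.1 g.2
  rw [mem_subgroupOf] at hn ⊢
  show g.1 * n.1 * g.1⁻¹ ∈ T.side sideA
  have hA : T.phi ⟨a, ha.1⟩ ∈ T.side sideA := ⟨_, ha, rfl⟩
  have hB : T.phi ⟨b, hb.1⟩ ∈ T.side sideB := ⟨_, hb, rfl⟩
  rw [← hc, show c = ⟨a, ha.1⟩ * ⟨b, hb.1⟩ from Subtype.ext hab, map_mul, mul_inv_rev, mul_assoc (T.phi _),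
    ← T.sides_commute' hn hB, ← mul_assoc, ← mul_assoc, mul_assoc _ (T.phi ⟨b, hb.1⟩) (T.phi ⟨b, hb.1⟩)⁻¹,
    mul_inv_cancel, mul_one]
  exact mul_mem (mul_mem hA hn) (inv_mem hA)

theorem side_normal_right : ((T.side sideB).subgroupOf (T.side sideA ⊔ T.side sideB)).Normal := by
  refine ⟨fun n hn g => ?_⟩
  obtain ⟨c, ⟨a, ha, b, hb, hab⟩, hc⟩ := T.mem_sup_iff.1 g.2
  rw [mem_subgroupOf] at hn ⊢
  show g.1 * n.1 * g.1⁻¹ ∈ T.side sideB
  have hA : T.phi ⟨a, ha.1⟩ ∈ T.side sideA := ⟨_, ha, rfl⟩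
  have hB : T.phi ⟨b, hb.1⟩ ∈ T.side sideB := ⟨_, hb, rfl⟩
  have hBn := mul_mem (mul_mem hB hn) (inv_mem hB)
  rw [← hc, show c = ⟨a, ha.1⟩ * ⟨b, hb.1⟩ from Subtype.ext hab, map_mul, mul_inv_rev,
    mul_assoc (T.phi ⟨a, ha.1⟩), ← mul_assoc _ (T.phi ⟨b, hb.1⟩)⁻¹, mul_assoc (T.phi ⟨a, ha.1⟩),
    T.sides_commute' hA hBn, mul_inv_cancel_right]
  exact hBn

theorem sides_meet : (T.side sideA ⊓ T.side sideB).map (centralizer ({T.zb} : Set (↥(Cy y) ⧸ Zy y))).subtype =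
    zpowers T.zb := by
  have H := T.hyp
  have hzA : z ∈ T.sub sideA := (T.Q_mem_sub sideA (Coord.zQ H)).2 (by simp [Side.InP, K.vec_z H])
  have hzB : z ∈ T.sub sideB := (T.Q_mem_sub sideB (Coord.zQ H)).2 (by simp [Side.InP, K.vec_z H])
  refine le_antisymm ?_ (zpowers_le.2 ⟨T.phi ⟨z, T.z_mem⟩, ⟨⟨_, hzA, rfl⟩, ⟨_, hzB, rfl⟩⟩, rfl⟩)
  rintro _ ⟨_, ⟨⟨u, hu, rfl⟩, ⟨v, hv, hvu⟩⟩, rfl⟩
  obtain ⟨k, hk⟩ := T.zpow_cases (T.phi_eq.1 hvu)
  obtain ⟨i, hi⟩ := (T.mem_sub _).1 hu |>.2.2.2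
  obtain ⟨j, hj⟩ := (T.mem_sub _).1 hv |>.2.2.2
  have key : ∀ i j k : Fin 3, (∀ t, pmap ((i, 0, 0, 0) : Par) (six t) =
      pmap ((0, j, 0, 0) : Par) (pmap ((0, 0, k, 0) : Par) (six t))) → i = 0 ∧ j = 0 ∧ k = 0 := by decide +kernel
  have e : (u : G) = v * y ^ (k : ℕ) := by rw [← hk, mul_inv_cancel_left]
  replace hi : K.act (u : G) = pmap (sideA.r i) := hi
  replace hj : K.act (v : G) = pmap (sideB.r j) := hj
  obtain ⟨rfl, rfl, rfl⟩ := key i j k fun t => by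
    show pmap (sideA.r i) (six t) = pmap (sideB.r j) _
    rw [← hi, ← hj, ← T.act_pow, ← K.act_mul H (mem_Dg.1 v.2).1 (mem_Dg.1 (pow_mem T.y_mem _)).1, e]
  rw [show ((0 : Fin 3) : ℕ) = 0 from rfl, pow_zero, mul_one] at e
  have hQ : (u : G) ∈ Q := K.mem_of_act H (mem_Dg.1 u.2).1 fun w => by rw [hi]; exact sideA.r0 w
  have h1 := (T.Q_mem_sub sideA hQ).1 hu
  have h2 := (T.Q_mem_sub sideB hQ).1 (by rw [e]; exact hv)
  have h0 : K.vec (u : G) = 0 := plane_meet _ (by simpa [Side.InP, sideA] using h1) (by simpa [Side.InP, sideB] using h2)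
  rcases (K.zero_iff hQ).1 h0 with e' | e'
  · rw [show u = 1 from Subtype.ext e', map_one, map_one]; exact one_mem _
  · rw [show u = ⟨z, T.z_mem⟩ from Subtype.ext e']; exact mem_zpowers _

theorem side_le_closure (s : Side) : T.side s ≤
    Subgroup.closure {x : ↥(centralizer ({T.zb} : Set (↥(Cy y) ⧸ Zy y))) | Odd (orderOf x)} := by
  rintro _ ⟨u, hu, rfl⟩
  obtain ⟨e⟩ := T.equiv_sl s
  set ψ : ↥(T.sub s) →* ↥(centralizer ({T.zb} : Set (↥(Cy y) ⧸ Zy y))) :=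
    T.phi.comp (Subgroup.inclusion (T.sub_le s)) with hψ
  have h3 : ∀ a : Matrix.SpecialLinearGroup (Fin 2) (ZMod 3), a ^ 3 = 1 → ψ (e.symm a) ∈
      Subgroup.closure {x : ↥(centralizer ({T.zb} : Set (↥(Cy y) ⧸ Zy y))) | Odd (orderOf x)} := fun a ha =>
    subset_closure (by
      have hd : orderOf (ψ (e.symm a)) ∣ 3 := orderOf_dvd_of_pow_eq_one (by rw [← map_pow, ← map_pow, ha, map_one, map_one])
      rcases (Nat.dvd_prime Nat.prime_three).1 hd with h | h <;> rw [Set.mem_ofPred_eq, h] <;> decide)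
  obtain ⟨a, b, c, ha, hb, hc, habc⟩ := sl_three_products (e ⟨u, hu⟩)
  have hu' : (⟨u, hu⟩ : ↥(T.sub s)) = e.symm a * e.symm b * e.symm c := by
    rw [← map_mul, ← map_mul, ← habc, e.symm_apply_apply]
  show ψ ⟨u, hu⟩ ∈ _
  rw [hu', map_mul, map_mul]
  exact mul_mem (mul_mem (h3 a ha) (h3 b hb)) (h3 c hc)

theorem sides_closure : T.side sideA ⊔ T.side sideB =
    Subgroup.closure {x : ↥(centralizer ({T.zb} : Set (↥(Cy y) ⧸ Zy y))) | Odd (orderOf x)} := by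
  have H := T.hyp
  refine le_antisymm (sup_le (T.side_le_closure _) (T.side_le_closure _)) ?_
  rw [closure_le]
  intro x hx
  obtain ⟨c, rfl⟩ := T.phi_surjective x
  obtain ⟨p, hp⟩ := T.exists_par c.2
  obtain ⟨i, j, k, hijk⟩ := par_four_six p
  have hcz := (mem_Dg.1 c.2).1
  have h4 : T.phi c ^ 4 ∈ T.side sideA ⊔ T.side sideB := by
    rw [← map_pow]
    refine T.mem_both_of_act (i := i) (j := j) (k := k)
      (eq_six (K.act_add H (mem_Dg.1 (c ^ 4).2).1) (pmap_add _) fun t => ?_)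
    show K.act ((c : G) ^ 4) (six t) = _
    have hpow : ∀ n : ℕ, ∀ v, K.act ((c : G) ^ n) v = (pmap p)^[n] v := by
      intro n
      induction n with
      | zero => intro v; rw [pow_zero, K.act_one H]; rfl
      | succ n ih =>
        intro v
        rw [pow_succ', K.act_mul H hcz ((show Commute (c : G) z from hcz).pow_left n).eq, ih, hp,
          Function.iterate_succ_apply']
    rw [hpow]
    exact hijk t
  have hcop : Nat.Coprime 4 (orderOf (T.phi c)) := by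
    have := Nat.Coprime.pow_left 2 (Nat.coprime_two_left.2 (show Odd (orderOf (T.phi c)) from hx))
    simpa using this
  obtain ⟨m, hm⟩ := exists_pow_eq_self_of_coprime hcop
  rw [SetLike.mem_coe, ← hm]
  exact pow_mem h4 m

theorem qbar_eq : T.qbar =
    (Cfsg.pCore 2 ↥(T.side sideA ⊔ T.side sideB)).map (T.side sideA ⊔ T.side sideB).subtype := by
  have : Fact (Nat.Prime 2) := ⟨Nat.prime_two⟩
  set S := T.side sideA ⊔ T.side sideB
  refine le_antisymm ?_ ?_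
  · intro x hx
    refine ⟨⟨x, T.qbar_le_sup hx⟩, CfsgLib.PCore.le_pCore (N := T.qbar.subgroupOf S)
      (T.qbar_normal.subgroupOf S) ?_ hx, rfl⟩
    exact T.qbar_pGroup.comap_of_injective S.subtype S.subtype_injective
  · rintro _ ⟨x, hx, rfl⟩
    obtain ⟨n, hn⟩ := CfsgLib.PCore.pCore_isPGroup (p := 2) (G := ↥S) ⟨x, hx⟩
    exact T.mem_qbar_of_two x.2 (show (x : ↥(centralizer ({T.zb} : Set (↥(Cy y) ⧸ Zy y)))) ^ 2 ^ n = 1 from congrArg Subtype.val (congrArg Subtype.val hn))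

theorem mem_qbar_map {u : ↥(Cy y) ⧸ Zy y}
    (hu : u ∈ T.qbar.map (centralizer ({T.zb} : Set (↥(Cy y) ⧸ Zy y))).subtype) :
    ∃ q : ↥(Cy y), (q : G) ∈ Q ∧ (q : G) ∈ Dg z y ∧ piY y q = u := by
  obtain ⟨_, ⟨c, hc, rfl⟩, rfl⟩ := hu
  exact ⟨⟨c, T.DY c.2⟩, hc, c.2, rfl⟩

theorem qbar_map_mem {q : ↥(Cy y)} (hq : (q : G) ∈ Q) (hqz : (q : G) * z = z * q) :
    piY y q ∈ T.qbar.map (centralizer ({T.zb} : Set (↥(Cy y) ⧸ Zy y))).subtype :=
  ⟨T.phi ⟨q, mem_Dg.2 ⟨hqz, mem_Cy.1 q.2⟩⟩, ⟨_, hq, rfl⟩, rfl⟩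

theorem zb_ord : orderOf T.zb = 2 := by
  have : Fact (Nat.Prime 2) := ⟨Nat.prime_two⟩
  refine orderOf_eq_prime ?_ fun e => ?_
  · show (piY y ⟨z, T.zY⟩) ^ 2 = 1
    rw [← map_pow, pow_two, show (⟨z, T.zY⟩ : ↥(Cy y)) * ⟨z, T.zY⟩ = 1 from Subtype.ext (Coord.zz T.hyp),
      map_one]
  · exact T.hyp.extra.ne_one (T.Q_zpow (Coord.zQ T.hyp) ((QuotientGroup.eq_one_iff (⟨z, T.zY⟩ : ↥(Cy y))).1 e))

theorem moved (hconj : ∀ r : G, r ∈ Q → r ∈ Dg z y → IsConj z r → r ≠ z → ∃ g : G, g * y = y * g ∧ g * z * g⁻¹ = r) :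
    ∃ g : ↥(Cy y) ⧸ Zy y, (∃ hq : g * T.zb * g⁻¹ ∈ centralizer ({T.zb} : Set (↥(Cy y) ⧸ Zy y)),
    (⟨g * T.zb * g⁻¹, hq⟩ : ↥(centralizer ({T.zb} : Set (↥(Cy y) ⧸ Zy y)))) ∈ T.qbar) ∧ g * T.zb * g⁻¹ ≠ T.zb := by
  have H := T.hyp
  have : Fact (Nat.Prime 3) := ⟨Nat.prime_three⟩
  obtain ⟨hY, hq, hne0⟩ := singular_fix
  set r := K.lift (pA + pB) with hr
  have hrQ : r ∈ Q := K.lift_mem _
  have hrv : K.vec r = pA + pB := K.vec_lift _
  have hr1 : r ≠ 1 := fun e => hne0 (by rw [← hrv, e, K.vec_one])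
  have hrz : r ≠ z := fun e => hne0 (by rw [← hrv, e, K.vec_z H])
  have hrD : r ∈ Dg z y := (T.mem_Q_iff hrQ).2 (by rw [hrv, hY])
  obtain ⟨h, hh⟩ := K.conj_of_mem H hrQ ((K.invol_iff H.extra.ne_one hrQ).2 (by rw [hrv, hq])) hr1
  obtain ⟨g, hgy, hg⟩ := hconj r hrQ hrD (isConj_iff.2 ⟨h, hh⟩) hrz
  refine ⟨piY y ⟨g, mem_Cy.2 hgy⟩, ?_⟩
  have e : piY y ⟨g, mem_Cy.2 hgy⟩ * T.zb * (piY y ⟨g, mem_Cy.2 hgy⟩)⁻¹ = (T.phi ⟨r, hrD⟩ : ↥(Cy y) ⧸ Zy y) := by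
    show piY y ⟨g, mem_Cy.2 hgy⟩ * piY y ⟨z, T.zY⟩ * (piY y ⟨g, mem_Cy.2 hgy⟩)⁻¹ = _
    rw [← map_inv, ← map_mul, ← map_mul, T.phi_coe]
    exact congrArg (piY y) (Subtype.ext hg)
  refine ⟨⟨by rw [e]; exact (T.phi ⟨r, hrD⟩).2, ⟨⟨r, hrD⟩, hrQ, Subtype.ext e.symm⟩⟩, ?_⟩
  rw [e]
  intro e'
  exact hrz (T.eq_of_pow_four (T.Q_pow hrQ) (T.Q_pow (Coord.zQ H)) (mem_Dg.1 hrD).2
    (piY_eq (u := ⟨r, T.DY hrD⟩) (v := ⟨z, T.zY⟩) e'))

theorem inter_four (g : ↥(Cy y) ⧸ Zy y)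
    (hg : g * T.zb * g⁻¹ ∈ T.qbar.map (centralizer ({T.zb} : Set (↥(Cy y) ⧸ Zy y))).subtype)
    (hne : g * T.zb * g⁻¹ ≠ T.zb) :
    Nat.card ↥((T.qbar.map (centralizer ({T.zb} : Set (↥(Cy y) ⧸ Zy y))).subtype) ⊓
      (T.qbar.map (centralizer ({T.zb} : Set (↥(Cy y) ⧸ Zy y))).subtype).map (MulAut.conj g).toMonoidHom) = 4 := by
  classical
  have H := T.hyp
  set M := T.qbar.map (centralizer ({T.zb} : Set (↥(Cy y) ⧸ Zy y))).subtype with hM
  obtain ⟨g0, rfl⟩ := QuotientGroup.mk'_surjective (Zy y) g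
  obtain ⟨rC, hrQ, hrD, hr⟩ := T.mem_qbar_map hg
  set r := (rC : G) with hrdef
  have hgy : (g0 : G) * y = y * g0 := mem_Cy.1 g0.2
  have hgr : (g0 : G) * z * (g0 : G)⁻¹ = r := by
    refine T.eq_of_pow_four ?_ (T.Q_pow hrQ) ?_ ?_
    · rw [conj_pow, T.Q_pow (Coord.zQ H), mul_one, mul_inv_cancel]
    · exact (((show Commute (g0 : G) y from hgy).mul_left (show Commute z y from T.yz.symm)).mul_left
        (show Commute (g0 : G) y from hgy).inv_left).eq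
    · exact piY_eq (u := g0 * ⟨z, T.zY⟩ * g0⁻¹) (v := rC) (by rw [hr, map_mul, map_mul, map_inv]; rfl)
  have hr2 : r * r = 1 := by
    rw [← hgr, show (g0 : G) * z * (g0 : G)⁻¹ * ((g0 : G) * z * (g0 : G)⁻¹) = (g0 : G) * (z * z) * (g0 : G)⁻¹ by group,
      Coord.zz H, mul_one, mul_inv_cancel]
  have hrne : r ≠ z := fun e => hne (by
    rw [show T.zb = piY y ⟨z, T.zY⟩ from rfl, ← map_inv, ← map_mul, ← map_mul]
    exact congrArg (piY y) (Subtype.ext (hgr.trans e)))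
  have hr1 : r ≠ 1 := fun e => H.extra.ne_one (by
    rw [e] at hgr; exact conj_eq_one_iff.1 hgr)
  have hv : K.vec r ≠ 0 := fun e => ((K.zero_iff hrQ).1 e).elim hr1 hrne
  obtain ⟨s, hs, t, ht, hst⟩ := move 1 (K.vec r) hv ((K.invol_iff H.extra.ne_one hrQ).1 hr2)
  have S : Base (K.transform s t hs ht) r (g0 : G) := ⟨H, hrQ, hst, hgr⟩
  have hzg : (g0 : G)⁻¹ * z * g0 ∈ Q := (H.inQ_iff hgr).1 (H.inQ_symm hgr (H.inQ_z.2 hrQ))
  have hrg : (g0 : G)⁻¹ * r * g0 ∈ Q := by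
    rw [← hgr, show (g0 : G)⁻¹ * ((g0 : G) * z * (g0 : G)⁻¹) * g0 = z by group]
    exact Coord.zQ H
  -- the four elements
  let f : Fin 4 → ↥(Cy y) := ![1, ⟨z, T.zY⟩, rC, ⟨z, T.zY⟩ * rC]
  have hfQ : ∀ i, (f i : G) ∈ Q ∧ (g0 : G)⁻¹ * f i * g0 ∈ Q := by
    intro i
    fin_cases i
    · exact ⟨one_mem Q, by show (g0 : G)⁻¹ * 1 * g0 ∈ Q; rw [mul_one, inv_mul_cancel]; exact one_mem Q⟩
    · exact ⟨Coord.zQ H, hzg⟩
    · exact ⟨hrQ, hrg⟩
    · refine ⟨mul_mem (Coord.zQ H) hrQ, ?_⟩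
      show (g0 : G)⁻¹ * (z * r) * g0 ∈ Q
      rw [show (g0 : G)⁻¹ * (z * r) * g0 = ((g0 : G)⁻¹ * z * g0) * ((g0 : G)⁻¹ * r * g0) by group]
      exact mul_mem hzg hrg
  have hfM : ∀ i, piY y (f i) ∈ M ⊓ M.map (MulAut.conj (piY y g0)).toMonoidHom := by
    intro i
    obtain ⟨h1, h2⟩ := hfQ i
    refine ⟨T.qbar_map_mem h1 (H.extra.comm_z h1), piY y (g0⁻¹ * f i * g0), T.qbar_map_mem h2 (H.extra.comm_z h2), ?_⟩
    show piY y g0 * piY y (g0⁻¹ * f i * g0) * (piY y g0)⁻¹ = _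
    rw [← map_inv, ← map_mul, ← map_mul]
    exact congrArg (piY y) (by group)
  let F : Fin 4 → ↥(M ⊓ M.map (MulAut.conj (piY y g0)).toMonoidHom) := fun i => ⟨piY y (f i), hfM i⟩
  refine (Nat.card_eq_of_bijective F ⟨fun i j e => ?_, ?_⟩).symm.trans (Nat.card_fin 4)
  · have e' : (f i : G) = f j := T.eq_of_pow_four (T.Q_pow (hfQ i).1) (T.Q_pow (hfQ j).1) (mem_Cy.1 (f i).2)
      (piY_eq (congrArg Subtype.val e))
    have hzz := Coord.zz H
    have hne := H.extra.ne_one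
    fin_cases i <;> fin_cases j <;>
      first
        | rfl
        | (exfalso
           simp only [f, Fin.mk_one, Fin.zero_eta, Matrix.cons_val_zero, Matrix.cons_val_one, Matrix.cons_val,
             Subgroup.coe_one, Subgroup.coe_mul] at e'
           simp [← hrdef, hr1, hr1.symm, hrne, hrne.symm, hne, hne.symm] at e'
           all_goals first
             | exact hrne e'
             | exact hrne (mul_left_cancel (e'.trans hzz.symm))
             | exact hrne (mul_left_cancel (e'.symm.trans hzz.symm))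
             | exact hne (mul_right_cancel (e'.trans (one_mul r).symm))
             | exact hne (mul_right_cancel (e'.symm.trans (one_mul r).symm))
             | exact hr1 (mul_eq_left.1 e')
             | exact hr1 (mul_eq_left.1 e'.symm))
  · rintro ⟨u, hu1, w, hw, hu2⟩
    obtain ⟨q, hq, hqD, rfl⟩ := T.mem_qbar_map hu1
    obtain ⟨q', hq', hqD', rfl⟩ := T.mem_qbar_map hw
    have h : piY y (g0 * q' * g0⁻¹) = piY y q := by rw [map_mul, map_mul, map_inv]; exact hu2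
    have hqq : (g0 : G) * q' * (g0 : G)⁻¹ = q := by
      refine T.eq_of_pow_four ?_ (T.Q_pow hq) ?_ (piY_eq h)
      · rw [conj_pow, T.Q_pow hq', mul_one, mul_inv_cancel]
      · exact (((show Commute (g0 : G) y from hgy).mul_left (mem_Dg.1 hqD').2).mul_left
          (show Commute (g0 : G) y from hgy).inv_left).eq
    have hgq : (g0 : G)⁻¹ * q * g0 ∈ Q := by
      rw [← hqq, show (g0 : G)⁻¹ * ((g0 : G) * q' * (g0 : G)⁻¹) * g0 = q' by group]
      exact hq'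
    rcases S.four hq hgq with e | e | e | e
    · exact ⟨0, Subtype.ext (congrArg (piY y) (Subtype.ext e.symm))⟩
    · exact ⟨1, Subtype.ext (congrArg (piY y) (Subtype.ext e.symm))⟩
    · exact ⟨2, Subtype.ext (congrArg (piY y) (Subtype.ext e.symm))⟩
    · exact ⟨3, Subtype.ext (congrArg (piY y) (Subtype.ext e.symm))⟩

end Three

end CfsgLib.SuzType
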