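import Mathlib
import Cfsg.Agent.Lib.SuzType.ThreeQuot
import Cfsg.Agent.Lib.SuzType.ThreeWitness

/-!
The element `y` lies in the derived group of its centralizer: otherwise a transvection of the complement would
be a commutator in the centralizer of a conjugate of `y`.
-/

set_option autoImplicit false
set_option linter.style.longLine false
set_option maxHeartbeats 1000000
set_option synthInstance.maxSize 8000
set_option synthInstance.maxHeartbeats 1000000

namespace CfsgLib.SuzType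

open Subgroup
open Fin.NatCast

/-- reflections carrying the third plane to the first -/
def LA : List V := [((0, 0), ((0, 0), (0, 1))), ((0, 0), ((0, 1), (0, 1))), ((0, 1), ((1, 0), (1, 0))),
  ((1, 0), ((1, 0), (1, 1)))]

/-- reflections carrying the third plane to the second -/
def LB : List V := [((0, 0), ((0, 0), (0, 1))), ((0, 0), ((0, 1), (0, 1))), ((0, 0), ((1, 0), (1, 0))),
  ((1, 1), ((1, 1), (1, 1)))]

theorem swap_facts :
    ((∀ a ∈ LA, qV 1 a = 1) ∧ LA.length % 2 = 0 ∧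
      ∃ k : Fin 3, ∀ t, app LA (Y0 (six t)) = pmap ((k, 0, 0, 0) : Par) (app LA (six t))) ∧
    ((∀ a ∈ LB, qV 1 a = 1) ∧ LB.length % 2 = 0 ∧
      ∃ k : Fin 3, ∀ t, app LB (Y0 (six t)) = pmap ((0, k, 0, 0) : Par) (app LB (six t))) := by decide +kernel

theorem inverts_six : ∀ t,
    pmap ((0, 0, 0, 1) : Par) (pmap ((1, 0, 0, 0) : Par) (six t)) =
      pmap ((2, 0, 0, 0) : Par) (pmap ((0, 0, 0, 1) : Par) (six t)) ∧
    pmap ((0, 0, 0, 1) : Par) (pmap ((0, 1, 0, 0) : Par) (six t)) =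
      pmap ((0, 2, 0, 0) : Par) (pmap ((0, 0, 0, 1) : Par) (six t)) := by decide +kernel

theorem no_fixed : ∀ i j : Fin 3, i ≠ 0 → j ≠ 0 → ∀ v : V, Y0 v = v → pmap ((i, j, 0, 0) : Par) v = v → v = 0 := by
  decide +kernel

variable {G : Type*} [Group G] [Finite G] {z : G} {Q : Subgroup G}

namespace Three

variable {K : Coord z Q 1} {y : G} (T : Three K y)
include T

theorem act_pow_side (s : Side) {w : G} (hw : w ∈ T.sub s) (hwa : K.act w = pmap (s.r 1)) (n : ℕ) :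
    K.act (w ^ n) = pmap (s.r (n : Fin 3)) := by
  induction n with
  | zero => funext v; rw [pow_zero, K.act_one T.hyp, Nat.cast_zero, s.r0]
  | succ n ih =>
    funext v
    rw [pow_succ', K.act_mul T.hyp (mem_Dg.1 hw.1).1 (mem_Dg.1 (pow_mem hw.1 n)).1, ih, hwa, s.rmul,
      Nat.cast_succ, add_comm]

theorem act_tri {a b : G} (ha : a ∈ T.sub sideA) (haa : K.act a = pmap (sideA.r 1)) (hb : b ∈ T.sub sideB)
    (hba : K.act b = pmap (sideB.r 1)) (i j k : Fin 3) :
    K.act (a ^ (i : ℕ) * b ^ (j : ℕ) * y ^ (k : ℕ)) = pmap ((i, j, k, 0) : Par) := by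
  have H := T.hyp
  have hai := pow_mem ha (i : ℕ)
  have hbj := pow_mem hb (j : ℕ)
  refine eq_six (K.act_add H (mem_Dg.1 (mul_mem (mul_mem hai.1 hbj.1) (pow_mem T.y_mem _))).1) (pmap_add _)
    fun t => ?_
  rw [K.act_mul H (mem_Dg.1 (mul_mem hai.1 hbj.1)).1 (mem_Dg.1 (pow_mem T.y_mem _)).1,
    K.act_mul H (mem_Dg.1 hai.1).1 (mem_Dg.1 hbj.1).1, T.act_pow_side sideA ha haa,
    T.act_pow_side sideB hb hba, T.act_pow, Fin.cast_val_eq_self, Fin.cast_val_eq_self]
  exact par_mul_six i j k t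

/-- Elements of exponent three act through the rotations. -/
theorem act_cube {c : G} (hc : c ∈ Dg z y) (h3 : c ^ 3 = 1) : ∃ i j k : Fin 3, K.act c = pmap ((i, j, k, 0) : Par) := by
  have H := T.hyp
  obtain ⟨p, hp⟩ := T.exists_par hc
  obtain ⟨i, j, k, hijk⟩ := par_four_six p
  have hcz := (mem_Dg.1 hc).1
  refine ⟨i, j, k, eq_six (K.act_add H hcz) (pmap_add _) fun t => ?_⟩
  have h4 : c = c * (c * (c * c)) := by
    rw [show c * (c * (c * c)) = c ^ 3 * c by rw [pow_succ, pow_two]; simp only [mul_assoc], h3, one_mul]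
  have h2 : c * c * z = z * (c * c) := (Commute.mul_left hcz hcz).eq
  have h2' : c * (c * c) * z = z * (c * (c * c)) := (Commute.mul_left hcz h2).eq
  rw [h4, K.act_mul H hcz h2', K.act_mul H hcz h2, K.act_mul H hcz hcz, hp]
  exact hijk t

/-- A conjugate of `y` generates the group of a rotation of the first or second plane. -/
theorem exists_conj_rot (s : Side) {w : G} (hw : w ∈ T.sub s) (hwa : K.act w = pmap (s.r 1)) (hw3 : w ^ 3 = 1)
    (L : List V) (hq : ∀ a ∈ L, qV 1 a = 1) (hlen : L.length % 2 = 0) (k : Fin 3)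
    (hL : ∀ t, app L (Y0 (six t)) = pmap (s.r k) (app L (six t))) :
    ∃ g : G, g * z = z * g ∧ g * y * g⁻¹ ∈ zpowers w := by
  classical
  have H := T.hyp
  have : Fact (Nat.Prime 3) := ⟨Nat.prime_three⟩
  obtain ⟨g, hgz, hga⟩ := K.exists_act_word H L hq hlen
  have hiz : g⁻¹ * z = z * g⁻¹ := (Commute.inv_left hgz).eq
  have hgyz : g * y * z = z * (g * y) := (Commute.mul_left hgz T.yz).eq
  have hcz : g * y * g⁻¹ * z = z * (g * y * g⁻¹) := (Commute.mul_left hgyz hiz).eq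
  have hfun : (fun v => app L (Y0 v)) = fun v => pmap (s.r k) (app L v) := eq_six
    (fun a b => by show app L _ = _; rw [Y0_add, app_add]) (fun a b => by show pmap _ _ = _; rw [app_add, pmap_add]) hL
  have hact : K.act (g * y * g⁻¹) = pmap (s.r k) := funext fun v => by
    have h' : K.act g (K.act g⁻¹ v) = v := by rw [← K.act_mul H hgz hiz, mul_inv_cancel, K.act_one H]
    rw [hga] at h'
    rw [K.act_mul H hgyz hiz, K.act_mul H hgz T.yz, hga, T.act]
    exact (congrFun hfun _).trans (by rw [h'])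
  let M : Subgroup G :=
    { carrier := {c | c * z = z * c ∧ ∃ n : ℕ, K.act c = pmap (s.r (n : Fin 3))}
      one_mem' := ⟨by rw [one_mul, mul_one], 0, funext fun v => by rw [K.act_one H, Nat.cast_zero, s.r0]⟩
      mul_mem' := fun {a b} ha hb => by
        obtain ⟨haz, n, hn⟩ := ha
        obtain ⟨hbz, m, hm⟩ := hb
        exact ⟨(Commute.mul_left haz hbz).eq, n + m, funext fun v => by
          rw [K.act_mul H haz hbz, hn, hm, s.rmul, Nat.cast_add]⟩
      inv_mem' := fun {a} ha => by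
        obtain ⟨haz, n, hn⟩ := ha
        refine ⟨(Commute.inv_left haz).eq, 2 * n, funext fun v => ?_⟩
        refine K.act_injective H haz ?_
        rw [← K.act_mul H haz (Commute.inv_left haz).eq, mul_inv_cancel, K.act_one H, hn, s.rmul, two_mul, Nat.cast_add]
        have e : ∀ i : Fin 3, i + (i + i) = 0 := by decide
        rw [e, s.r0] }
  have hwD := mem_Dg.1 hw.1
  have hwM : w ∈ M := ⟨hwD.1, 1, by rw [hwa, Nat.cast_one]⟩
  have hxM : g * y * g⁻¹ ∈ M := ⟨hcz, (k : ℕ), by rw [hact, Fin.cast_val_eq_self]⟩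
  have hle : Nat.card M ≤ 384 := by
    let f : ↥Q × Fin 3 → ↥M := fun p => ⟨w ^ (p.2 : ℕ) * p.1, mul_mem (pow_mem hwM _)
      ⟨H.extra.comm_z p.1.2, 0, funext fun v => by rw [K.act_mem H p.1.2, Nat.cast_zero, s.r0]⟩⟩
    have hf : Function.Surjective f := by
      rintro ⟨c, hcz', n, hn⟩
      have hwn : w ^ ((n : Fin 3) : ℕ) * z = z * w ^ ((n : Fin 3) : ℕ) :=
        ((show Commute w z from hwD.1).pow_left _).eq
      have hin : (w ^ ((n : Fin 3) : ℕ))⁻¹ * z = z * (w ^ ((n : Fin 3) : ℕ))⁻¹ := (Commute.inv_left hwn).eq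
      have hQ : (w ^ ((n : Fin 3) : ℕ))⁻¹ * c ∈ Q := K.mem_of_act H (Commute.mul_left hin hcz').eq fun v => by
        refine K.act_injective H hwn ?_
        rw [← K.act_mul H hwn (Commute.mul_left hin hcz').eq, mul_inv_cancel_left,
          T.act_pow_side s hw hwa, Fin.cast_val_eq_self, hn]
      exact ⟨(⟨_, hQ⟩, (n : Fin 3)), Subtype.ext (mul_inv_cancel_left _ _)⟩
    refine (Nat.card_le_card_of_surjective f hf).trans_eq ?_
    rw [Nat.card_prod, H.card, Nat.card_fin]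
  have hQM : Q ≤ M := fun q hq => ⟨H.extra.comm_z hq, 0, funext fun v => by rw [K.act_mem H hq, Nat.cast_zero, s.r0]⟩
  have hd : 128 ∣ Nat.card M := H.card ▸ card_dvd_of_le hQM
  have h9 : ¬ 3 ^ 2 ∣ Nat.card M := fun h => by
    have : 1152 ∣ Nat.card M := by
      have := Nat.Coprime.mul_dvd_of_dvd_of_dvd (show Nat.Coprime 128 (3 ^ 2) by norm_num) hd h
      simpa using this
    have := Nat.le_of_dvd Nat.card_pos this
    omega
  have hw1 : w ≠ 1 := fun e => by
    have h0 : pmap (s.r 1) s.a = s.a := by rw [← hwa, e, K.act_one H]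
    rw [s.r_act.1] at h0
    have h1 := s.bil.1
    rw [h0, B_self] at h1
    exact zero_ne_one h1
  obtain ⟨h, hh⟩ := CfsgLib.MonsterType.Local.exists_conj_zpowers (p := 3) (H := ↥M) (a := ⟨w, hwM⟩)
    (c := ⟨g * y * g⁻¹, hxM⟩) (by rw [← orderOf_coe]; exact orderOf_eq_prime hw3 hw1)
    (by
      rw [← orderOf_coe, ← T.ord]
      exact (MulAut.conj g).orderOf_eq y) h9
  obtain ⟨n, hn⟩ := mem_zpowers_iff.1 hh
  refine ⟨(h : G) * g, (Commute.mul_left (show Commute (h : G) z from h.2.1) hgz).eq, mem_zpowers_iff.2 ⟨n, ?_⟩⟩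
  have e : w ^ n = (h : G) * (g * y * g⁻¹) * (h : G)⁻¹ := congrArg Subtype.val hn
  rw [e]
  group

omit T in
/-- A power of an element of order three different from one generates the same group. -/
theorem mem_zpowers_pow {w : G} (h3 : w ^ 3 = 1) : ∀ i : Fin 3, i ≠ 0 → w ∈ zpowers (w ^ (i : ℕ))
  | 0, h => absurd rfl h
  | 1, _ => by simpa using mem_zpowers w
  | 2, _ => by
    refine mem_zpowers_iff.2 ⟨2, ?_⟩
    rw [show ((2 : Fin 3) : ℕ) = 2 from rfl, zpow_ofNat, ← pow_mul, show 2 * 2 = 3 + 1 from rfl, pow_succ, h3,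
      one_mul]

/-- `y` is a product of commutators of its centralizer. -/
theorem y_mem_commutator {F : Type} [Field F] [Fintype F] (hF : Fintype.card F = 9)
    (e : (↥(Cy y) ⧸ Zy y) ≃* Cfsg.PSU 4 F 3) (hsimple : IsSimpleGroup (Cfsg.PSU 4 F 3))
    (hcls : ∀ u : ↥(Cy y) ⧸ Zy y, orderOf u = 2 → IsConj u T.zb) :
    (⟨y, mem_Cy.2 rfl⟩ : ↥(Cy y)) ∈ commutator ↥(Cy y) := by
  classical
  have H := T.hyp
  have : Fact (Nat.Prime 3) := ⟨Nat.prime_three⟩
  obtain ⟨a0, b0, d0, s0, u0, w0, ⟨ha3, hb3, hs2, hs1, ha1'⟩, ⟨has, hbs, hds, hab⟩, ⟨hda, hua, hwa, huw⟩,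
    hmove⟩ := Witness.exists_witness (K := F) hF
  by_contra hy
  set yc : ↥(Cy y) := ⟨y, mem_Cy.2 rfl⟩ with hyc
  set L := commutator ↥(Cy y) with hL
  -- the derived group maps onto the quotient
  have hsurj : Function.Surjective fun l : ↥L => e (piY y l) := by
    haveI := hsimple
    have hcomm : commutator (Cfsg.PSU 4 F 3) = ⊤ := by
      refine (IsSimpleGroup.eq_bot_or_eq_top_of_normal _ inferInstance).resolve_left fun h => ?_
      rw [commutator_eq_bot_iff_center_eq_top] at h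
      exact hmove (mem_center_iff.1 (by rw [h]; exact mem_top _) _)
    let f := e.toMonoidHom.comp (piY y)
    have hf : Function.Surjective f := e.surjective.comp (QuotientGroup.mk'_surjective _)
    have hmap : L.map f = ⊤ := by
      rw [hL, commutator_def, map_commutator, map_top_of_surjective f hf]
      exact hcomm
    intro u
    obtain ⟨l, hl, hlu⟩ : u ∈ L.map f := hmap ▸ mem_top u
    exact ⟨⟨l, hl⟩, hlu⟩
  have hy3 : yc ^ 3 = 1 := Subtype.ext T.y_three
  have hinj : Function.Injective (((e.toMonoidHom.comp (piY y)).comp L.subtype)) := by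
    refine (injective_iff_map_eq_one _).2 fun l hl => ?_
    have hz : (l : ↥(Cy y)) ∈ Zy y := (QuotientGroup.eq_one_iff _).1 (e.map_eq_one_iff.1 hl)
    obtain ⟨k, hk⟩ := T.zpow_cases hz
    have hk' : (l : ↥(Cy y)) = yc ^ (k : ℕ) := Subtype.ext hk
    by_cases h0 : k = 0
    · subst h0; exact Subtype.ext (hk'.trans (pow_zero _))
    · refine absurd ?_ hy
      obtain ⟨n, hn⟩ := mem_zpowers_iff.1 (mem_zpowers_pow hy3 k h0)
      rw [← hn, ← hk']
      exact zpow_mem l.2 n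
  let E : ↥L ≃* Cfsg.PSU 4 F 3 := MulEquiv.ofBijective _ ⟨hinj, hsurj⟩
  let ι : Cfsg.PSU 4 F 3 →* G := (Cy y).subtype.comp (L.subtype.comp E.symm.toMonoidHom)
  have ιinj : Function.Injective ι := Subtype.val_injective.comp (Subtype.val_injective.comp E.symm.injective)
  -- the derived group inside `G`
  set LG := L.map (Cy y).subtype with hLG
  have ιmem : ∀ u, ι u ∈ LG := fun u => ⟨_, (E.symm u).2, rfl⟩
  have conjLG : ∀ {c l : G}, c ∈ Cy y → l ∈ LG → c * l * c⁻¹ ∈ LG := by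
    rintro c _ hc ⟨l, hl, rfl⟩
    exact ⟨⟨c, hc⟩ * l * ⟨c, hc⟩⁻¹, (inferInstance : L.Normal).conj_mem _ hl _, rfl⟩
  have commLG : ∀ {c d : G}, c ∈ Cy y → d ∈ Cy y → c * d * c⁻¹ * d⁻¹ ∈ LG := fun {c d} hc hd =>
    ⟨(⟨c, hc⟩ : ↥(Cy y)) * ⟨d, hd⟩ * (⟨c, hc⟩)⁻¹ * (⟨d, hd⟩)⁻¹,
      Subgroup.commutator_mem_commutator (mem_top _) (mem_top _), rfl⟩
  have y_notin : y ∉ LG := by
    rintro ⟨l, hl, hly⟩
    exact hy ((show l = yc from Subtype.ext hly) ▸ hl)
  have cubeLG : ∀ {c : G}, c ∈ Cy y → c ^ 3 ∈ LG := by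
    intro c hc
    obtain ⟨l, hl⟩ := hsurj (e (piY y ⟨c, hc⟩))
    have h := QuotientGroup.eq.1 (e.injective hl)
    obtain ⟨k, hk⟩ := T.zpow_cases (show ((l : ↥(Cy y)) : G)⁻¹ * c ∈ zpowers y from h)
    have hlc : c = ((l : ↥(Cy y)) : G) * y ^ (k : ℕ) := by rw [← hk, mul_inv_cancel_left]
    have hcom : Commute ((l : ↥(Cy y)) : G) (y ^ (k : ℕ)) :=
      (show Commute ((l : ↥(Cy y)) : G) y from mem_Cy.1 (l : ↥(Cy y)).2).pow_right _
    rw [hlc, hcom.mul_pow, ← pow_mul, mul_comm (k : ℕ) 3, pow_mul, T.y_three, one_pow, mul_one]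
    exact pow_mem (show ((l : ↥(Cy y)) : G) ∈ LG from ⟨_, l.2, rfl⟩) 3
  have QLG : ∀ {q : G}, q ∈ Q → q ∈ Dg z y → q ∈ LG := fun {q} hq hqD => by
    rw [← inv_inv q, show q⁻¹ = q ^ 3 from inv_eq_of_mul_eq_one_right (by rw [← pow_succ', T.Q_pow hq])]
    exact inv_mem (cubeLG (T.DY hqD))
  -- a conjugate of `y` is not a commutator in its centralizer
  have no_comm : ∀ {g c r u w : G}, g * y * g⁻¹ ∈ zpowers r → r ∈ zpowers c → c ∈ zpowers r → r ^ 3 = 1 →
      u * c = c * u → w * c = c * w → u * w = c * (w * u) → False := by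
    intro g c r u w hg hr hc hr3 hu hw huw
    have hgc : g * y * g⁻¹ ∈ zpowers c := (zpowers_le.2 hr) hg
    have key : ∀ {t : G}, t * c = c * t → g⁻¹ * t * g ∈ Cy y := by
      intro t ht
      obtain ⟨n, hn⟩ := mem_zpowers_iff.1 hgc
      have h : t * (g * y * g⁻¹) = g * y * g⁻¹ * t := by rw [← hn]; exact ((show Commute t c from ht).zpow_right n).eq
      refine mem_Cy.2 ?_
      calc g⁻¹ * t * g * y = g⁻¹ * (t * (g * y * g⁻¹)) * g := by group
        _ = y * (g⁻¹ * t * g) := by rw [h]; group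
    have hce : c = u * w * u⁻¹ * w⁻¹ := by rw [huw]; group
    have hcL : g⁻¹ * c * g ∈ LG := by
      rw [hce, show g⁻¹ * (u * w * u⁻¹ * w⁻¹) * g =
        g⁻¹ * u * g * (g⁻¹ * w * g) * (g⁻¹ * u * g)⁻¹ * (g⁻¹ * w * g)⁻¹ by group]
      exact commLG (key hu) (key hw)
    obtain ⟨n, hn⟩ := mem_zpowers_iff.1 hgc
    refine y_notin ?_
    have e' : y = (g⁻¹ * c * g) ^ n := by
      calc y = g⁻¹ * (c ^ n) * g := by rw [hn]; group
        _ = _ := by rw [show g⁻¹ * c * g = g⁻¹ * c * g⁻¹⁻¹ by rw [inv_inv], conj_zpow, inv_inv]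
    rw [e']
    exact zpow_mem hcL n
  -- the rotations
  obtain ⟨a, ha, haa, ha3'⟩ := T.exists_rot sideA
  obtain ⟨b, hb, hba, hb3'⟩ := T.exists_rot sideB
  obtain ⟨⟨qA, lA, kA, hA⟩, qB, lB, kB, hB⟩ := swap_facts
  obtain ⟨gA, -, hgA⟩ := T.exists_conj_rot sideA ha haa ha3' LA qA lA kA hA
  obtain ⟨gB, -, hgB⟩ := T.exists_conj_rot sideB hb hba hb3' LB qB lB kB hB
  obtain ⟨d, hdD, hdact⟩ := T.exists_lift ((0, 0, 0, 1) : Par)
  have rotLG : ∀ (s : Side) {w : G}, w ∈ T.sub s → K.act w = pmap (s.r 1) → w ^ 3 = 1 →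
      (∀ t, pmap ((0, 0, 0, 1) : Par) (pmap (s.r 1) (six t)) =
        pmap (s.r 2) (pmap ((0, 0, 0, 1) : Par) (six t))) → w ∈ LG := by
    intro s w hw hwact hw3 hinv
    have hwD := hw.1
    have hdw := mul_mem hdD hwD
    have hw2d := mul_mem (pow_mem hwD 2) hdD
    have hact : K.act (w ^ 2 * d) = K.act (d * w) := by
      refine eq_six (K.act_add H (mem_Dg.1 hw2d).1) (K.act_add H (mem_Dg.1 hdw).1) fun t => ?_
      rw [K.act_mul H (mem_Dg.1 (pow_mem hwD 2)).1 (mem_Dg.1 hdD).1, K.act_mul H (mem_Dg.1 hdD).1 (mem_Dg.1 hwD).1,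
        hdact, hwact, T.act_pow_side s hw hwact, hinv]
      rfl
    obtain ⟨h1, h2⟩ := T.div_mem hw2d hdw hact
    have hq := conjLG (T.DY (mul_mem (pow_mem hwD 2) hdD)) (QLG h1 h2)
    have hc := commLG (T.DY hdD) (T.DY hwD)
    have e' : w = (w ^ 2 * d * ((w ^ 2 * d)⁻¹ * (d * w)) * (w ^ 2 * d)⁻¹)⁻¹ * (d * w * d⁻¹ * w⁻¹) := by
      group
    rw [e']
    exact mul_mem (inv_mem hq) hc
  have haL : a ∈ LG := rotLG sideA ha haa ha3' fun t => (inverts_six t).1
  have hbL : b ∈ LG := rotLG sideB hb hba hb3' fun t => (inverts_six t).2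
  -- move the involution to `z`
  have hu2 : orderOf (e.symm s0) = 2 := by
    rw [MulEquiv.orderOf_eq]
    exact orderOf_eq_prime (by rw [pow_two, hs2]) hs1
  obtain ⟨gq, hgq⟩ := isConj_iff.1 (hcls _ hu2)
  obtain ⟨g, rfl⟩ := QuotientGroup.mk'_surjective (Zy y) gq
  have hιz : (g : G) * ι s0 * (g : G)⁻¹ = z := by
    have hpi : piY y ((E.symm s0 : ↥L) : ↥(Cy y)) = e.symm s0 := e.injective (by
      rw [e.apply_symm_apply]
      exact E.apply_symm_apply s0)
    have hs4 : ι s0 ^ 4 = 1 := by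
      rw [← map_pow, show s0 ^ 4 = (s0 * s0) * (s0 * s0) by simp only [pow_succ, pow_zero, one_mul, mul_assoc], hs2,
        one_mul, map_one]
    refine T.eq_of_pow_four ?_ (T.Q_pow (Coord.zQ H)) (mem_Cy.1 (g * ((E.symm s0 : ↥L) : ↥(Cy y)) * g⁻¹).2)
      (piY_eq (u := g * ((E.symm s0 : ↥L) : ↥(Cy y)) * g⁻¹) (v := ⟨z, T.zY⟩) ?_)
    · rw [conj_pow, hs4, mul_one, mul_inv_cancel]
    · rw [map_mul, map_mul, map_inv, hpi]
      exact hgq
  let j1 : Cfsg.PSU 4 F 3 →* G := (MulAut.conj (g : G)).toMonoidHom.comp ι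
  have j1z : j1 s0 = z := hιz
  have j1L : ∀ u, j1 u ∈ LG := fun u => conjLG g.2 (ιmem u)
  have j1inj : Function.Injective j1 := (MulAut.conj (g : G)).injective.comp ιinj
  have LGy : ∀ {l : G}, l ∈ LG → l ∈ Cy y := by rintro _ ⟨l, -, rfl⟩; exact l.2
  have j1D : ∀ {u}, u * s0 = s0 * u → j1 u ∈ Dg z y := fun {u} hu => mem_Dg.2
    ⟨by rw [← j1z, ← map_mul, hu, map_mul], mem_Cy.1 (LGy (j1L u))⟩
  -- the group of the three rotations
  have hyD := T.y_mem
  have haD := ha.1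
  have hbD := hb.1
  have cab : Commute a b := T.sides_commute ha hb
  have cay : Commute a y := (mem_Dg.1 haD).2
  have cby : Commute b y := (mem_Dg.1 hbD).2
  let Tg : Subgroup ↥(Dg z y) :=
    { carrier := {c | ∃ i j k : ℕ, (c : G) = a ^ i * b ^ j * y ^ k}
      one_mem' := ⟨0, 0, 0, by simp⟩
      mul_mem' := fun {c d} hc hd => by
        obtain ⟨i, j, k, e1⟩ := hc
        obtain ⟨i', j', k', e2⟩ := hd
        refine ⟨i + i', j + j', k + k', ?_⟩
        rw [Subgroup.coe_mul, e1, e2, pow_add, pow_add, pow_add]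
        have c1 := ((cab.symm.pow_pow j i')).eq
        have c2 := ((cay.symm.pow_pow k i')).eq
        have c3 := ((cby.symm.pow_pow k j')).eq
        calc a ^ i * b ^ j * y ^ k * (a ^ i' * b ^ j' * y ^ k')
            = a ^ i * b ^ j * (y ^ k * a ^ i') * b ^ j' * y ^ k' := by simp only [mul_assoc]
          _ = a ^ i * (b ^ j * a ^ i') * (y ^ k * b ^ j') * y ^ k' := by rw [c2]; simp only [mul_assoc]
          _ = _ := by rw [c1, c3]; simp only [mul_assoc]
      inv_mem' := fun {c} hc => by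
        obtain ⟨i, j, k, e1⟩ := hc
        refine ⟨2 * i, 2 * j, 2 * k, ?_⟩
        rw [Subgroup.coe_inv, inv_eq_iff_mul_eq_one, e1]
        have e0 : ∀ {t : G}, t ^ 3 = 1 → ∀ n, t ^ n * t ^ (2 * n) = 1 := fun {t} ht n => by
          rw [← pow_add, show n + 2 * n = 3 * n by ring, pow_mul, ht, one_pow]
        calc a ^ i * b ^ j * y ^ k * (a ^ (2 * i) * b ^ (2 * j) * y ^ (2 * k))
            = a ^ i * b ^ j * (y ^ k * a ^ (2 * i)) * b ^ (2 * j) * y ^ (2 * k) := by simp only [mul_assoc]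
          _ = a ^ i * (b ^ j * a ^ (2 * i)) * (y ^ k * b ^ (2 * j)) * y ^ (2 * k) := by
              rw [(cay.symm.pow_pow k (2 * i)).eq]; simp only [mul_assoc]
          _ = (a ^ i * a ^ (2 * i)) * (b ^ j * b ^ (2 * j)) * (y ^ k * y ^ (2 * k)) := by
              rw [(cab.symm.pow_pow j (2 * i)).eq, (cby.symm.pow_pow k (2 * j)).eq]; simp only [mul_assoc]
          _ = 1 := by rw [e0 ha3', e0 hb3', e0 T.y_three, one_mul, one_mul] }
  have Tcomm : ∀ c ∈ Tg, ∀ d ∈ Tg, (c : G) * d = d * c := by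
    rintro c ⟨i, j, k, e1⟩ d ⟨i', j', k', e2⟩
    have ha' : ∀ m, Commute (a ^ m) (a ^ i' * b ^ j' * y ^ k') := fun m =>
      (((Commute.refl a).pow_pow m i').mul_right (cab.pow_pow m j')).mul_right (cay.pow_pow m k')
    have hb' : ∀ m, Commute (b ^ m) (a ^ i' * b ^ j' * y ^ k') := fun m =>
      ((cab.symm.pow_pow m i').mul_right ((Commute.refl b).pow_pow m j')).mul_right (cby.pow_pow m k')
    have hy' : ∀ m, Commute (y ^ m) (a ^ i' * b ^ j' * y ^ k') := fun m =>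
      ((cay.symm.pow_pow m i').mul_right (cby.symm.pow_pow m j')).mul_right ((Commute.refl y).pow_pow m k')
    rw [e1, e2]
    exact (((ha' i).mul_left (hb' j)).mul_left (hy' k)).eq
  let fT : Fin 3 × Fin 3 × Fin 3 → ↥Tg := fun p =>
    ⟨⟨a ^ (p.1 : ℕ) * b ^ (p.2.1 : ℕ) * y ^ (p.2.2 : ℕ),
      mul_mem (mul_mem (pow_mem haD _) (pow_mem hbD _)) (pow_mem hyD _)⟩, _, _, _, rfl⟩
  have fTbij : Function.Bijective fT := by
    refine ⟨fun p p' hp => ?_, fun c => ?_⟩
    · have h := congrArg (fun c : ↥Tg => K.act ((c : ↥(Dg z y)) : G)) hp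
      simp only [fT, T.act_tri ha haa hb hba] at h
      simpa [Prod.ext_iff] using pmap_inj h
    · obtain ⟨⟨c, hc⟩, i, j, k, e1⟩ := c
      refine ⟨(⟨i % 3, Nat.mod_lt _ (by norm_num)⟩, ⟨j % 3, Nat.mod_lt _ (by norm_num)⟩,
        ⟨k % 3, Nat.mod_lt _ (by norm_num)⟩), Subtype.ext (Subtype.ext ?_)⟩
      show a ^ (i % 3) * b ^ (j % 3) * y ^ (k % 3) = c
      rw [← pow_eq_pow_mod i ha3', ← pow_eq_pow_mod j hb3', ← pow_eq_pow_mod k T.y_three]
      exact e1.symm
  have hcardT : Nat.card Tg = 27 := by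
    rw [← Nat.card_eq_of_bijective fT fTbij]; simp
  let PT : Sylow 3 ↥(Dg z y) := (IsPGroup.of_card (n := 3) hcardT).toSylow (fun h => by
    have := Tg.card_mul_index
    rw [hcardT, T.card_Dg] at this
    omega)
  -- move the pair into the group of the rotations
  have hA0 := j1D has
  have hB0 := j1D hbs
  have hAB0 : Commute (⟨_, hA0⟩ : ↥(Dg z y)) ⟨_, hB0⟩ :=
    Subtype.ext (show j1 a0 * j1 b0 = j1 b0 * j1 a0 by rw [← map_mul, hab, map_mul])
  have hA03 : (⟨_, hA0⟩ : ↥(Dg z y)) ^ 3 = 1 := Subtype.ext (show j1 a0 ^ 3 = 1 by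
    rw [← map_pow, pow_succ, pow_two, ha3, map_one])
  have hB03 : (⟨_, hB0⟩ : ↥(Dg z y)) ^ 3 = 1 := Subtype.ext (show j1 b0 ^ 3 = 1 by
    rw [← map_pow, pow_succ, pow_two, hb3, map_one])
  let P0 : Subgroup ↥(Dg z y) := Subgroup.closure {(⟨_, hA0⟩ : ↥(Dg z y)), ⟨_, hB0⟩}
  have hP0 : IsPGroup 3 ↥P0 := by
    rintro ⟨c, hc⟩
    refine ⟨1, Subtype.ext ?_⟩
    show c ^ 3 ^ 1 = 1
    rw [pow_one]
    have hle : P0 ≤ centralizer ({(⟨_, hA0⟩ : ↥(Dg z y)), ⟨_, hB0⟩} : Set ↥(Dg z y)) := by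
      rw [closure_le]
      rintro c (rfl | rfl) <;> refine mem_centralizer_iff.2 ?_ <;> rintro d (rfl | rfl)
      exacts [rfl, hAB0.eq.symm, hAB0.eq, rfl]
    refine Subgroup.closure_induction ?_ (one_pow _) (fun u v hu hv h1 h2 => ?_) (fun u hu h1 => ?_) hc
    · rintro u (rfl | rfl)
      exacts [hA03, hB03]
    · have : Commute u v := by
        have := mem_centralizer_iff.1 (show v ∈ centralizer (P0 : Set ↥(Dg z y)) by
          rw [show P0 = Subgroup.closure _ from rfl, centralizer_closure]; exact hle hv) u hu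
        exact this
      rw [this.mul_pow, h1, h2, one_mul]
    · rw [inv_pow, h1, inv_one]
  obtain ⟨S, hS⟩ := hP0.exists_le_sylow
  obtain ⟨h, hh⟩ := MulAction.exists_smul_eq ↥(Dg z y) S PT
  have intoT : ∀ {c : ↥(Dg z y)}, c ∈ S → h * c * h⁻¹ ∈ Tg := fun {c} hc => by
    have : h * c * h⁻¹ ∈ (h • S : Sylow 3 ↥(Dg z y)) := ⟨c, hc, rfl⟩
    rw [hh] at this
    exact this
  let j : Cfsg.PSU 4 F 3 →* G := (MulAut.conj (h : G)).toMonoidHom.comp j1
  have jinj : Function.Injective j := (MulAut.conj (h : G)).injective.comp j1inj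
  have jL : ∀ u, j u ∈ LG := fun u => conjLG (T.DY h.2) (j1L u)
  have jD : ∀ {u}, u * s0 = s0 * u → j u ∈ Dg z y := fun {u} hu => mul_mem (mul_mem h.2 (j1D hu)) (inv_mem h.2)
  have hAT := intoT (hS (subset_closure (Or.inl rfl)))
  have hBT := intoT (hS (subset_closure (Or.inr rfl)))
  obtain ⟨⟨i, jx, k⟩, hijk⟩ := fTbij.2 ⟨_, hAT⟩
  have eA : a ^ (i : ℕ) * b ^ (jx : ℕ) * y ^ (k : ℕ) = j a0 := congrArg (fun c : ↥Tg => ((c : ↥(Dg z y)) : G)) hijk
  have hk : k = 0 := by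
    by_contra hk
    refine y_notin ?_
    have : y ^ (k : ℕ) ∈ LG := by
      rw [show y ^ (k : ℕ) = (a ^ (i : ℕ) * b ^ (jx : ℕ))⁻¹ * j a0 by rw [← eA, inv_mul_cancel_left]]
      exact mul_mem (inv_mem (mul_mem (pow_mem haL _) (pow_mem hbL _))) (jL a0)
    exact (zpowers_le.2 this) (mem_zpowers_pow T.y_three k hk)
  subst hk
  rw [show ((0 : Fin 3) : ℕ) = 0 from rfl, pow_zero, mul_one] at eA
  have juw : j u0 * j w0 = j a0 * (j w0 * j u0) := by rw [← map_mul, huw, map_mul, map_mul]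
  have jua : j u0 * j a0 = j a0 * j u0 := by rw [← map_mul, hua, map_mul]
  have jwa : j w0 * j a0 = j a0 * j w0 := by rw [← map_mul, hwa, map_mul]
  by_cases hi : i = 0
  · subst hi
    rw [show ((0 : Fin 3) : ℕ) = 0 from rfl, pow_zero, one_mul] at eA
    have hj : jx ≠ 0 := fun hj => ha1' (jinj (by rw [← eA, hj, map_one]; exact pow_zero b))
    exact no_comm hgB (by rw [← eA]; exact mem_zpowers_pow hb3' jx hj)
      (by rw [← eA]; exact pow_mem (mem_zpowers b) _) hb3' jua jwa juw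
  by_cases hj : jx = 0
  · subst hj
    rw [show ((0 : Fin 3) : ℕ) = 0 from rfl, pow_zero, mul_one] at eA
    exact no_comm hgA (by rw [← eA]; exact mem_zpowers_pow ha3' i hi)
      (by rw [← eA]; exact pow_mem (mem_zpowers a) _) ha3' jua jwa juw
  -- elements of exponent three commuting with a diagonal rotation lie in the group of rotations
  have claim : ∀ x : ↥(Dg z y), x ^ 3 = 1 → (x : G) * j a0 = j a0 * x → x ∈ Tg := by
    intro x hx3 hxA
    have hx3' : (x : G) ^ 3 = 1 := congrArg Subtype.val hx3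
    obtain ⟨i', j', k', hact⟩ := T.act_cube x.2 hx3'
    set t := fT (i', j', k') with ht
    have htact : K.act ((t : ↥(Dg z y)) : G) = pmap ((i', j', k', 0) : Par) := T.act_tri ha haa hb hba i' j' k'
    obtain ⟨h1, h2⟩ := T.div_mem (t : ↥(Dg z y)).2 x.2 (htact.trans hact.symm)
    set q := ((t : ↥(Dg z y)) : G)⁻¹ * x with hq
    have htA : ((t : ↥(Dg z y)) : G) * j a0 = j a0 * (t : ↥(Dg z y)) := Tcomm _ t.2 _ hAT
    have hqA : j a0 * q = q * j a0 :=
      (((show Commute (j a0) ((t : ↥(Dg z y)) : G) from htA.symm).inv_right).mul_right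
        (show Commute (j a0) (x : G) from hxA.symm)).eq
    have hfix : pmap ((i, jx, 0, 0) : Par) (K.vec q) = K.vec q := by
      have hA3 := T.act_tri ha haa hb hba i jx 0
      rw [show ((0 : Fin 3) : ℕ) = 0 from rfl, pow_zero, mul_one, eA] at hA3
      rw [← hA3, K.act_vec H (mem_Dg.1 (jD has)).1 h1, hqA, mul_inv_cancel_right]
    have h0 := no_fixed i jx hi hj _ ((T.mem_Q_iff h1).1 h2) hfix
    have hxt : (x : G) = (t : ↥(Dg z y)) * q := by rw [hq, mul_inv_cancel_left]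
    rcases (K.zero_iff h1).1 h0 with e1 | e1
    · rw [e1, mul_one] at hxt
      rw [show x = (t : ↥(Dg z y)) from Subtype.ext hxt]
      exact t.2
    · exfalso
      have ht3 : ((t : ↥(Dg z y)) : G) ^ 3 = 1 := by
        have ct : Commute (a ^ (i' : ℕ) * b ^ (j' : ℕ)) (y ^ (k' : ℕ)) :=
          (cay.pow_pow _ _).mul_left (cby.pow_pow _ _)
        have p3 : ∀ {t : G}, t ^ 3 = 1 → ∀ n, (t ^ n) ^ 3 = 1 := fun {t} ht n => by
          rw [← pow_mul, mul_comm, pow_mul, ht, one_pow]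
        show (a ^ (i' : ℕ) * b ^ (j' : ℕ) * y ^ (k' : ℕ)) ^ 3 = 1
        rw [ct.mul_pow, (cab.pow_pow _ _).mul_pow, p3 ha3', p3 hb3', p3 T.y_three, one_mul, one_mul]
      rw [e1] at hxt
      rw [hxt, (show Commute ((t : ↥(Dg z y)) : G) z from (mem_Dg.1 (t : ↥(Dg z y)).2).1).mul_pow, ht3, one_mul,
        pow_succ, pow_two, Coord.zz H, one_mul] at hx3'
      exact H.extra.ne_one hx3'
  have hB' : (⟨j b0, jD hbs⟩ : ↥(Dg z y)) ∈ Tg := hBT
  have hbc : (⟨j (d0 * b0 * d0⁻¹), mul_mem (mul_mem (jD hds) (jD hbs)) (inv_mem (jD hds)) |> fun m => by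
      rwa [map_mul, map_mul, map_inv]⟩ : ↥(Dg z y)) ∈ Tg := by
    refine claim _ (Subtype.ext ?_) ?_
    · show j (d0 * b0 * d0⁻¹) ^ 3 = 1
      rw [← map_pow, conj_pow, pow_succ, pow_two, hb3, mul_one, mul_inv_cancel, map_one]
    · show j (d0 * b0 * d0⁻¹) * j a0 = j a0 * j (d0 * b0 * d0⁻¹)
      rw [← map_mul, ← map_mul, (((show Commute d0 a0 from hda).mul_left (show Commute b0 a0 from hab.symm)).mul_left
        (show Commute d0 a0 from hda).inv_left).eq]
  refine hmove (jinj ?_)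
  rw [map_mul j _ b0, map_mul j b0]
  exact Tcomm _ hbc _ hB'

end Three

end CfsgLib.SuzType
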