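import Mathlib
import Cfsg.Agent.Lib.SuzType.ThreeSplit
import Cfsg.Agent.Lib.ClassicalGroups.UnitarySimple
import Cfsg.Agent.Lib.Components.Basic

/-!
The centralizer of `y` is quasisimple and has index two in the normalizer of `⟨y⟩`, given the identification
of its central quotient.
-/

set_option autoImplicit false
set_option linter.style.longLine false
set_option maxHeartbeats 1000000
set_option synthInstance.maxSize 8000
set_option synthInstance.maxHeartbeats 1000000

namespace CfsgLib.SuzType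

open Subgroup
open Fin.NatCast

theorem invert_six : (∀ t, refl pA (refl pC (Y0 (six t))) = Y0 (Y0 (refl pA (refl pC (six t))))) ∧
    ∃ t, refl pA (refl pC (Y0 (six t))) ≠ Y0 (refl pA (refl pC (six t))) := by decide +kernel

variable {G : Type*} [Group G] [Finite G] {z : G} {Q : Subgroup G}

namespace Three

variable {K : Coord z Q 1} {y : G} (T : Three K y)
include T

/-- An element of `C(z)` inverting `y`. -/
theorem exists_invert : ∃ t : G, t * z = z * t ∧ t * y * t⁻¹ = y⁻¹ := by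
  classical
  have H := T.hyp
  have : Fact (Nat.Prime 3) := ⟨Nat.prime_three⟩
  obtain ⟨c, hcz, hca⟩ := K.exists_act_pair H six_facts.2.1.1 six_facts.2.1.2.2.2.2
  have hiz : c⁻¹ * z = z * c⁻¹ := (Commute.inv_left hcz).eq
  have hcyz : c * y * z = z * (c * y) := (Commute.mul_left hcz T.yz).eq
  have hxz : c * y * c⁻¹ * z = z * (c * y * c⁻¹) := (Commute.mul_left hcyz hiz).eq
  obtain ⟨hinv, t0, ht0⟩ := invert_six
  have hfun : (fun v => refl pA (refl pC (Y0 v))) = fun v => Y0 (Y0 (refl pA (refl pC v))) := eq_six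
    (fun a b => by simp only [Y0_add, refl_add]) (fun a b => by simp only [Y0_add, refl_add]) hinv
  have hy2 : K.act (y ^ 2) = fun v => Y0 (Y0 v) := funext fun v => by
    rw [pow_two, K.act_mul H T.yz T.yz, T.act]
  have hxact : K.act (c * y * c⁻¹) = K.act (y ^ 2) := funext fun v => by
    have h' : K.act c (K.act c⁻¹ v) = v := by rw [← K.act_mul H hcz hiz, mul_inv_cancel, K.act_one H]
    rw [hca] at h'
    rw [K.act_mul H hcyz hiz, K.act_mul H hcz T.yz, hca, T.act, hy2]
    exact (congrFun hfun _).trans (by rw [h'])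
  let M : Subgroup G :=
    { carrier := {m | ∃ n : ℤ, ∃ q ∈ Q, m = y ^ n * q}
      one_mem' := ⟨0, 1, one_mem _, by simp⟩
      mul_mem' := by
        rintro _ _ ⟨n, q, hq, rfl⟩ ⟨m, q', hq', rfl⟩
        refine ⟨n + m, (y ^ m)⁻¹ * q * y ^ m * q', mul_mem ?_ hq', by group⟩
        have hm : (y ^ m)⁻¹ * z = z * (y ^ m)⁻¹ :=
          (((show Commute y z from T.yz).zpow_left m).inv_left).eq
        simpa using H.norm _ hm q hq
      inv_mem' := by
        rintro _ ⟨n, q, hq, rfl⟩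
        exact ⟨-n, y ^ n * q⁻¹ * (y ^ n)⁻¹, H.norm _ ((show Commute y z from T.yz).zpow_left n).eq _ (inv_mem hq),
          by group⟩ }
  have hyM : y ∈ M := ⟨1, 1, one_mem _, by simp⟩
  have hxM : c * y * c⁻¹ ∈ M := by
    refine ⟨2, (y ^ 2)⁻¹ * (c * y * c⁻¹), ?_, by rw [zpow_ofNat, mul_inv_cancel_left]⟩
    have h2 : y ^ 2 * z = z * y ^ 2 := ((show Commute y z from T.yz).pow_left 2).eq
    have h2i : (y ^ 2)⁻¹ * z = z * (y ^ 2)⁻¹ := (Commute.inv_left h2).eq
    refine K.mem_of_act H (Commute.mul_left h2i hxz).eq fun v => ?_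
    rw [K.act_mul H h2i hxz, hxact, K.act_inv_cancel H h2]
  have hle : Nat.card M ≤ 384 := by
    let f : ↥Q × Fin 3 → ↥M := fun p => ⟨y ^ (p.2 : ℕ) * p.1, (p.2 : ℕ), p.1, p.1.2, by rw [zpow_natCast]⟩
    have hf : Function.Surjective f := by
      rintro ⟨_, n, q, hq, rfl⟩
      obtain ⟨k, hk⟩ := T.zpow_cases (zpow_mem (mem_zpowers y) n)
      exact ⟨(⟨q, hq⟩, k), Subtype.ext (by show y ^ (k : ℕ) * q = _; rw [← hk])⟩
    refine (Nat.card_le_card_of_surjective f hf).trans_eq ?_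
    rw [Nat.card_prod, H.card, Nat.card_fin]
  have hQM : Q ≤ M := fun q hq => ⟨0, q, hq, by simp⟩
  have hd : 128 ∣ Nat.card M := H.card ▸ card_dvd_of_le hQM
  have h9 : ¬ 3 ^ 2 ∣ Nat.card M := fun h => by
    have : 1152 ∣ Nat.card M := by
      have := Nat.Coprime.mul_dvd_of_dvd_of_dvd (show Nat.Coprime 128 (3 ^ 2) by norm_num) hd h
      simpa using this
    have := Nat.le_of_dvd Nat.card_pos this
    omega
  obtain ⟨h, hh⟩ := CfsgLib.MonsterType.Local.exists_conj_zpowers (p := 3) (H := ↥M) (a := ⟨y, hyM⟩)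
    (c := ⟨c * y * c⁻¹, hxM⟩) (by rw [← orderOf_coe]; exact T.ord)
    (by rw [← orderOf_coe, ← T.ord]; exact (MulAut.conj c).orderOf_eq y) h9
  obtain ⟨n, hn⟩ := mem_zpowers_iff.1 hh
  have e : y ^ n = (h : G) * (c * y * c⁻¹) * (h : G)⁻¹ := congrArg Subtype.val hn
  obtain ⟨k, hk⟩ := T.zpow_cases (zpow_mem (mem_zpowers y) n)
  obtain ⟨m, q, hq, hhm⟩ := h.2
  have hhz : (h : G) * z = z * h := by
    rw [hhm]
    exact (Commute.mul_left ((show Commute y z from T.yz).zpow_left m) (show Commute q z from H.extra.comm_z hq)).eq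
  have hhcz : (h : G) * c * z = z * (h * c) := (Commute.mul_left hhz hcz).eq
  refine ⟨h * c, hhcz, ?_⟩
  have hval : (h : G) * c * y * ((h : G) * c)⁻¹ = y ^ (k : ℕ) := by rw [← hk, e]; group
  have hyinv : y⁻¹ = y ^ 2 := inv_eq_of_mul_eq_one_right (by rw [← pow_succ', T.y_three])
  rw [hyinv, hval]
  fin_cases k
  · exfalso
    have h0 : (h : G) * c * y * ((h : G) * c)⁻¹ = 1 := hval.trans (pow_zero y)
    exact orderOf_eq_one_iff.not.1 (by rw [T.ord]; norm_num) (conj_eq_one_iff.1 h0)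
  · exfalso
    have h1 : (h : G) * c * y = y * ((h : G) * c) := mul_inv_eq_iff_eq_mul.1 (hval.trans (pow_one y))
    -- the map of `c` would commute with the rotation
    obtain ⟨k', hk'⟩ := T.zpow_cases (zpow_mem (mem_zpowers y) m)
    have hhact : ∀ v, K.act (h : G) v = K.act (y ^ (k' : ℕ)) v := fun v => by
      rw [hhm, hk', K.act_mul H ((show Commute y z from T.yz).pow_left _).eq (H.extra.comm_z hq), K.act_mem H hq]
    refine ht0 ?_
    have hyk : y ^ (k' : ℕ) * z = z * y ^ (k' : ℕ) := ((show Commute y z from T.yz).pow_left _).eq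
    refine K.act_injective H hyk ?_
    have hcomm : y ^ (k' : ℕ) * y = y * y ^ (k' : ℕ) := ((Commute.refl y).pow_left _).eq
    calc K.act (y ^ (k' : ℕ)) (refl pA (refl pC (Y0 (six t0))))
        = K.act ((h : G) * c * y) (six t0) := by
          rw [K.act_mul H hhcz T.yz, K.act_mul H hhz hcz, hca, hhact, T.act]
      _ = K.act (y * ((h : G) * c)) (six t0) := by rw [h1]
      _ = K.act y (K.act (y ^ (k' : ℕ)) (refl pA (refl pC (six t0)))) := by
          rw [K.act_mul H T.yz hhcz, K.act_mul H hhz hcz, hca, hhact]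
      _ = _ := by
          rw [← K.act_mul H T.yz hyk, ← hcomm, K.act_mul H hyk T.yz, T.act]
  · rfl

theorem Cy_le_normalizer : Cy y ≤ normalizer (zpowers y : Set G) := Subgroup.centralizer_le_normalizer _

theorem mem_N {n : G} (hn : n ∈ normalizer (zpowers y : Set G)) : n * y * n⁻¹ = y ∨ n * y * n⁻¹ = y⁻¹ := by
  obtain ⟨k, hk⟩ := T.zpow_cases ((mem_normalizer_iff.1 hn y).1 (mem_zpowers y))
  fin_cases k
  · exfalso
    exact orderOf_eq_one_iff.not.1 (by rw [T.ord]; norm_num) (conj_eq_one_iff.1 (hk.trans (pow_zero y)))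
  · exact Or.inl (hk.trans (pow_one y))
  · exact Or.inr (hk.trans (inv_eq_of_mul_eq_one_right (by rw [← pow_succ', T.y_three])).symm)

theorem relIndex_two : (Cy y).relIndex (normalizer (zpowers y : Set G)) = 2 := by
  obtain ⟨t, -, ht⟩ := T.exists_invert
  refine relIndex_eq_two_iff_exists_notMem_and'.2 ⟨t, ?_, fun h => ?_, fun b hb => ?_⟩
  · rw [mem_normalizer_iff]
    intro w
    have hpow : ∀ n : ℤ, t * y ^ n * t⁻¹ = y ^ (-n) := fun n => by
      rw [show t * y ^ n * t⁻¹ = (MulAut.conj t) (y ^ n) from rfl, map_zpow, show (MulAut.conj t) y = t * y * t⁻¹ from rfl,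
        ht, inv_zpow, zpow_neg]
    constructor
    · intro hw
      obtain ⟨n, rfl⟩ := mem_zpowers_iff.1 hw
      rw [hpow]
      exact zpow_mem (mem_zpowers y) _
    · intro hw
      obtain ⟨n, hn⟩ := mem_zpowers_iff.1 hw
      have : w = t⁻¹ * y ^ n * t := by rw [hn]; group
      rw [this, ← neg_neg n, ← hpow, show t⁻¹ * (t * y ^ (-n) * t⁻¹) * t = y ^ (-n) by group]
      exact zpow_mem (mem_zpowers y) _
  · have h' : t * y = y * t := mem_Cy.1 h
    rw [h', mul_inv_cancel_right] at ht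
    have h2 : y * y = 1 := by nth_rewrite 2 [ht]; exact mul_inv_cancel y
    have h3 := T.y_three
    rw [pow_succ, pow_two, h2, one_mul] at h3
    exact orderOf_eq_one_iff.not.1 (by rw [T.ord]; norm_num) h3
  · rcases T.mem_N hb with e | e
    · exact Or.inr (mem_Cy.2 (mul_inv_eq_iff_eq_mul.1 e))
    · refine Or.inl (mem_Cy.2 (mul_inv_eq_iff_eq_mul.1 ?_))
      rw [show t * b * y * (t * b)⁻¹ = t * (b * y * b⁻¹) * t⁻¹ by group, e,
        show t * y⁻¹ * t⁻¹ = (t * y * t⁻¹)⁻¹ by group, ht, inv_inv]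

/-- An involution of the centralizer of `y` is conjugate to `z` there. -/
theorem conj_invol (hcls : ∀ u v : ↥(Cy y) ⧸ Zy y, orderOf u = 2 → orderOf v = 2 → IsConj u v) {u : G}
    (hu : orderOf u = 2) (huy : u * y = y * u) : ∃ g : G, g * y = y * g ∧ g * u * g⁻¹ = z := by
  have : Fact (Nat.Prime 2) := ⟨Nat.prime_two⟩
  have hu2 : u ^ 2 = 1 := by rw [← hu, pow_orderOf_eq_one]
  have hu4 : u ^ 4 = 1 := by rw [show 4 = 2 * 2 from rfl, pow_mul, hu2, one_pow]
  have ho : orderOf (piY y ⟨u, mem_Cy.2 huy⟩) = 2 := by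
    refine orderOf_eq_prime (by rw [← map_pow]; exact (congrArg (piY y) (Subtype.ext hu2)).trans (map_one _)) fun e => ?_
    have h1 : u = 1 := (T.eq_of_pow_four (one_pow 4) hu4 (by simp) (by
      rw [inv_one, one_mul]
      exact (QuotientGroup.eq_one_iff (⟨u, mem_Cy.2 huy⟩ : ↥(Cy y))).1 e)).symm
    rw [h1, orderOf_one] at hu
    norm_num at hu
  obtain ⟨gq, hgq⟩ := isConj_iff.1 (hcls _ _ ho T.zb_ord)
  obtain ⟨g, rfl⟩ := QuotientGroup.mk'_surjective (Zy y) gq
  refine ⟨g, mem_Cy.1 g.2, T.eq_of_pow_four ?_ (T.Q_pow (Coord.zQ T.hyp))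
    (mem_Cy.1 (g * ⟨u, mem_Cy.2 huy⟩ * g⁻¹).2) (piY_eq (u := g * ⟨u, mem_Cy.2 huy⟩ * g⁻¹) (v := ⟨z, T.zY⟩) ?_)⟩
  · rw [conj_pow, hu4, mul_one, mul_inv_cancel]
  · rw [map_mul, map_mul, map_inv]
    exact hgq

theorem isQuasisimple {F : Type} [Field F] [Fintype F] (hF : Fintype.card F = 9)
    (e : (↥(Cy y) ⧸ Zy y) ≃* Cfsg.PSU 4 F 3)
    (hcls : ∀ u v : ↥(Cy y) ⧸ Zy y, orderOf u = 2 → orderOf v = 2 → IsConj u v) :
    Cfsg.IsQuasisimple ↥(Cy y) := by
  classical
  have hsimple : IsSimpleGroup (Cfsg.PSU 4 F 3) :=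
    CfsgLib.ClassicalGroups.psu_isSimpleGroup (by rw [hF]; rfl) (by norm_num) (by norm_num)
  haveI := hsimple
  have hy := T.y_mem_commutator hF e hsimple fun u hu => hcls u _ hu T.zb_ord
  obtain ⟨a0, b0, d0, s0, u0, w0, -, -, -, hmove⟩ := Witness.exists_witness (K := F) hF
  have hcenter : center (Cfsg.PSU 4 F 3) ≠ ⊤ := fun h => hmove (mem_center_iff.1 (by rw [h]; exact mem_top _) _)
  have hPSU : _root_.commutator (Cfsg.PSU 4 F 3) = ⊤ := by
    refine (IsSimpleGroup.eq_bot_or_eq_top_of_normal _ inferInstance).resolve_left fun h => ?_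
    exact hcenter ((commutator_eq_bot_iff_center_eq_top _).1 h)
  let f := e.toMonoidHom.comp (piY y)
  have hf : Function.Surjective f := e.surjective.comp (QuotientGroup.mk'_surjective _)
  have hker : f.ker = Zy y := by
    ext c
    rw [MonoidHom.mem_ker]
    exact e.map_eq_one_iff.trans (QuotientGroup.eq_one_iff c)
  have hperf : _root_.commutator ↥(Cy y) = ⊤ := by
    have hZ : Zy y ≤ _root_.commutator ↥(Cy y) := by
      intro c hc
      obtain ⟨k, hk⟩ := T.zpow_cases hc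
      rw [show c = (⟨y, mem_Cy.2 rfl⟩ : ↥(Cy y)) ^ (k : ℕ) from Subtype.ext hk]
      exact pow_mem hy _
    have hmap : (_root_.commutator ↥(Cy y)).map f = ⊤ := by
      rw [_root_.commutator_def, map_commutator, map_top_of_surjective f hf]
      exact hPSU
    have := congrArg (comap f) hmap
    rw [comap_map_eq, comap_top, hker, sup_eq_left.2 hZ] at this
    exact this
  have hc : center ↥(Cy y) = Zy y := by
    refine le_antisymm (fun c hc => ?_) fun c hc => mem_center_iff.2 fun d => Zy_central d hc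
    rw [← hker, MonoidHom.mem_ker]
    have hbot : center (Cfsg.PSU 4 F 3) = ⊥ :=
      (IsSimpleGroup.eq_bot_or_eq_top_of_normal _ inferInstance).resolve_right hcenter
    rw [← mem_bot, ← hbot, mem_center_iff]
    intro u
    obtain ⟨d, rfl⟩ := hf u
    rw [← map_mul, ← map_mul, mem_center_iff.1 hc d]
  refine ⟨⟨hperf⟩, ?_⟩
  exact (MulEquiv.isSimpleGroup_congr ((QuotientGroup.quotientMulEquivOfEq hc).trans e)).2 hsimple

/-- The conclusion, for any name of the subgroup `⟨y⟩`. -/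
theorem conclusion {F : Type} [Field F] [Fintype F] (hF : Fintype.card F = 9)
    (e : (↥(Cy y) ⧸ Zy y) ≃* Cfsg.PSU 4 F 3)
    (hcls : ∀ u v : ↥(Cy y) ⧸ Zy y, orderOf u = 2 → orderOf v = 2 → IsConj u v)
    (W : Subgroup G) (hW : W = zpowers y) [(W.subgroupOf (centralizer (W : Set G))).Normal] :
    Cfsg.IsQuasisimple ↥(centralizer (W : Set G)) ∧
      Nonempty (↥(centralizer (W : Set G)) ⧸ W.subgroupOf (centralizer (W : Set G)) ≃* Cfsg.PSU 4 F 3) ∧
      (centralizer (W : Set G)).relIndex (normalizer (W : Set G)) = 2 := by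
  subst hW
  exact ⟨T.isQuasisimple hF e hcls, ⟨e⟩, T.relIndex_two⟩

end Three

end CfsgLib.SuzType
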