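import Mathlib
import Cfsg.Agent.Lib.SuzType.Classes

/-!
Coordinates on the group of elements fixing a base point of `Q` with trivial residual action: a central
extension of `W × W` by the four group `{1, z, x, zx}` with explicit squares and commutators.
-/

set_option autoImplicit false
set_option maxHeartbeats 1000000
set_option synthInstance.maxSize 8000
set_option synthInstance.maxHeartbeats 1000000
set_option linter.style.longLine false
set_option linter.unusedSectionVars false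

namespace CfsgLib.SuzType

/-- The `z`-coordinate of the square. -/
def psq1 (p : W × W) : ZMod 2 := BW p.1 p.2 + qW 1 p.2

/-- The `x`-coordinate of the square. -/
def psq2 (p : W × W) : ZMod 2 := BW p.1 p.2 + qW 1 p.1

/-- The `z`-coordinate of the commutator. -/
def beta1 (p p' : W × W) : ZMod 2 := BW p.1 p'.2 + BW p'.1 p.2 + BW p.2 p'.2

/-- The `x`-coordinate of the commutator. -/
def beta2 (p p' : W × W) : ZMod 2 := BW p.1 p'.2 + BW p'.1 p.2 + BW p.1 p'.1

/-- A pair spanning an anisotropic line. -/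
def An (p : W × W) : Prop := qW 1 p.1 = 1 ∧ qW 1 p.2 = 1 ∧ BW p.1 p.2 = 1

/-- A pair on one of the three axes with singular parameter. -/
def Ax (p : W × W) : Prop := (p.1 = 0 ∨ p.2 = 0 ∨ p.1 = p.2) ∧ qW 1 p.1 = 0 ∧ qW 1 p.2 = 0

/-- The plane orthogonal to the chosen pair. -/
def DP (w : W) : Prop := BW u1 w = 0 ∧ BW w1 w = 0

/-- Both components in the plane orthogonal to the chosen pair. -/
def TP (p : W × W) : Prop := DP p.1 ∧ DP p.2

/-- The chosen pair as a parameter. -/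
def tP : W × W := (u1, w1)

/-- The chosen pair, rotated. -/
def tP' : W × W := (w1, u1 + w1)

/-- The parameters of the elements commuting with a lift of the chosen pair. -/
def CP (p : W × W) : Prop := beta1 p tP = 0 ∧ beta2 p tP = 0

/-- The parameters of a subgroup of index two in the previous one. -/
def AP (p : W × W) : Prop := TP p ∨ TP (p + tP)

/-- The residual involution fixing the chosen pair up to the swap. -/
def sg (w : W) : W := ((w.1.2, w.1.1), (w.2.1 + w.2.2, w.2.2))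

/-- The action of an outer element on parameters. -/
def Lout (p : W × W) : W × W := (sg p.1, sg p.2 + sg p.1)

/-- The residual permutation realising `sg`. -/
def pi0 : Equiv.Perm (Fin 5) := Equiv.swap 0 1 * Equiv.swap 3 4

instance (p : W × W) : Decidable (An p) := by unfold An; infer_instance
instance (p : W × W) : Decidable (Ax p) := by unfold Ax; infer_instance
instance (w : W) : Decidable (DP w) := by unfold DP; infer_instance
instance (p : W × W) : Decidable (TP p) := by unfold TP; infer_instance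
instance (p : W × W) : Decidable (CP p) := by unfold CP; infer_instance
instance (p : W × W) : Decidable (AP p) := by unfold AP; infer_instance

theorem an_tP : An tP ∧ An tP' ∧ An (tP + tP') := by decide +kernel

theorem inv_cases : ∀ p : W × W, psq1 p = 0 → psq2 p = 0 → Ax p ∨ An p := by decide +kernel

theorem ax_sq : ∀ p : W × W, Ax p → psq1 p = 0 ∧ psq2 p = 0 := by decide +kernel

theorem an_sq : ∀ p : W × W, An p → psq1 p = 0 ∧ psq2 p = 0 := by decide +kernel

theorem ax_not_an : ∀ p : W × W, Ax p → ¬ An p := by decide +kernel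

theorem ax_CP : ∀ p : W × W, Ax p → CP p → TP p := by decide +kernel

theorem CP_sets : (Finset.univ.filter fun p : W × W => CP p).card = 64 ∧
    (Finset.univ.filter fun p : W × W => TP p).card = 16 ∧
    (Finset.univ.filter fun p : W × W => AP p).card = 32 ∧
    (Finset.univ.filter fun p : W × W => TP p ∧ Ax p).card = 7 := by decide +kernel

theorem AP_CP : ∀ p : W × W, AP p → CP p := by decide +kernel

theorem TP_add : ∀ p p' : W × W, TP p → TP p' → TP (p + p') := by
  rintro p p' ⟨⟨a, b⟩, c, d⟩ ⟨⟨a', b'⟩, c', d'⟩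
  refine ⟨⟨?_, ?_⟩, ?_, ?_⟩ <;>
    simp [BW_add_right, a, b, c, d, a', b', c', d']

theorem negP (p : W × W) : -p = p :=
  Prod.ext (neg_eq_of_add_eq_zero_left (addW _)) (neg_eq_of_add_eq_zero_left (addW _))

theorem addP (p : W × W) : p + p = 0 := Prod.ext (addW _) (addW _)

theorem AP_add {p p' : W × W} (h : AP p) (h' : AP p') : AP (p + p') := by
  rcases h with h | h <;> rcases h' with h' | h'
  · exact Or.inl (TP_add _ _ h h')
  · exact Or.inr (by rw [add_assoc]; exact TP_add _ _ h h')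
  · exact Or.inr (by rw [add_right_comm]; exact TP_add _ _ h h')
  · refine Or.inl ?_
    have := TP_add _ _ h h'
    rwa [add_add_add_comm, addP, add_zero] at this

theorem Lout_spec : (∀ p, AP p → AP (Lout p)) ∧ (∀ p, CP p → Lout (Lout p) = p) ∧
    Lout tP = tP ∧ Lout tP' = tP + tP' ∧ ∀ p, AP p → AP (p + Lout p) := by decide +kernel

/-- Every fixed parameter is a norm up to the chosen pair. -/
theorem fixed_norm : ∀ p : W × W, CP p → Lout p = p →
    ∃ d, TP d ∧ (d + Lout d = p ∨ d + Lout d = p + tP) := by decide +kernel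

theorem norm_ne : ∀ p : W × W, AP p → Lout p + p + tP ≠ 0 := by decide +kernel

theorem two_axes : ∀ p : W × W, TP p → ∃ a b, TP a ∧ Ax a ∧ TP b ∧ Ax b ∧ p = a + b := by decide +kernel

theorem comm_pair : ∃ a b : W × W, TP a ∧ Ax a ∧ TP b ∧ Ax b ∧ beta1 a b = 1 ∧ beta2 a b = 0 := by
  decide +kernel

theorem centre_T : ∀ p : W × W, TP p → (∀ d, TP d → Ax d → beta1 p d = 0 ∧ beta2 p d = 0) → p = 0 := by
  decide +kernel

theorem ew_comm : ∀ a b : ZMod 2, ∃ w : W, beta1 (0, w) tP = a ∧ beta2 (0, w) tP = b := by decide +kernel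

theorem beta_sum (p p' : W × W) : psq1 (p + p') = psq1 p + psq1 p' + beta1 p p' ∧
    psq2 (p + p') = psq2 p + psq2 p' + beta2 p p' := by
  refine ⟨?_, ?_⟩ <;>
    simp only [psq1, psq2, beta1, beta2, Prod.fst_add, Prod.snd_add, BW_add_left, BW_add_right, qW_add] <;>
    ring

theorem u1_eq : u1 = pt 0 + pt 1 ∧ w1 = pt 1 + pt 2 := by decide +kernel

theorem sg_pt : (∀ a b, sg (a + b) = sg a + sg b) ∧ ∀ i, sg (pt i) = pt (pi0 i) := by decide +kernel

theorem pi0_even : pi0 ∈ alternatingGroup (Fin 5) := Equiv.Perm.mem_alternatingGroup.2 (by decide +kernel)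

theorem stab_pair : ∀ π : Equiv.Perm (Fin 5), Equiv.Perm.sign π = 1 → pt (π 0) + pt (π 1) = u1 →
    (pt (π 1) + pt (π 2) = w1 → π = 1) ∧ (pt (π 1) + pt (π 2) = u1 + w1 → π = pi0) := by
  decide +kernel

open Subgroup

variable {G : Type*} [Group G] [Finite G] {z : G} {Q : Subgroup G}

namespace Base

variable {K : Coord z Q 1} {x g : G} (S : Base K x g)

/-- `n` is a product of an element of `R` and an element of `Q` centralizing `x`, with these parameters. -/
def Par (S : Base K x g) (n : G) (p : W × W) : Prop :=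
  ∃ r q, r ∈ S.R ∧ q ∈ Q ∧ q * x = x * q ∧ n = r * q ∧ S.ur r = p.1 ∧ (K.vec q).2 = p.2

theorem typ_iff {t : G} : S.Typ t ↔ S.Par t tP := Iff.rfl

include S

theorem el_Q_comm {b : G} (hb : b ∈ Q) (hbx : b * x = x * b) (i j : ZMod 2) :
    b * S.el i j = S.el i j * b := S.el_comm (S.hyp.extra.comm_z hb) hbx i j

theorem par_comm {n : G} {p : W × W} (h : S.Par n p) :
    n * z = z * n ∧ n * x = x * n ∧ K.act n x0 = x0 ∧ (∀ w, K.res n w = w) ∧ (K.act n f0).2 = p.1 := by
  obtain ⟨r, q, hr, hq, hqx, rfl, hu, -⟩ := h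
  have hz := S.R_z hr
  have hqz := S.hyp.extra.comm_z hq
  refine ⟨(Commute.mul_left hz hqz).eq, (Commute.mul_left (S.R_x hr) hqx).eq, ?_, fun w => ?_, ?_⟩
  · rw [K.act_mul S.hyp hz hqz, K.act_mem S.hyp hq, S.R_fix hr]
  · rw [K.res_mul S.hyp hz hqz (S.R_fix hr) (K.act_mem S.hyp hq x0), K.res_mem S.hyp hq, S.R_res hr]
  · rw [K.act_mul S.hyp hz hqz, K.act_mem S.hyp hq]; exact hu

theorem par_of {c : G} (hc : c * z = z * c) (hcx : c * x = x * c) (hres : ∀ w, K.res c w = w) :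
    ∃ p, S.Par c p := by
  have h0 : K.act c x0 = x0 := by
    rw [← S.hxv, K.act_vec S.hyp hc S.hx, hcx, mul_inv_cancel_right]
  obtain ⟨r, hr, q, hq, rfl⟩ := S.decompose hc h0 hres
  refine ⟨(S.ur r, (K.vec q).2), r, q, hr, hq, ?_, rfl, rfl, rfl⟩
  calc q * x = r⁻¹ * (r * q * x) := by group
    _ = r⁻¹ * (x * (r * q)) := by rw [hcx]
    _ = r⁻¹ * (x * r) * q := by group
    _ = r⁻¹ * (r * x) * q := by rw [S.R_x hr]
    _ = x * q := by group

theorem par_exists (p : W × W) : ∃ n, S.Par n p := by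
  obtain ⟨r, hr, hu⟩ := S.exists_R p.1
  exact ⟨_, r, K.lift (inj p.2), hr, K.lift_mem _, S.lift_x _, rfl, hu, by rw [K.vec_lift]; rfl⟩

theorem par_el (i j : ZMod 2) : S.Par (S.el i j) 0 := by
  refine ⟨1, S.el i j, one_mem _, S.el_mem i j, ?_, (one_mul _).symm, ?_, ?_⟩
  · exact (S.el_comm (c := x) S.xz rfl i j).symm
  · exact (S.ur_zero (one_mem _)).2 (one_mem _)
  · rw [S.vec_el]; rfl

theorem par_one : S.Par (1 : G) 0 := S.el_zero ▸ S.par_el 0 0

theorem par_mem {q : G} (hq : q ∈ Q) (hqx : q * x = x * q) : S.Par q (0, (K.vec q).2) :=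
  ⟨1, q, one_mem _, hq, hqx, (one_mul _).symm, (S.ur_zero (one_mem _)).2 (one_mem _), rfl⟩

theorem par_mul {n n' : G} {p p' : W × W} (h : S.Par n p) (h' : S.Par n' p') :
    S.Par (n * n') (p + p') := by
  obtain ⟨r, q, hr, hq, hqx, rfl, hu, hw⟩ := h
  obtain ⟨r', q', hr', hq', hqx', rfl, hu', hw'⟩ := h'
  have hri : r'⁻¹ * z = z * r'⁻¹ := S.R_z (inv_mem hr')
  have hmid : r'⁻¹ * q * r' ∈ Q := by
    have := S.hyp.norm r'⁻¹ hri q hq
    rwa [inv_inv] at this
  have hmidx : r'⁻¹ * q * r' * x = x * (r'⁻¹ * q * r') :=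
    ((Commute.mul_left (S.R_x (inv_mem hr')) hqx).mul_left (S.R_x hr')).eq
  refine ⟨r * r', r'⁻¹ * q * r' * q', mul_mem hr hr', mul_mem hmid hq',
    (Commute.mul_left hmidx hqx').eq, by group, ?_, ?_⟩
  · rw [S.ur_mul hr hr', hu, hu', Prod.fst_add]
  · rw [K.mul hmid hq', Prod.snd_add, Prod.snd_add, hw',
      show r'⁻¹ * q * r' = r'⁻¹ * q * r'⁻¹⁻¹ by group, ← K.act_vec S.hyp hri hq,
      K.res_perp S.hyp hri (S.R_fix (inv_mem hr')) _ ((S.comm_x_iff hq).1 hqx), S.R_res (inv_mem hr'), hw]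

theorem par_unique {n : G} {p p' : W × W} (h : S.Par n p) (h' : S.Par n p') : p = p' := by
  have e1 : p.1 = p'.1 := (S.par_comm h).2.2.2.2.symm.trans (S.par_comm h').2.2.2.2
  obtain ⟨r, q, hr, hq, hqx, rfl, hu, hw⟩ := h
  obtain ⟨r', q', hr', hq', hqx', e, hu', hw'⟩ := h'
  obtain ⟨i, j, rfl⟩ := S.ur_congr hr hr' (hu.trans (e1.trans hu'.symm))
  rw [mul_assoc, mul_left_cancel_iff] at e
  refine Prod.ext e1 ?_
  rw [← hw, ← hw', e, K.mul (S.el_mem i j) hq', Prod.snd_add, S.vec_el]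
  simp

theorem par_inv {n : G} {p : W × W} (h : S.Par n p) : S.Par n⁻¹ p := by
  obtain ⟨h1, h2, -, h4, -⟩ := S.par_comm h
  have h4' : ∀ w, K.res n⁻¹ w = w := fun w => by
    conv_lhs => rw [← h4 w]
    exact K.res_inv_cancel S.hyp h1 (S.par_comm h).2.2.1 w
  obtain ⟨p', h'⟩ := S.par_of (Commute.inv_left h1).eq (Commute.inv_left h2).eq h4'
  have := S.par_mul h h'
  rw [mul_inv_cancel] at this
  rwa [eq_neg_of_add_eq_zero_right (S.par_unique this S.par_one), negP] at h'

theorem par_zero {n : G} (h : S.Par n 0) : ∃ i j, n = S.el i j := by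
  obtain ⟨r, q, hr, hq, hqx, rfl, hu, hw⟩ := h
  have hrQ := (S.ur_zero hr).1 hu
  refine S.exists_el (mul_mem hrQ hq) ?_ ?_
  · rw [K.mul hrQ hq, Prod.fst_add, Prod.snd_add, (S.inter hrQ (S.mem_R.1 hr).1).1,
      (S.comm_x_iff hq).1 hqx, add_zero]
  · rw [K.mul hrQ hq, Prod.snd_add, (S.inter hrQ (S.mem_R.1 hr).1).2, hw]; simp

theorem par_eq {n n' : G} {p : W × W} (h : S.Par n p) (h' : S.Par n' p) :
    ∃ i j, n' = n * S.el i j := by
  have := S.par_mul (S.par_inv h) h'
  rw [addP] at this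
  obtain ⟨i, j, e⟩ := S.par_zero this
  exact ⟨i, j, by rw [← e, mul_inv_cancel_left]⟩

theorem par_comm_el {n : G} {p : W × W} (h : S.Par n p) (i j : ZMod 2) :
    n * S.el i j = S.el i j * n := S.el_comm (S.par_comm h).1 (S.par_comm h).2.1 i j

theorem par_sq {n : G} {p : W × W} (h : S.Par n p) : n * n = S.el (psq1 p) (psq2 p) := by
  obtain ⟨r, q, hr, hq, hqx, rfl, hu, hw⟩ := h
  rw [S.sq_rq hr hq hqx, hu, hw, psq1, psq2]

theorem par_commutator {n n' : G} {p p' : W × W} (h : S.Par n p) (h' : S.Par n' p') :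
    n * n' = S.el (beta1 p p') (beta2 p p') * (n' * n) := by
  have e := S.par_sq (S.par_mul h' h)
  have hn := S.par_sq h
  have hn' := S.par_sq h'
  obtain ⟨b1, b2⟩ := beta_sum p' p
  have c1 : n' * (n * n') * n = S.el (psq1 p' + psq1 p + beta1 p' p) (psq2 p' + psq2 p + beta2 p' p) := by
    rw [← b1, ← b2, ← e]; group
  have c2 : n' * (S.el (beta1 p p') (beta2 p p') * (n' * n)) * n =
      S.el (psq1 p' + psq1 p + beta1 p' p) (psq2 p' + psq2 p + beta2 p' p) := by
    calc n' * (S.el (beta1 p p') (beta2 p p') * (n' * n)) * n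
        = n' * S.el (beta1 p p') (beta2 p p') * n' * (n * n) := by group
      _ = S.el (beta1 p p') (beta2 p p') * (n' * n') * (n * n) := by rw [S.par_comm_el h']; group
      _ = _ := by
        rw [hn, hn', S.el_mul, S.el_mul]
        congr 1 <;> simp only [beta1, beta2, BW_comm p.2 p'.2, BW_comm p.1 p'.1] <;> ring
  exact mul_left_cancel (mul_right_cancel (c1.trans c2.symm))

theorem par_commute_iff {n n' : G} {p p' : W × W} (h : S.Par n p) (h' : S.Par n' p') :
    n * n' = n' * n ↔ beta1 p p' = 0 ∧ beta2 p p' = 0 := by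
  rw [S.par_commutator h h', mul_eq_right]
  constructor
  · intro e; exact S.el_inj (e.trans S.el_zero.symm)
  · rintro ⟨e1, e2⟩; rw [e1, e2, S.el_zero]

theorem par_sq_one {n : G} {p : W × W} (h : S.Par n p) :
    n * n = 1 ↔ psq1 p = 0 ∧ psq2 p = 0 := by
  rw [S.par_sq h]
  constructor
  · intro e; exact S.el_inj (e.trans S.el_zero.symm)
  · rintro ⟨e1, e2⟩; rw [e1, e2, S.el_zero]

theorem card_par (P : W × W → Prop) [DecidablePred P] :
    Nat.card {n : G // ∃ p, P p ∧ S.Par n p} = 4 * (Finset.univ.filter P).card := by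
  classical
  rw [← Fintype.card_subtype, ← Nat.card_eq_fintype_card,
    show 4 * Nat.card {p // P p} = Nat.card ((ZMod 2 × ZMod 2) × {p // P p}) by
      rw [Nat.card_prod, Nat.card_prod, Nat.card_zmod]]
  choose f hf using S.par_exists
  refine (Nat.card_eq_of_bijective
    (fun d : (ZMod 2 × ZMod 2) × {p // P p} => (⟨f d.2.1 * S.el d.1.1 d.1.2, d.2.1, d.2.2, by
      have := S.par_mul (hf d.2.1) (S.par_el d.1.1 d.1.2)
      rwa [add_zero] at this⟩ : {n : G // ∃ p, P p ∧ S.Par n p})) ⟨?_, ?_⟩).symm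
  · rintro ⟨a, p⟩ ⟨a', p'⟩ e
    have e' : f p.1 * S.el a.1 a.2 = f p'.1 * S.el a'.1 a'.2 := congrArg Subtype.val e
    have h1 := S.par_mul (hf p.1) (S.par_el a.1 a.2)
    have h2 := S.par_mul (hf p'.1) (S.par_el a'.1 a'.2)
    rw [add_zero] at h1 h2
    obtain rfl : p = p' := Subtype.ext (S.par_unique h1 (e' ▸ h2))
    obtain ⟨r1, r2⟩ := S.el_inj (mul_left_cancel e')
    exact Prod.ext (Prod.ext r1 r2) rfl
  · rintro ⟨n, p, hP, hn⟩
    obtain ⟨i, j, e⟩ := S.par_eq (hf p) hn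
    exact ⟨((i, j), ⟨p, hP⟩), Subtype.ext e.symm⟩

theorem par_conj {d n : G} {p : W × W} (hdz : d * z = z * d) (hdx : d * x = x * d) (h : S.Par n p) :
    S.Par (d * n * d⁻¹) (K.res d p.1, K.res d p.2) := by
  have hd0 : K.act d x0 = x0 := by rw [← S.hxv, K.act_vec S.hyp hdz S.hx, hdx, mul_inv_cancel_right]
  obtain ⟨r, q, hr, hq, hqx, rfl, hu, hw⟩ := h
  obtain ⟨hm, hum⟩ := S.conj_R hdz hdx hd0 hr
  refine ⟨d * r * d⁻¹, d * q * d⁻¹, hm, S.hyp.norm d hdz q hq,
    ((Commute.mul_left hdx hqx).mul_left (Commute.inv_left hdx)).eq, by group, by rw [hum, hu], ?_⟩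
  rw [← K.act_vec S.hyp hdz hq, K.res_perp S.hyp hdz hd0 _ ((S.comm_x_iff hq).1 hqx), hw]

theorem par_conj_Q {d n : G} {p : W × W} (hd : d ∈ Q) (h : S.Par n p) :
    S.Par (d * n * d⁻¹) (p.1, p.2 + (K.vec d).1.2 • p.1) := by
  obtain ⟨r, q, hr, hq, hqx, rfl, hu, hw⟩ := h
  have hri : r⁻¹ * z = z * r⁻¹ := S.R_z (inv_mem hr)
  have hmid : r⁻¹ * d * r ∈ Q := by
    have := S.hyp.norm r⁻¹ hri d hd
    rwa [inv_inv] at this
  have hq' : r⁻¹ * d * r * q * d⁻¹ ∈ Q := mul_mem (mul_mem hmid hq) (inv_mem hd)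
  have hui : S.ur r⁻¹ = S.ur r := by
    have := S.ur_mul hr (inv_mem hr)
    rw [mul_inv_cancel, (S.ur_zero (one_mem _)).2 (one_mem _)] at this
    exact (eq_neg_of_add_eq_zero_right this.symm).trans (neg_eq_of_add_eq_zero_left (addW _))
  have hv : K.vec (r⁻¹ * d * r * q * d⁻¹) = (E 1 p.1 (K.vec d) + K.vec d) + K.vec q := by
    rw [K.mul (mul_mem hmid hq) (inv_mem hd), K.mul hmid hq, K.vec_inv hd,
      show r⁻¹ * d * r = r⁻¹ * d * r⁻¹⁻¹ by group, ← K.act_vec S.hyp hri hd, S.act_R (inv_mem hr), hui, hu]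
    abel
  refine ⟨r, r⁻¹ * d * r * q * d⁻¹, hr, hq', (S.comm_x_iff hq').2 ?_, by group, hu, ?_⟩
  · rw [hv, Prod.fst_add, Prod.snd_add, move_eq, (S.comm_x_iff hq).1 hqx]; simp
  · rw [hv, Prod.snd_add, move_eq, hw, add_comm]

end Base

end CfsgLib.SuzType
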