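import Mathlib
import Cfsg.Agent.Lib.SuzType.Axes

/-!
Which involutions of the coordinate group are conjugate to `z`, and the shape of a conjugate of `z`
outside `Q` fixing the base point.
-/

set_option autoImplicit false
set_option maxHeartbeats 1000000
set_option synthInstance.maxSize 8000
set_option synthInstance.maxHeartbeats 1000000
set_option linter.style.longLine false
set_option linter.unusedSectionVars false

namespace CfsgLib.SuzType

open Subgroup

theorem fixed_E : ∀ p : W, p ≠ 0 → qW 1 p = 0 → ∀ v : V, qV 1 v = 0 → E 1 p v = v →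
    v.1.2 = 0 ∧ BW p v.2 = 0 := by decide +kernel

theorem move_singular : ∀ p : W, qW 1 p = 0 → ∀ v : V, qV 1 (E 1 p v + v) = 0 := by decide +kernel

theorem pair_moved : ∀ i j : Fin 5, qW 1 (pt j + pt i) = 0 → j = i := by decide +kernel

variable {G : Type*} [Group G] [Finite G] {z : G} {Q : Subgroup G}

namespace Base

variable {K : Coord z Q 1} {x g : G} (S : Base K x g)
include S

theorem sq_of_conj {c : G} (h : IsConj z c) : c * c = 1 := by
  obtain ⟨d, rfl⟩ := isConj_iff.1 h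
  exact conj_sq_one S.hyp.extra.sq_one

theorem ne_one_of_conj {c : G} (h : IsConj z c) : c ≠ 1 := by
  obtain ⟨d, rfl⟩ := isConj_iff.1 h
  exact fun e => S.hyp.extra.ne_one (conj_eq_one_iff.1 e)

theorem an_conj {n : G} {p : W × W} (h : S.Par n p) (hp : An p) {t0 : G} (h0 : S.Typ t0) :
    ∃ c, c * z = z * c ∧ c * n * c⁻¹ = t0 := by
  obtain ⟨i, j, k, hij, hjk, hik, hu, hw⟩ := triple _ _ hp.1 hp.2.1 hp.2.2
  obtain ⟨i', j', k', hij', hjk', hik', hu1, hw1⟩ := triple _ _ base_pair.1 base_pair.2.1 base_pair.2.2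
  obtain ⟨π, hπ, hi, hj, hk⟩ := even_three i j k hij hjk hik i' j' k' hij' hjk' hik'
  obtain ⟨d, hdz, hdx, hd0, hd⟩ := S.exists_perm hπ
  have e := S.par_conj hdz hdx h
  rw [hu, hw, K.res_add S.hyp hdz, K.res_add S.hyp hdz, hd, hd, hd, hi, hj, hk, ← hu1, ← hw1] at e
  obtain ⟨y, hy, hyt⟩ := S.typ_conj e h0
  exact ⟨y * d, (Commute.mul_left hy hdz).eq, by rw [← hyt]; group⟩

theorem an_not_conj {n : G} {p : W × W} (h : S.Par n p) (hp : An p) : ¬ IsConj z n := by
  obtain ⟨t0, h0⟩ := S.exists_typ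
  obtain ⟨c, -, hc⟩ := S.an_conj h hp h0
  exact fun hn => S.typ_not_conj h0 (hn.trans (isConj_iff.2 ⟨c, hc⟩))

theorem ax_conj {n : G} {p : W × W} (h : S.Par n p) (hp : Ax p) (hn : n ≠ 1) : IsConj z n := by
  have h2 : n * n = 1 := (S.par_sq_one h).2 (ax_sq p hp)
  by_cases hu : p.1 = 0
  · obtain ⟨r, q, hr, hq, -, rfl, hur, -⟩ := h
    obtain ⟨y, hy⟩ := K.conj_of_mem S.hyp (mul_mem ((S.ur_zero hr).1 (hur.trans hu)) hq) h2 hn
    exact isConj_iff.2 ⟨y, hy⟩
  have hR : ∀ {m : G} {q : W × W}, S.Par m q → q.2 = 0 → m * m = 1 → m ≠ 1 → IsConj z m := by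
    intro m q hm hq0 hm2 hm1
    obtain ⟨r, b, hr, hb, hbx, rfl, -, hw⟩ := hm
    obtain ⟨i, j, rfl⟩ := S.exists_el hb ((S.comm_x_iff hb).1 hbx) (hw.trans hq0)
    exact S.isConj_z_of_R (mul_mem hr (S.el_R i j)) hm2 hm1
  by_cases hw : p.2 = 0
  · exact hR h hw h2 hn
  obtain ⟨b, hb⟩ : ∃ b, b = K.lift f0 := ⟨_, rfl⟩
  have hbQ : b ∈ Q := hb ▸ K.lift_mem f0
  have e := S.par_conj_Q hbQ h
  have hb1 : (K.vec b).1.2 = 1 := by rw [hb, K.vec_lift]; rfl
  have e12 : p.1 = p.2 := (hp.1.resolve_left hu).resolve_left hw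
  refine IsConj.trans (hR e ?_ (conj_sq_one h2) fun h1 => hn (conj_eq_one_iff.1 h1))
    (IsConj.symm (isConj_iff.2 ⟨b, rfl⟩))
  show p.2 + (K.vec b).1.2 • p.1 = 0
  rw [hb1, one_smul, e12, addW]

theorem conj_iff_ax {n : G} {p : W × W} (h : S.Par n p) : IsConj z n ↔ n ≠ 1 ∧ Ax p := by
  refine ⟨fun hn => ⟨S.ne_one_of_conj hn, ?_⟩, fun ⟨h1, h2⟩ => S.ax_conj h h2 h1⟩
  obtain ⟨s1, s2⟩ := (S.par_sq_one h).1 (S.sq_of_conj hn)
  exact (inv_cases p s1 s2).resolve_right fun ha => S.an_not_conj h ha hn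

/-- Involutions of `C(z)` not conjugate to `z` form one class. -/
theorem typ_of_not {t t0 : G} (h0 : S.Typ t0) (ht : t * z = z * t) (h2 : t * t = 1) (h1 : t ≠ 1)
    (hn : ¬ IsConj z t) : ∃ c, c * z = z * c ∧ c * t * c⁻¹ = t0 := by
  rcases S.classify h0 ht h2 with h | ⟨c, hc, hR⟩ | h
  · obtain ⟨y, hy⟩ := K.conj_of_mem S.hyp h h2 h1
    exact absurd (isConj_iff.2 ⟨y, hy⟩) hn
  · exact absurd ((S.isConj_z_of_R hR (conj_sq_one h2) fun e => h1 (conj_eq_one_iff.1 e)).trans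
      (IsConj.symm (isConj_iff.2 ⟨c, rfl⟩))) hn
  · exact h

/-- A conjugate of `z` outside `Q` fixing the base point lies on an axis. -/
theorem out_fix {c : G} (hc : c * z = z * c) (hcon : IsConj z c) (hQ : c ∉ Q) (h0 : K.act c x0 = x0) :
    c * x = x * c ∧ ∃ p, S.Par c p ∧ Ax p ∧ p.1 ≠ 0 := by
  have H := S.hyp
  have h2 := S.sq_of_conj hcon
  obtain ⟨t0, ht0⟩ := S.exists_typ
  obtain ⟨d, hd, hR⟩ : ∃ d, d * z = z * d ∧ d * c * d⁻¹ ∈ S.R := by
    rcases S.classify ht0 hc h2 with h | h | ⟨d, -, h⟩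
    · exact absurd h hQ
    · exact h
    · exact absurd (hcon.trans (isConj_iff.2 ⟨d, h⟩)) (S.typ_not_conj ht0)
  set r := d * c * d⁻¹ with hr
  set p := S.ur r with hp
  have hrz := conj_comm_z hd hc
  have hp0 : p ≠ 0 := fun e => hQ (by
    have := H.norm d⁻¹ (Commute.inv_left hd).eq r ((S.ur_zero hR).1 e)
    simpa [hr, mul_assoc] using this)
  have hpq : qW 1 p = 0 := by
    have h := S.sq_R hR
    rw [conj_sq_one h2, ← S.el_zero] at h
    exact (S.el_inj h).2.symm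
  have hxQ : d * x * d⁻¹ ∈ Q := H.norm d hd x S.hx
  have hfix : E 1 p (K.act d x0) = K.act d x0 := by
    rw [← S.act_R hR, hr, K.act_conj_apply H hd hc, h0]
  obtain ⟨hb, hB⟩ := fixed_E p hp0 hpq _ ((K.act_q H hd x0).trans (by decide)) hfix
  have hv : K.vec (d * x * d⁻¹) = K.act d x0 := by rw [← K.act_vec H hd S.hx, S.hxv]
  rw [← hv] at hb hB
  have hcomm : r * (d * x * d⁻¹) = d * x * d⁻¹ * r := by
    have e := S.comm_R hR hxQ ((S.comm_x_iff hxQ).2 hb)
    rw [← hp, hB, S.el_zero] at e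
    exact mul_inv_eq_iff_eq_mul.1 (mul_inv_eq_one.1 e)
  have hcx : c * x = x * c := by
    calc c * x = d⁻¹ * (r * (d * x * d⁻¹)) * d := by rw [hr]; group
      _ = d⁻¹ * (d * x * d⁻¹ * r) * d := by rw [hcomm]
      _ = x * c := by rw [hr]; group
  refine ⟨hcx, ?_⟩
  have hmove : ∀ v, qV 1 (K.act c v + v) = 0 := by
    intro v
    rw [← K.act_q H hd, K.act_add H hd, ← K.act_conj_apply H hd hc, ← hr, S.act_R hR]
    exact move_singular p hpq _
  have hres : ∀ w, K.res c w = w := by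
    intro w
    refine ext_pt (g := fun w => w) (K.res_add H hc) (fun a b => rfl) (fun i => ?_) w
    obtain ⟨j, hj⟩ : ∃ j, K.res c (pt i) = pt j := by
      refine pt_exists _ (fun e => ?_) ((K.res_q H hc h0 _).trans (pt_singular i).1)
      have := K.res_inv_cancel H hc h0 (pt i)
      rw [e] at this
      have h00 : K.res c⁻¹ 0 = 0 := by
        have h := K.res_add H (Commute.inv_left hc).eq 0 0
        rw [add_zero] at h
        exact left_eq_add.mp h
      exact (pt_singular i).2 (this.symm.trans h00)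
    have hq := hmove (inj (pt i))
    rw [K.act_inj H hc h0, hj] at hq
    rw [hj, pair_moved i j (by simpa [inj, qV] using hq)]
  obtain ⟨q, hq⟩ := S.par_of hc hcx hres
  refine ⟨q, hq, ((S.conj_iff_ax hq).1 hcon).2, fun e => hQ ?_⟩
  obtain ⟨r', b, hr', hb', -, rfl, hu, -⟩ := hq
  exact mul_mem ((S.ur_zero hr').1 (hu.trans e)) hb'

end Base

end CfsgLib.SuzType
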