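import Mathlib
import Cfsg.Agent.Lib.SuzType.OutFix

/-!
The centralizer in `C(z)` of an involution lifting the chosen pair: a group of order 512 whose
conjugates of `z` generate a subgroup of order 64.
-/

set_option autoImplicit false
set_option maxHeartbeats 1000000
set_option synthInstance.maxSize 8000
set_option synthInstance.maxHeartbeats 1000000
set_option linter.style.longLine false
set_option linter.unusedSectionVars false

namespace CfsgLib.SuzType

open Subgroup

/-- The centralizer of `z` and `t`. -/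
def Sg {G : Type*} [Group G] (z t : G) : Subgroup G := centralizer ({z} : Set G) ⊓ centralizer ({t} : Set G)

theorem mem_Sg {G : Type*} [Group G] {z t n : G} : n ∈ Sg z t ↔ n * z = z * n ∧ n * t = t * n := by
  rw [Sg, mem_inf, mem_centralizer_singleton_iff, mem_centralizer_singleton_iff]

theorem move_point : ∀ v : V, qV 1 (E 1 u1 v + v) = 0 → E 1 u1 v + v = 0 ∨ E 1 u1 v + v = x0 := by
  decide +kernel

theorem move_hits : ∃ v : V, E 1 u1 v + v = x0 := by decide +kernel

theorem axis_TP : ∀ w : W, qW 1 w = 0 → beta1 (0, w) tP = 0 → beta2 (0, w) tP = 0 → TP (0, w) := by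
  decide +kernel

theorem zero_TP : TP (0 : W × W) := by decide +kernel

theorem two_centre : ∀ p : W × W, TP p → Ax p →
    (∀ d : W × W, TP d → beta1 p d = 0 ∧ beta2 p d = 0) → p = 0 := by decide +kernel

variable {G : Type*} [Group G] [Finite G] {z : G} {Q : Subgroup G}

namespace Base

variable {K : Coord z Q 1} {x g : G} (S : Base K x g)
include S

theorem act_typ {t : G} (ht : S.Typ t) : K.act t = E 1 u1 := by
  obtain ⟨r, q, hr, hq, -, rfl, hu, -⟩ := ht
  funext v
  rw [K.act_mul S.hyp (S.R_z hr) (S.hyp.extra.comm_z hq), K.act_mem S.hyp hq, S.act_R hr, hu]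

theorem typ_x {t : G} (ht : S.Typ t) : t * x = x * t := (S.par_comm (S.typ_iff.1 ht)).2.1

theorem typ_ne_one {t : G} (ht : S.Typ t) : t ≠ 1 := fun e => by
  have := S.typ_act ht
  rw [e, K.act_one S.hyp, addV, qV_zero] at this
  exact zero_ne_one this

/-- An element commuting with `z` and `t` fixes the base point. -/
theorem act_x0_of_comm {t c : G} (ht : S.Typ t) (hc : c * z = z * c) (hct : c * t = t * c) :
    K.act c x0 = x0 := by
  have H := S.hyp
  obtain ⟨v, hv⟩ := move_hits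
  have e : E 1 u1 (K.act c v) = K.act c (E 1 u1 v) := by
    rw [← S.act_typ ht, ← K.act_mul H (S.typ_comm ht) hc, ← hct, K.act_mul H hc (S.typ_comm ht)]
  have h1 : E 1 u1 (K.act c v) + K.act c v = K.act c x0 := by rw [e, ← K.act_add H hc, hv]
  have h2 : qV 1 (E 1 u1 (K.act c v) + K.act c v) = 0 := by
    rw [h1, K.act_q H hc]; decide
  rcases move_point _ h2 with h | h
  · exact absurd (K.act_injective H hc ((h1.symm.trans h).trans (K.act_zero H hc).symm)) (by decide)
  · rw [← h1, h]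

theorem x_cases {c : G} (hc : c * z = z * c) (h0 : K.act c x0 = x0) :
    c * x * c⁻¹ = x ∨ c * x * c⁻¹ = z * x := by
  refine K.eq_or S.hyp (S.hyp.norm c hc x S.hx) S.hx ?_
  rw [← K.act_vec S.hyp hc S.hx, S.hxv, h0]

theorem conj_into_Q {t : G} (ht : S.Typ t) {t' : G} (ht' : S.Par t' tP) :
    ∃ y ∈ Q, y * x = x * y ∧ y * t' * y⁻¹ = t := by
  obtain ⟨i, j, e⟩ := S.par_eq ht' ht
  obtain ⟨w, ha, hb⟩ := ew_comm i j
  have hy := K.lift_mem (inj w)
  have hyx := S.lift_x w
  refine ⟨_, hy, hyx, ?_⟩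
  have hp := S.par_mem hy hyx
  rw [K.vec_lift] at hp
  rw [S.par_commutator hp ht', show (inj w).2 = w from rfl, ha, hb, e,
    show S.el i j * (t' * K.lift (inj w)) * (K.lift (inj w))⁻¹ = S.el i j * t' by group,
    ← S.par_comm_el ht']

/-- The residual permutation of an element of `Sg`. -/
theorem res_cases {t c : G} (ht : S.Typ t) (hc : c ∈ Sg z t) :
    (c * x = x * c ∧ ∃ p, S.Par c p ∧ CP p) ∨
      (c * x * c⁻¹ = z * x ∧ ∀ w, K.res c w = sg w) := by
  have H := S.hyp
  obtain ⟨hcz, hct⟩ := mem_Sg.1 hc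
  have h0 := S.act_x0_of_comm ht hcz hct
  let cP : K.P H := ⟨⟨c, mem_centralizer_singleton_iff.2 hcz⟩, h0⟩
  set π := K.rho H cP with hπ
  have hsign : Equiv.Perm.sign π = 1 :=
    Equiv.Perm.mem_alternatingGroup.1 (S.rho_range ▸ ⟨cP, rfl⟩)
  have hspec : ∀ i, K.res c (pt i) = pt (π i) := fun i => K.rho_spec H cP i
  have hu1 : K.res c u1 = pt (π 0) + pt (π 1) := by rw [u1_eq.1, K.res_add H hcz, hspec, hspec]
  have hw1 : K.res c w1 = pt (π 1) + pt (π 2) := by rw [u1_eq.2, K.res_add H hcz, hspec, hspec]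
  rcases S.x_cases hcz h0 with hx | hx
  · left
    have hcx := mul_inv_eq_iff_eq_mul.1 hx
    have e := S.par_conj hcz hcx (S.typ_iff.1 ht)
    rw [hct, mul_inv_cancel_right] at e
    have e' := S.par_unique e (S.typ_iff.1 ht)
    simp only [tP, Prod.mk.injEq] at e'
    have hπ1 := (stab_pair π hsign (hu1 ▸ e'.1)).1 (hw1 ▸ e'.2)
    have hres : ∀ w, K.res c w = w := fun w =>
      ext_pt (g := fun w => w) (K.res_add H hcz) (fun a b => rfl) (fun i => by rw [hspec, hπ1]; rfl) w
    obtain ⟨p, hp⟩ := S.par_of hcz hcx hres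
    exact ⟨hcx, p, hp, (S.par_commute_iff hp (S.typ_iff.1 ht)).1 hct⟩
  · right
    refine ⟨hx, ?_⟩
    obtain ⟨b, hb⟩ : ∃ b, b = K.lift f0 := ⟨_, rfl⟩
    have hbQ : b ∈ Q := hb ▸ K.lift_mem f0
    have hbz := H.extra.comm_z hbQ
    have hb1 : (K.vec b).1.2 = 1 := by rw [hb, K.vec_lift]; rfl
    have hbx : b * x * b⁻¹ = z * x := by
      rw [K.conj S.hx hbQ, S.hxv, hb, K.vec_lift, if_neg (by decide)]
    have hcx : b * c * x = x * (b * c) := by
      calc b * c * x = b * (c * x * c⁻¹) * c := by group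
        _ = b * (z * x) * c := by rw [hx]
        _ = z * (b * x * b⁻¹) * b * c := by rw [← mul_assoc b z, hbz]; group
        _ = (z * z) * x * b * c := by rw [hbx]; group
        _ = x * (b * c) := by rw [H.extra.sq_one]; group
    have hbcz := (Commute.mul_left hbz hcz).eq
    have hres : ∀ w, K.res (b * c) w = K.res c w := fun w => by
      rw [K.res_mul H hbz hcz (K.act_mem H hbQ x0) h0, K.res_mem H hbQ]
    have e := S.par_conj hbcz hcx (S.typ_iff.1 ht)
    rw [show b * c * t * (b * c)⁻¹ = b * t * b⁻¹ by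
      calc b * c * t * (b * c)⁻¹ = b * (c * t * c⁻¹) * b⁻¹ := by group
        _ = b * t * b⁻¹ := by rw [hct, mul_inv_cancel_right]] at e
    have e2 := S.par_unique e (S.par_conj_Q hbQ (S.typ_iff.1 ht))
    simp only [tP, hres, hb1, one_smul, Prod.mk.injEq] at e2
    have hπ1 := (stab_pair π hsign (hu1 ▸ e2.1)).2 (by rw [← hw1, e2.2, add_comm])
    intro w
    exact ext_pt (K.res_add H hcz) sg_pt.1 (fun i => by rw [hspec, hπ1, sg_pt.2]) w

theorem mem_Sg_par {t n : G} {p : W × W} (ht : S.Typ t) (h : S.Par n p) (hp : CP p) : n ∈ Sg z t :=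
  mem_Sg.2 ⟨(S.par_comm h).1, (S.par_commute_iff h (S.typ_iff.1 ht)).2 hp⟩

/-- An element outside `N` acts on the parameters by `Lout`. -/
theorem out_par {t s : G} (ht : S.Typ t) (hs : s ∈ Sg z t) (hsx : s * x * s⁻¹ = z * x) {n : G}
    {p : W × W} (h : S.Par n p) : S.Par (s * n * s⁻¹) (Lout p) := by
  have H := S.hyp
  rcases S.res_cases ht hs with ⟨h', -⟩ | ⟨-, hres⟩
  · rw [h', mul_inv_cancel_right] at hsx
    exact absurd (right_eq_mul.1 hsx) H.extra.ne_one
  obtain ⟨hsz, -⟩ := mem_Sg.1 hs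
  have h0 := S.act_x0_of_comm ht hsz (mem_Sg.1 hs).2
  obtain ⟨b, hb⟩ : ∃ b, b = K.lift f0 := ⟨_, rfl⟩
  have hbQ : b ∈ Q := hb ▸ K.lift_mem f0
  have hbz := H.extra.comm_z hbQ
  have hbx : b * x * b⁻¹ = z * x := by
    rw [K.conj S.hx hbQ, S.hxv, hb, K.vec_lift, if_neg (by decide)]
  have hcx : b * s * x = x * (b * s) := by
    calc b * s * x = b * (s * x * s⁻¹) * s := by group
      _ = b * (z * x) * s := by rw [hsx]
      _ = z * (b * x * b⁻¹) * b * s := by rw [← mul_assoc b z, hbz]; group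
      _ = (z * z) * x * b * s := by rw [hbx]; group
      _ = x * (b * s) := by rw [H.extra.sq_one]; group
  have e := S.par_conj_Q (inv_mem hbQ) (S.par_conj (Commute.mul_left hbz hsz).eq hcx h)
  rw [show b⁻¹ * (b * s * n * (b * s)⁻¹) * b⁻¹⁻¹ = s * n * s⁻¹ by group, K.vec_inv hbQ, hb, K.vec_lift,
    show f0.1.2 = (1 : ZMod 2) from rfl, one_smul, K.res_mul H (H.extra.comm_z (K.lift_mem f0)) hsz
      (K.act_mem H (K.lift_mem f0) x0) h0, K.res_mem H (K.lift_mem f0), hres,
    K.res_mul H (H.extra.comm_z (K.lift_mem f0)) hsz (K.act_mem H (K.lift_mem f0) x0) h0,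
    K.res_mem H (K.lift_mem f0), hres] at e
  exact e

theorem exists_out {t : G} (ht : S.Typ t) : ∃ s ∈ Sg z t, s * x * s⁻¹ = z * x := by
  have H := S.hyp
  obtain ⟨d, hdz, hdx, hd0, hd⟩ := S.exists_perm pi0_even
  have hres : ∀ w, K.res d w = sg w := fun w =>
    ext_pt (K.res_add H hdz) sg_pt.1 (fun i => by rw [hd, sg_pt.2]) w
  obtain ⟨b, hb⟩ : ∃ b, b = K.lift f0 := ⟨_, rfl⟩
  have hbQ : b ∈ Q := hb ▸ K.lift_mem f0
  have hb1 : (K.vec b).1.2 = 1 := by rw [hb, K.vec_lift]; rfl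
  have hbx : b * x * b⁻¹ = z * x := by
    rw [K.conj S.hx hbQ, S.hxv, hb, K.vec_lift, if_neg (by decide)]
  have e := S.par_conj_Q hbQ (S.par_conj hdz hdx (S.typ_iff.1 ht))
  simp only [hres, hb1, one_smul] at e
  rw [show (sg tP.1, sg tP.2 + sg tP.1) = Lout tP from rfl, Lout_spec.2.2.1] at e
  obtain ⟨y, hy, hyx, hyt⟩ := S.conj_into_Q ht e
  have hyz := H.extra.comm_z hy
  refine ⟨y * (b * d), mem_Sg.2 ⟨(Commute.mul_left hyz (Commute.mul_left (H.extra.comm_z hbQ) hdz)).eq,
    mul_inv_eq_iff_eq_mul.1 ?_⟩, ?_⟩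
  · conv_rhs => rw [← hyt]
    group
  · calc y * (b * d) * x * (y * (b * d))⁻¹ = y * (b * (d * x * d⁻¹) * b⁻¹) * y⁻¹ := by group
      _ = y * (z * x) * y⁻¹ := by rw [hdx, mul_inv_cancel_right, hbx]
      _ = z * x := by
        rw [← mul_assoc y z, hyz, mul_assoc z y, hyx]; group

theorem card_N0 {t : G} (ht : S.Typ t) :
    Nat.card ↥(Sg z t ⊓ centralizer ({x} : Set G)) = 256 := by
  classical
  rw [show (256 : ℕ) = 4 * (Finset.univ.filter fun p : W × W => CP p).card by rw [CP_sets.1],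
    ← S.card_par]
  refine Nat.card_congr (Equiv.subtypeEquivRight fun n => ?_)
  rw [mem_inf, mem_centralizer_singleton_iff]
  constructor
  · rintro ⟨hn, hnx⟩
    rcases S.res_cases ht hn with ⟨-, p, hp, hC⟩ | ⟨h, -⟩
    · exact ⟨p, hC, hp⟩
    · rw [hnx, mul_inv_cancel_right] at h
      exact absurd (right_eq_mul.1 h) S.hyp.extra.ne_one
  · rintro ⟨p, hC, hp⟩
    exact ⟨S.mem_Sg_par ht hp hC, (S.par_comm hp).2.1⟩

theorem card_Sg {t : G} (ht : S.Typ t) : Nat.card ↥(Sg z t) = 512 := by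
  classical
  obtain ⟨s, hs, hsx⟩ := S.exists_out ht
  set S0 := Sg z t ⊓ centralizer ({x} : Set G)
  have hidx : (S0.subgroupOf (Sg z t)).index = 2 := by
    refine Subgroup.index_eq_two_iff.2 ⟨⟨s, hs⟩, fun a => ?_⟩
    have hmem : ∀ b : ↥(Sg z t), b ∈ S0.subgroupOf (Sg z t) ↔ (b : G) * x = x * (b : G) := fun b => by
      simp only [S0, mem_subgroupOf, mem_inf, SetLike.coe_mem, true_and, mem_centralizer_singleton_iff]
    rw [hmem, hmem, Subgroup.coe_mul]
    have hsx2 : s * (z * x) * s⁻¹ = x := by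
      rw [← mul_assoc, (mem_Sg.1 hs).1, show z * s * x * s⁻¹ = z * (s * x * s⁻¹) by group, hsx, ← mul_assoc,
        S.hyp.extra.sq_one, one_mul]
    obtain ⟨haz, hat⟩ := mem_Sg.1 a.2
    rcases S.x_cases haz (S.act_x0_of_comm ht haz hat) with ha | ha
    · right
      refine ⟨mul_inv_eq_iff_eq_mul.1 ha, fun h => ?_⟩
      have hd : (a : G) * s * x * ((a : G) * s)⁻¹ = z * x := by
        calc (a : G) * s * x * ((a : G) * s)⁻¹ = (a : G) * (s * x * s⁻¹) * (a : G)⁻¹ := by group
          _ = (a : G) * (z * x) * (a : G)⁻¹ := by rw [hsx]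
          _ = z * ((a : G) * x * (a : G)⁻¹) := by rw [← mul_assoc (a : G) z, haz]; group
          _ = z * x := by rw [ha]
      rw [h, mul_inv_cancel_right] at hd
      exact S.hyp.extra.ne_one (right_eq_mul.1 hd)
    · left
      refine ⟨mul_inv_eq_iff_eq_mul.1 ?_, fun h => ?_⟩
      · calc (a : G) * s * x * ((a : G) * s)⁻¹ = (a : G) * (s * x * s⁻¹) * (a : G)⁻¹ := by group
          _ = (a : G) * (z * x) * (a : G)⁻¹ := by rw [hsx]
          _ = z * ((a : G) * x * (a : G)⁻¹) := by rw [← mul_assoc (a : G) z, haz]; group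
          _ = x := by rw [ha, ← mul_assoc, S.hyp.extra.sq_one, one_mul]
      · rw [h, mul_inv_cancel_right] at ha
        exact S.hyp.extra.ne_one (right_eq_mul.1 ha)
  have h := (S0.subgroupOf (Sg z t)).card_mul_index
  rw [hidx, Nat.card_congr (Subgroup.subgroupOfEquivOfLe inf_le_left).toEquiv, S.card_N0 ht] at h
  exact h.symm

/-- Conjugates of `z` in `Sg` lie in the subgroup of index two with both parameters in the plane. -/
theorem sigma_par {t l : G} (ht : S.Typ t) (hl : l ∈ Sg z t) (hz : IsConj z l) :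
    ∃ p, S.Par l p ∧ TP p ∧ Ax p := by
  obtain ⟨hlz, hlt⟩ := mem_Sg.1 hl
  have main : l * x = x * l → ∃ p, S.Par l p ∧ TP p ∧ Ax p := by
    intro hx
    rcases S.res_cases ht hl with ⟨-, p, hp, hC⟩ | ⟨h, -⟩
    · have hA := ((S.conj_iff_ax hp).1 hz).2
      exact ⟨p, hp, ax_CP p hA hC, hA⟩
    · rw [hx, mul_inv_cancel_right] at h
      exact absurd (right_eq_mul.1 h) S.hyp.extra.ne_one
  by_cases hQ : l ∈ Q
  · refine main ?_
    have e := S.par_conj_Q hQ (S.typ_iff.1 ht)
    rw [hlt, mul_inv_cancel_right] at e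
    have e' := congrArg Prod.snd (S.par_unique e (S.typ_iff.1 ht))
    simp only [tP] at e'
    refine (S.comm_x_iff hQ).2 ((zcases _).resolve_right fun h => ?_)
    rw [h, one_smul, add_eq_left] at e'
    exact absurd e' (by decide)
  · exact main (S.out_fix hlz hz hQ (S.act_x0_of_comm ht hlz hlt)).1

/-- The only conjugate of `z` centralizing `Sg` is `z`. -/
theorem central_eq {t l : G} (ht : S.Typ t) (hl : l ∈ Sg z t) (hz : IsConj z l)
    (hc : ∀ s ∈ Sg z t, s * l = l * s) : l = z := by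
  obtain ⟨p, hp, hT, hA⟩ := S.sigma_par ht hl hz
  obtain rfl : p = 0 := two_centre p hT hA fun d hd => by
    obtain ⟨n, hn⟩ := S.par_exists d
    exact (S.par_commute_iff hp hn).1
      (hc n (S.mem_Sg_par ht hn (AP_CP d (Or.inl hd)))).symm
  obtain ⟨i, j, rfl⟩ := S.par_zero hp
  obtain ⟨s, hs, hsx⟩ := S.exists_out ht
  have hne := S.ne_one_of_conj hz
  have h := hc s hs
  rcases zcases j with rfl | rfl
  · rcases zcases i with rfl | rfl
    · exact absurd S.el_zero hne
    · simp [el]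
  · exfalso
    have hsz := (mem_Sg.1 hs).1
    have e : s * S.el i 1 * s⁻¹ = S.el i 1 := by rw [h, mul_inv_cancel_right]
    have e2 : s * S.el i 1 * s⁻¹ = S.el (i + 1) 1 := by
      have hz' : S.el 1 0 = z := by simp [el]
      have hx' : S.el 0 1 = x := by simp [el]
      have hi : ∀ i : ZMod 2, s * S.el i 0 * s⁻¹ = S.el i 0 := fun i => by
        rcases zcases i with rfl | rfl
        · rw [S.el_zero]; group
        · rw [hz', hsz, mul_inv_cancel_right]
      rw [← show S.el i 0 * S.el 0 1 = S.el i 1 by rw [S.el_mul]; simp,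
        show s * (S.el i 0 * S.el 0 1) * s⁻¹ = (s * S.el i 0 * s⁻¹) * (s * S.el 0 1 * s⁻¹) by group,
        hi, hx', hsx, ← show S.el 1 1 = z * x by simp [el], S.el_mul]
      simp
    have := (S.el_inj (e.symm.trans e2)).1
    exact absurd (left_eq_add.1 this) (by decide)

end Base

end CfsgLib.SuzType
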