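import Mathlib
import Cfsg.Agent.Lib.SuzType.TypCent
import Cfsg.Agent.Lib.Transfer.Basic

/-!
Three transfers in the centralizer of an involution lifting the chosen pair: it has a subgroup of index
eight with Sylow 2-subgroup of order 64 containing all its conjugates of `z`.
-/

set_option autoImplicit false
set_option maxHeartbeats 1000000
set_option synthInstance.maxSize 8000
set_option synthInstance.maxHeartbeats 1000000
set_option linter.style.longLine false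
set_option linter.unusedSectionVars false

namespace CfsgLib.SuzType

open Subgroup

theorem TP_not_An : ∀ p : W × W, TP p → ¬ An p := by decide +kernel

theorem tP_not_TP : ¬ TP tP ∧ tP ≠ 0 ∧ ¬ AP tP' ∧ AP tP := by decide +kernel

theorem one_eq_zero : (1 : ZMod 2) + 1 = 0 := rfl

section General

/-- Thompson transfer for an element with central square. -/
theorem transfer_central {X : Type*} [Group X] [Finite X] (P : Sylow 2 X) (A : Subgroup X)
    (hAP : A ≤ (P : Subgroup X)) (hAi : A.relIndex (P : Subgroup X) = 2) (u : X)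
    (hu : ∀ y : X, y * (u * u) = u * u * y) (huA : u * u ∈ A)
    (hcl : ∀ g : X, g * u * g⁻¹ ∈ (P : Subgroup X) → g * u * g⁻¹ ∉ A) :
    ∃ M : Subgroup X, M.Normal ∧ M.index = 2 ∧ u ∉ M ∧
      ∀ τ ∈ A, (∀ y : X, y * τ = τ * y) → τ ∈ M := by
  classical
  let Q' := A.subgroupOf (P : Subgroup X)
  have hi : Q'.index = 2 := hAi
  let φ : (P : Subgroup X) →* ℤˣ :=
    { toFun := fun a => if a ∈ Q' then 1 else -1
      map_one' := if_pos Q'.one_mem
      map_mul' := fun a b => by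
        have := mul_mem_iff_of_index_two hi (a := a) (b := b)
        by_cases ha : a ∈ Q' <;> by_cases hb : b ∈ Q' <;> simp [ha, hb, this] }
  have hodd : Odd (P : Subgroup X).index := by
    rw [← Nat.not_even_iff_odd, even_iff_two_dvd]; exact P.not_dvd_index
  have hA : ∀ (a : X) (h : a ∈ (P : Subgroup X)), a ∈ A → φ ⟨a, h⟩ = 1 := fun a h ha =>
    if_pos (show (⟨a, h⟩ : (P : Subgroup X)) ∈ Q' from ha)
  have : Fintype (Quotient (MulAction.orbitRel (zpowers u) (X ⧸ (P : Subgroup X)))) := Fintype.ofFinite _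
  have hterm : ∀ (g : X) (m : ℕ) (h : g⁻¹ * u ^ m * g ∈ (P : Subgroup X)),
      φ ⟨_, h⟩ = (-1) ^ m := by
    intro g m h
    have hc : ∀ j : ℕ, Commute g ((u * u) ^ j) := fun j => (show Commute g (u * u) from hu g).pow_right j
    obtain ⟨j, rfl | rfl⟩ : ∃ j, m = 2 * j ∨ m = 2 * j + 1 := ⟨m / 2, by omega⟩
    · rw [pow_mul (-1 : ℤˣ), neg_one_sq, one_pow]
      refine hA _ h ?_
      rw [pow_mul, pow_two, mul_assoc, ← (hc j).eq, inv_mul_cancel_left]
      exact pow_mem huA j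
    · have e : g⁻¹ * u ^ (2 * j + 1) * g = (u * u) ^ j * (g⁻¹ * u * g) := by
        rw [pow_succ, pow_mul, pow_two]
        calc g⁻¹ * ((u * u) ^ j * u) * g = g⁻¹ * (u * u) ^ j * (u * g) := by group
          _ = (u * u) ^ j * g⁻¹ * (u * g) := by rw [((hc j).inv_left).eq]
          _ = _ := by group
      have hj := pow_mem huA j
      have h' : g⁻¹ * u * g ∈ (P : Subgroup X) := by
        have h2 := h
        rw [e] at h2
        exact (mul_mem_cancel_left (hAP hj)).1 h2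
      have hn := hcl g⁻¹ (by rwa [inv_inv])
      rw [inv_inv] at hn
      rw [show (⟨_, h⟩ : (P : Subgroup X)) = ⟨_, hAP hj⟩ * ⟨_, h'⟩ from Subtype.ext e, map_mul, hA _ _ hj,
        one_mul, pow_succ, pow_mul, neg_one_sq, one_pow, one_mul]
      exact if_neg hn
  have hv : φ.transfer u = -1 := by
    rw [MonoidHom.transfer_eq_prod_quotient_orbitRel_zpowers_quot,
      Finset.prod_congr rfl (fun q _ => hterm _ _ _), Finset.prod_pow_eq_pow_sum,
      ← index_eq_sum_minimalPeriod (P : Subgroup X) u]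
    obtain ⟨j, hj⟩ := hodd
    rw [hj, pow_succ, pow_mul, neg_one_sq, one_pow, one_mul]
  refine ⟨φ.transfer.ker, inferInstance, ?_, by simp [MonoidHom.mem_ker, hv], ?_⟩
  · have hd : φ.transfer.ker.index ∣ 2 := by
      rw [index_ker]
      exact (card_subgroup_dvd_card _).trans (by simp [Nat.card_eq_fintype_card])
    refine (Nat.prime_two.eq_one_or_self_of_dvd _ hd).resolve_left fun h1 => ?_
    have : u ∈ φ.transfer.ker := index_eq_one.mp h1 ▸ mem_top u
    simp [MonoidHom.mem_ker, hv] at this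
  · intro τ hτ hc
    have key : ∀ (k : ℕ) (g₀ : X), g₀⁻¹ * τ ^ k * g₀ ∈ (P : Subgroup X) → g₀⁻¹ * τ ^ k * g₀ = τ ^ k :=
      fun k g₀ _ => by
        rw [mul_assoc, ← ((show Commute g₀ τ from hc g₀).pow_right k).eq, inv_mul_cancel_left]
    rw [MonoidHom.mem_ker, φ.transfer_eq_pow τ key]
    exact hA _ _ (pow_mem hτ _)

/-- The same inside a subgroup `M` with a Sylow 2-subgroup `P`. -/
theorem transfer_step {G : Type*} [Group G] [Finite G] (M P A : Subgroup G) (hPM : P ≤ M) (hAP : A ≤ P)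
    {k m : ℕ} (hP : Nat.card P = 2 ^ k) (hM : Nat.card M = 2 ^ k * m) (hm : Odd m)
    (hA : Nat.card A * 2 = 2 ^ k) (u : G) (huM : u ∈ M) (huc : ∀ y ∈ M, y * (u * u) = u * u * y)
    (huA : u * u ∈ A) (hcl : ∀ g ∈ M, g * u * g⁻¹ ∈ P → g * u * g⁻¹ ∉ A) :
    ∃ M' : Subgroup G, M' ≤ M ∧ (∀ g ∈ M, ∀ n ∈ M', g * n * g⁻¹ ∈ M') ∧
      Nat.card M' * 2 = Nat.card M ∧ u ∉ M' ∧
      (∀ a ∈ M, ∀ b ∈ M, a * b * a⁻¹ * b⁻¹ ∈ M') ∧ (∀ a ∈ M, a * a ∈ M') ∧
      (∀ a ∈ M, ∀ b ∈ M, a ∉ M' → b ∉ M' → a * b ∈ M') ∧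
      ∀ τ ∈ A, (∀ y ∈ M, y * τ = τ * y) → τ ∈ M' := by
  have : Fact (Nat.Prime 2) := ⟨Nat.prime_two⟩
  have hfac : (Nat.card M).factorization 2 = k := by
    rw [hM, Nat.factorization_mul (by positivity) (by rintro rfl; exact absurd hm (by decide)),
      Finsupp.add_apply, Nat.prime_two.factorization_pow, Finsupp.single_eq_same,
      Nat.factorization_eq_zero_of_not_dvd (by rw [← even_iff_two_dvd, Nat.not_even_iff_odd]; exact hm),
      add_zero]
  let P' : Sylow 2 M := Sylow.ofCard (P.subgroupOf M) (by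
    rw [Nat.card_congr (subgroupOfEquivOfLe hPM).toEquiv, hP, hfac])
  have hP' : (P' : Subgroup M) = P.subgroupOf M := Sylow.coe_ofCard _ _
  have hAi : (A.subgroupOf M).relIndex (P' : Subgroup M) = 2 := by
    rw [hP', relIndex_subgroupOf hPM]
    have h := relIndex_mul_relIndex (⊥ : Subgroup G) A P bot_le hAP
    rw [relIndex_bot_left, relIndex_bot_left, hP, ← hA] at h
    exact Nat.eq_of_mul_eq_mul_left Nat.card_pos h
  obtain ⟨M₁, hn, hidx, hu1, hcen⟩ := transfer_central P' (A.subgroupOf M)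
    (hP'.symm ▸ fun a ha => hAP ha) hAi ⟨u, huM⟩ (fun y => Subtype.ext (huc y y.2)) huA
    (fun g h => by rw [hP'] at h; exact hcl g g.2 h)
  refine ⟨M₁.map M.subtype, map_subtype_le _, ?_, ?_, ?_, ?_, ?_, ?_, ?_⟩
  · rintro a ha _ ⟨n, hn', rfl⟩
    exact ⟨⟨a, ha⟩ * n * ⟨a, ha⟩⁻¹, hn.conj_mem n hn' _, rfl⟩
  · rw [card_map_of_injective M.subtype_injective, ← hidx, card_mul_index]
  · rintro ⟨n, hn', e⟩
    obtain rfl : n = ⟨u, huM⟩ := Subtype.ext e
    exact hu1 hn'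
  · intro a ha b hb
    refine ⟨⟨a, ha⟩ * ⟨b, hb⟩ * ⟨a, ha⟩⁻¹ * ⟨b, hb⟩⁻¹, ?_, rfl⟩
    show _ ∈ M₁
    rw [mul_mem_iff_of_index_two hidx, mul_mem_iff_of_index_two hidx, mul_mem_iff_of_index_two hidx,
      inv_mem_iff, inv_mem_iff]
    tauto
  · intro a ha
    exact ⟨⟨a, ha⟩ * ⟨a, ha⟩, by show _ ∈ M₁; rw [mul_mem_iff_of_index_two hidx], rfl⟩
  · intro a ha b hb ha' hb'
    refine ⟨⟨a, ha⟩ * ⟨b, hb⟩, ?_, rfl⟩
    show _ ∈ M₁
    rw [mul_mem_iff_of_index_two hidx]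
    exact iff_of_false (fun h => ha' ⟨_, h, rfl⟩) (fun h => hb' ⟨_, h, rfl⟩)
  · intro τ hτ hc
    exact ⟨⟨τ, hPM (hAP hτ)⟩, hcen _ hτ fun y => Subtype.ext (hc y y.2), rfl⟩

theorem extend_two {G : Type*} [Group G] [Finite G] (A : Subgroup G) (c : G)
    (hn : ∀ a ∈ A, c * a * c⁻¹ ∈ A) (h2 : c * c ∈ A) (hc : c ∉ A) :
    ∃ B : Subgroup G, A ≤ B ∧ c ∈ B ∧ Nat.card B = 2 * Nat.card A ∧ ∀ n ∈ B, n ∈ A ∨ c⁻¹ * n ∈ A := by
  classical
  have hn' : ∀ a ∈ A, c⁻¹ * a * c ∈ A := fun a ha => by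
    have := mul_mem (mul_mem (inv_mem h2) (hn a ha)) h2
    rwa [show (c * c)⁻¹ * (c * a * c⁻¹) * (c * c) = c⁻¹ * a * c by group] at this
  let B : Subgroup G :=
    { carrier := {n | n ∈ A ∨ c⁻¹ * n ∈ A}
      one_mem' := Or.inl (one_mem A)
      mul_mem' := by
        rintro a b (ha | ha) (hb | hb)
        · exact Or.inl (mul_mem ha hb)
        · refine Or.inr ?_
          have := mul_mem (hn' a ha) hb
          rwa [show c⁻¹ * a * c * (c⁻¹ * b) = c⁻¹ * (a * b) by group] at this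
        · refine Or.inr ?_
          have := mul_mem ha hb
          rwa [mul_assoc] at this
        · refine Or.inl ?_
          have := mul_mem (mul_mem (hn _ ha) h2) hb
          rwa [show c * (c⁻¹ * a) * c⁻¹ * (c * c) * (c⁻¹ * b) = a * b by group] at this
      inv_mem' := by
        rintro a (ha | ha)
        · exact Or.inl (inv_mem ha)
        · refine Or.inr ?_
          have := mul_mem (inv_mem h2) (hn _ (inv_mem ha))
          rwa [show (c * c)⁻¹ * (c * (c⁻¹ * a)⁻¹ * c⁻¹) = c⁻¹ * a⁻¹ by group] at this }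
  refine ⟨B, fun a ha => Or.inl ha, Or.inr (by simp), ?_, fun n h => h⟩
  have hi : (A.subgroupOf B).index = 2 := by
    refine index_eq_two_iff.2 ⟨⟨c, Or.inr (by simp)⟩, fun b => ?_⟩
    have hx : Xor' ((b : G) * c ∈ A) ((b : G) ∈ A) := by
      rcases b.2 with hb | hb
      · exact Or.inr ⟨hb, fun h => hc ((mul_mem_cancel_left hb).1 h)⟩
      · refine Or.inl ⟨?_, fun h => hc ?_⟩
        · have := mul_mem (hn _ hb) h2
          rwa [show c * (c⁻¹ * (b : G)) * c⁻¹ * (c * c) = (b : G) * c by group] at this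
        · have := inv_mem ((mul_mem_cancel_right h).1 hb)
          rwa [inv_inv] at this
    exact hx
  have h := (A.subgroupOf B).card_mul_index
  rw [hi, Nat.card_congr (subgroupOfEquivOfLe (show A ≤ B from fun a ha => Or.inl ha)).toEquiv] at h
  omega

end General

variable {G : Type*} [Group G] [Finite G] {z : G} {Q : Subgroup G}

namespace Base

variable {K : Coord z Q 1} {x g : G} (S : Base K x g)
include S

/-- The elements with both parameters in the plane orthogonal to the chosen pair. -/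
def Tg : Subgroup G where
  carrier := {n | ∃ p, TP p ∧ S.Par n p}
  one_mem' := ⟨0, zero_TP, S.par_one⟩
  mul_mem' := by
    rintro a b ⟨p, hp, ha⟩ ⟨q, hq, hb⟩
    exact ⟨_, TP_add p q hp hq, S.par_mul ha hb⟩
  inv_mem' := by
    rintro a ⟨p, hp, ha⟩
    exact ⟨p, hp, S.par_inv ha⟩

/-- Its extension by a lift of the chosen pair. -/
def Ag : Subgroup G where
  carrier := {n | ∃ p, AP p ∧ S.Par n p}
  one_mem' := ⟨0, Or.inl zero_TP, S.par_one⟩
  mul_mem' := by
    rintro a b ⟨p, hp, ha⟩ ⟨q, hq, hb⟩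
    exact ⟨_, AP_add hp hq, S.par_mul ha hb⟩
  inv_mem' := by
    rintro a ⟨p, hp, ha⟩
    exact ⟨p, hp, S.par_inv ha⟩

omit S in
theorem mem_Tg (S : Base K x g) {n : G} : n ∈ S.Tg ↔ ∃ p, TP p ∧ S.Par n p := Iff.rfl

omit S in
theorem mem_Ag (S : Base K x g) {n : G} : n ∈ S.Ag ↔ ∃ p, AP p ∧ S.Par n p := Iff.rfl

theorem card_Tg : Nat.card S.Tg = 64 := by
  rw [show (64 : ℕ) = 4 * (Finset.univ.filter fun p : W × W => TP p).card by rw [CP_sets.2.1], ← S.card_par]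
  rfl

theorem card_Ag : Nat.card S.Ag = 128 := by
  rw [show (128 : ℕ) = 4 * (Finset.univ.filter fun p : W × W => AP p).card by rw [CP_sets.2.2.1], ← S.card_par]
  rfl

theorem Tg_le : S.Tg ≤ S.Ag := fun _ ⟨p, hp, h⟩ => ⟨p, Or.inl hp, h⟩

theorem x_mem_Tg : x ∈ S.Tg := ⟨0, zero_TP, by simpa [el] using S.par_el 0 1⟩

theorem z_mem_Tg : z ∈ S.Tg := ⟨0, zero_TP, by simpa [el] using S.par_el 1 0⟩

theorem Ag_le_Sg {t : G} (ht : S.Typ t) : S.Ag ≤ Sg z t := fun _ ⟨p, hp, h⟩ =>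
  S.mem_Sg_par ht h (AP_CP p hp)

theorem Ag_comm_x {n : G} (hn : n ∈ S.Ag) : n * x = x * n := by
  obtain ⟨p, -, h⟩ := hn
  exact (S.par_comm h).2.1

theorem moved_not_Ag {n : G} (hn : n * x * n⁻¹ = z * x) : n ∉ S.Ag := fun h => by
  rw [S.Ag_comm_x h, mul_inv_cancel_right] at hn
  exact S.hyp.extra.ne_one (right_eq_mul.1 hn)

theorem moved_not_conj {t n : G} (ht : S.Typ t) (hn : n ∈ Sg z t) (hx : n * x * n⁻¹ = z * x) :
    ¬ IsConj z n := fun h => by
  obtain ⟨p, hp, hT, -⟩ := S.sigma_par ht hn h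
  exact S.moved_not_Ag hx ⟨p, Or.inl hT, hp⟩

theorem moved_mul {t a b : G} (ht : S.Typ t) (ha : a ∈ Sg z t) (hx : a * x * a⁻¹ = z * x)
    (hb : b * x = x * b) : a * b * x * (a * b)⁻¹ = z * x := by
  calc a * b * x * (a * b)⁻¹ = a * (b * x * b⁻¹) * a⁻¹ := by group
    _ = z * x := by rw [hb, mul_inv_cancel_right, hx]

theorem fix_el {t w : G} (ht : S.Typ t) (hw : w ∈ Sg z t) (hwx : w * x * w⁻¹ = z * x) (i j : ZMod 2)
    (h : w * S.el i j = S.el i j * w) : j = 0 := by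
  refine (zcases j).resolve_right ?_
  rintro rfl
  have hz' : S.el 1 0 = z := by simp [el]
  have hx' : S.el 0 1 = x := by simp [el]
  have hi : ∀ i : ZMod 2, w * S.el i 0 * w⁻¹ = S.el i 0 := fun i => by
    rcases zcases i with rfl | rfl
    · rw [S.el_zero]; group
    · rw [hz', (mem_Sg.1 hw).1, mul_inv_cancel_right]
  have e : w * S.el i 1 * w⁻¹ = S.el i 1 := by rw [h, mul_inv_cancel_right]
  have e2 : w * S.el i 1 * w⁻¹ = S.el (i + 1) 1 := by
    rw [← show S.el i 0 * S.el 0 1 = S.el i 1 by rw [S.el_mul]; simp,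
      show w * (S.el i 0 * S.el 0 1) * w⁻¹ = (w * S.el i 0 * w⁻¹) * (w * S.el 0 1 * w⁻¹) by group,
      hi, hx', hwx, ← show S.el 1 1 = z * x by simp [el], S.el_mul]
    simp
  exact absurd (left_eq_add.1 (S.el_inj (e.symm.trans e2)).1) (by decide)

theorem mul_x_sq {w : G} (hz : w * z = z * w) (hwx : w * x * w⁻¹ = z * x) : w * x * (w * x) = z * (w * w) := by
  have h2 : w * x = z * x * w := mul_inv_eq_iff_eq_mul.1 hwx
  calc w * x * (w * x) = z * x * w * (w * x) := by rw [← h2]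
    _ = z * x * (w * (w * x)) := by group
    _ = z * x * (w * (z * x * w)) := by rw [h2]
    _ = z * (x * (w * z) * x * w) := by group
    _ = z * (x * (z * w) * x * w) := by rw [hz]
    _ = z * (x * z * (w * x) * w) := by group
    _ = z * (x * z * (z * x * w) * w) := by rw [h2]
    _ = z * (x * (z * z) * x * (w * w)) := by group
    _ = z * (x * x * (w * w)) := by rw [S.hyp.extra.sq_one]; group
    _ = z * (w * w) := by rw [S.xx, one_mul]

/-- An element outside `N` with square `t`, and one with square one in the other coset. -/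
theorem exists_co {t t' : G} (ht : S.Typ t) (ht' : S.Par t' tP') :
    ∃ c o : G, c ∈ Sg z t ∧ o ∈ Sg z t ∧ c * x * c⁻¹ = z * x ∧ o * x * o⁻¹ = z * x ∧
      c * c = t ∧ o * o = 1 ∧ ∃ k, k ∈ S.Tg ∧ o = c * t' * k := by
  have H := S.hyp
  have ht'S : t' ∈ Sg z t := S.mem_Sg_par ht ht' (by decide +kernel)
  have ht'x := (S.par_comm ht').2.1
  obtain ⟨s, hs, hsx⟩ := S.exists_out ht
  have sq_par : ∀ {a m : G} {p : W × W}, a ∈ Sg z t → a * x * a⁻¹ = z * x → S.Par m p →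
      ∀ {q : W × W}, S.Par (a * a) q → S.Par (a * m * (a * m)) (Lout p + q + p) := by
    intro a m p ha hax hm q hq
    have := S.par_mul (S.par_mul (S.out_par ht ha hax hm) hq) hm
    rwa [show a * m * a⁻¹ * (a * a) * m = a * m * (a * m) by group] at this
  have hss : ∃ q, S.Par (s * s) q ∧ CP q ∧ Lout q = q := by
    have h2 := mul_mem hs hs
    rcases S.res_cases ht h2 with ⟨-, q, hq, hC⟩ | ⟨h, -⟩
    · refine ⟨q, hq, hC, ?_⟩
      have := S.out_par ht hs hsx hq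
      rw [show s * (s * s) * s⁻¹ = s * s by group] at this
      exact S.par_unique this hq
    · exfalso
      have hz := (mem_Sg.1 hs).1
      have : s * s * x * (s * s)⁻¹ = x := by
        calc s * s * x * (s * s)⁻¹ = s * (s * x * s⁻¹) * s⁻¹ := by group
          _ = s * (z * x) * s⁻¹ := by rw [hsx]
          _ = z * (s * x * s⁻¹) := by rw [← mul_assoc s z, hz]; group
          _ = x := by rw [hsx, ← mul_assoc, H.extra.sq_one, one_mul]
      rw [this] at h
      exact H.extra.ne_one (right_eq_mul.1 h)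
  obtain ⟨q, hq, hC, hL⟩ := hss
  obtain ⟨d, hd, hdq⟩ := fixed_norm q hC hL
  obtain ⟨m, hm⟩ := S.par_exists d
  have hmS : m ∈ Sg z t := S.mem_Sg_par ht hm (AP_CP d (Or.inl hd))
  obtain ⟨a, ha, hax, haq⟩ : ∃ a ∈ Sg z t, a * x * a⁻¹ = z * x ∧ S.Par (a * a) tP := by
    have h1 := sq_par hs hsx hm hq
    have hx1 := S.moved_mul ht hs hsx (S.par_comm hm).2.1
    rcases hdq with e | e
    · refine ⟨s * m * t', mul_mem (mul_mem hs hmS) ht'S, S.moved_mul ht (mul_mem hs hmS) hx1 ht'x, ?_⟩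
      have := sq_par (mul_mem hs hmS) hx1 ht' h1
      rwa [show Lout tP' + (Lout d + q + d) + tP' = tP by
        rw [show Lout d + q + d = d + Lout d + q by abel, e, addP, add_zero, Lout_spec.2.2.2.1,
          add_assoc, addP, add_zero]] at this
    · refine ⟨s * m, mul_mem hs hmS, hx1, ?_⟩
      rwa [show Lout d + q + d = tP by
        rw [show Lout d + q + d = d + Lout d + q by abel, e, add_comm q tP, add_assoc, addP, add_zero]] at h1
  have hxS : x ∈ Sg z t := S.Ag_le_Sg ht (S.Tg_le S.x_mem_Tg)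
  obtain ⟨c, hc, hcx, hcc, k0, hk0, hck⟩ : ∃ c ∈ Sg z t, c * x * c⁻¹ = z * x ∧ c * c = t ∧
      ∃ k0 ∈ S.Tg, c = a * k0 := by
    obtain ⟨i, j, e⟩ := S.par_eq (S.typ_iff.1 ht) haq
    have hcom : a * S.el i j = S.el i j * a := by
      have : S.el i j = t⁻¹ * (a * a) := by rw [e, inv_mul_cancel_left]
      rw [this]
      exact ((show Commute a t from (mem_Sg.1 ha).2).inv_right.mul_right
        ((Commute.refl a).mul_right (Commute.refl a))).eq
    obtain rfl := S.fix_el ht ha hax i j hcom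
    rcases zcases i with rfl | rfl
    · exact ⟨a, ha, hax, by rw [e, S.el_zero, mul_one], 1, one_mem _, (mul_one a).symm⟩
    · refine ⟨a * x, mul_mem ha hxS, S.moved_mul ht ha hax rfl, ?_, x, S.x_mem_Tg, rfl⟩
      rw [S.mul_x_sq (mem_Sg.1 ha).1 hax, e, show S.el 1 0 = z by simp [el], ← mul_assoc, ← S.typ_comm ht,
        mul_assoc, H.extra.sq_one, mul_one]
  have hcT : S.Par (c * c) tP := hcc.symm ▸ S.typ_iff.1 ht
  have h0 := sq_par hc hcx ht' hcT
  rw [show Lout tP' + tP + tP' = 0 by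
    rw [Lout_spec.2.2.2.1, add_comm (tP + tP') tP, ← add_assoc tP, addP, zero_add, addP]] at h0
  obtain ⟨i, j, e⟩ := S.par_zero h0
  have hb := mul_mem hc ht'S
  have hbx := S.moved_mul ht hc hcx ht'x
  obtain rfl := S.fix_el ht hb hbx i j (by rw [← e]; group)
  rcases zcases i with rfl | rfl
  · exact ⟨c, c * t', hc, hb, hcx, hbx, hcc, by rw [e, S.el_zero], 1, one_mem _, (mul_one _).symm⟩
  · refine ⟨c, c * t' * x, hc, mul_mem hb hxS, hcx, S.moved_mul ht hb hbx rfl, hcc, ?_, x, S.x_mem_Tg, rfl⟩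
    rw [S.mul_x_sq (mem_Sg.1 hb).1 hbx, e, show S.el 1 0 = z by simp [el], H.extra.sq_one]

/-- `Sg` is a Sylow 2-subgroup of `C(t)`. -/
theorem card_ct {t : G} (ht : S.Typ t) :
    ∃ m, Odd m ∧ Nat.card (centralizer ({t} : Set G)) = 2 ^ 9 * m := by
  have : Fact (Nat.Prime 2) := ⟨Nat.prime_two⟩
  set C := centralizer ({t} : Set G) with hC
  have hle : Sg z t ≤ C := inf_le_right
  have hP : IsPGroup 2 ((Sg z t).subgroupOf C) := IsPGroup.of_card (n := 9) (by
    rw [Nat.card_congr (subgroupOfEquivOfLe hle).toEquiv, S.card_Sg ht]; norm_num)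
  obtain ⟨P, hPle⟩ := hP.exists_le_sylow
  have heq : (P : Subgroup C) = (Sg z t).subgroupOf C := by
    by_contra hne
    have hnil : Group.IsNilpotent (P : Subgroup C) := P.isPGroup'.isNilpotent
    have hlt : ((Sg z t).subgroupOf C).subgroupOf (P : Subgroup C) < ⊤ := lt_top_iff_ne_top.2 fun h =>
      hne (le_antisymm (subgroupOf_eq_top.1 h) hPle)
    obtain ⟨n, hnN, hnS⟩ := SetLike.exists_of_lt (normalizerCondition_of_isNilpotent
      (((Sg z t).subgroupOf C).subgroupOf (P : Subgroup C)) hlt)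
    refine hnS ?_
    show ((n : C) : G) ∈ Sg z t
    set w := ((n : C) : G) with hw
    have hwt : w * t = t * w := mem_centralizer_singleton_iff.1 (n : C).2
    have hconj : ∀ s ∈ Sg z t, w * s * w⁻¹ ∈ Sg z t ∧ w⁻¹ * s * w ∈ Sg z t := fun s hs => by
      have h1 := (mem_normalizer_iff.1 hnN ⟨⟨s, hle hs⟩, hPle hs⟩).1 hs
      have h2 := (mem_normalizer_iff.1 (inv_mem hnN) ⟨⟨s, hle hs⟩, hPle hs⟩).1 hs
      refine ⟨h1, ?_⟩
      simpa [mem_subgroupOf] using h2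
    have hzS : z ∈ Sg z t := S.Ag_le_Sg ht (S.Tg_le S.z_mem_Tg)
    have he : w * z * w⁻¹ = z := by
      refine S.central_eq ht (hconj z hzS).1 (isConj_iff.2 ⟨w, rfl⟩) fun s hs => ?_
      have h2 := (mem_Sg.1 (hconj s hs).2).1
      calc s * (w * z * w⁻¹) = w * (w⁻¹ * s * w * z) * w⁻¹ := by group
        _ = w * z * w⁻¹ * s := by rw [h2]; group
    exact mem_Sg.2 ⟨mul_inv_eq_iff_eq_mul.1 he, hwt⟩
  refine ⟨(P : Subgroup C).index, ?_, ?_⟩
  · rw [← Nat.not_even_iff_odd, even_iff_two_dvd]; exact P.not_dvd_index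
  · rw [← (P : Subgroup C).card_mul_index, heq, Nat.card_congr (subgroupOfEquivOfLe hle).toEquiv, S.card_Sg ht]
    norm_num

/-- `C(t)` is transitive on its conjugates of `z`. -/
theorem ct_trans {t l : G} (ht : S.Typ t) (hl : IsConj z l) (hlt : l * t = t * l) :
    ∃ a, a * t = t * a ∧ a * z * a⁻¹ = l := by
  obtain ⟨d, hd⟩ := isConj_iff.1 hl
  have h1 : d⁻¹ * t * d * z = z * (d⁻¹ * t * d) := by
    calc d⁻¹ * t * d * z = d⁻¹ * (t * (d * z * d⁻¹)) * d := by group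
      _ = d⁻¹ * (d * z * d⁻¹ * t) * d := by rw [hd, hlt]
      _ = z * (d⁻¹ * t * d) := by group
  have hne : ¬ IsConj z (d⁻¹ * t * d) := fun h => S.typ_not_conj ht
    (h.trans (isConj_iff.2 ⟨d, by group⟩))
  obtain ⟨y, hy, hyt⟩ := S.typ_of_not ht h1
    (by rw [show d⁻¹ * t * d * (d⁻¹ * t * d) = d⁻¹ * (t * t) * d by group, S.typ_sq ht]; group)
    (fun e => S.typ_ne_one ht (by
      calc t = d * (d⁻¹ * t * d) * d⁻¹ := by group
        _ = 1 := by rw [e]; group)) hne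
  refine ⟨d * y⁻¹, ?_, ?_⟩
  · calc d * y⁻¹ * t = d * y⁻¹ * (y * (d⁻¹ * t * d) * y⁻¹) := by rw [hyt]
      _ = t * (d * y⁻¹) := by group
  · calc d * y⁻¹ * z * (d * y⁻¹)⁻¹ = d * (y⁻¹ * (z * y)) * d⁻¹ := by group
      _ = l := by rw [← hy, inv_mul_cancel_left, hd]

/-- Conjugates of elements with square at most `t` and moving `x` avoid `Ag`. -/
theorem avoid_Ag {t v : G} (ht : S.Typ t) (hv : v ∈ Sg z t) (hvx : v * x * v⁻¹ = z * x)
    (h2 : v * v = t ∨ v * v = 1) {a : G} (ha : a * t = t * a) : a * v * a⁻¹ ∉ S.Ag := by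
  rintro ⟨p, hp, hw⟩
  have hsq := S.par_sq hw
  rw [show a * v * a⁻¹ * (a * v * a⁻¹) = a * (v * v) * a⁻¹ by group] at hsq
  rcases h2 with h2 | h2
  · rw [h2, ha, mul_inv_cancel_right] at hsq
    exact tP_not_TP.2.1 (S.par_unique (S.typ_iff.1 ht) (hsq ▸ S.par_el _ _))
  rw [h2, mul_one, mul_inv_cancel, ← S.el_zero] at hsq
  obtain ⟨e1, e2⟩ := S.el_inj hsq
  have hv1 : v ≠ 1 := fun e => by
    rw [e, one_mul, inv_one, mul_one] at hvx
    exact S.hyp.extra.ne_one (right_eq_mul.1 hvx)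
  have hax : ∀ {q : W × W} {n : G}, S.Par n q → TP q → psq1 q = 0 → psq2 q = 0 → n ≠ 1 → IsConj z n :=
    fun hn hq s1 s2 hn1 => S.ax_conj hn ((inv_cases _ s1 s2).resolve_right (TP_not_An _ hq)) hn1
  rcases hp with hp | hp
  · exact S.moved_not_conj ht hv hvx ((hax hw hp e1.symm e2.symm (fun e => hv1 (conj_eq_one_iff.1 e))).trans
      (isConj_iff.2 ⟨a⁻¹, by group⟩))
  · have htw : S.Par (a * v * a⁻¹ * t) (p + tP) := S.par_mul hw (S.typ_iff.1 ht)
    have htS : t ∈ Sg z t := mem_Sg.2 ⟨S.typ_comm ht, rfl⟩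
    have hmove := S.moved_mul ht hv hvx (S.typ_x ht)
    have e : a * v * a⁻¹ * t = a * (v * t) * a⁻¹ := by
      calc a * v * a⁻¹ * t = a * v * (a⁻¹ * t) := by group
        _ = a * v * (t * a⁻¹) := by rw [(Commute.inv_left ha).eq]
        _ = a * (v * t) * a⁻¹ := by group
    rw [e] at htw
    have h22 : v * t * (v * t) = 1 := by
      calc v * t * (v * t) = v * (t * v) * t := by group
        _ = (v * v) * (t * t) := by rw [← (mem_Sg.1 hv).2]; group
        _ = 1 := by rw [h2, S.typ_sq ht, one_mul]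
    obtain ⟨s1, s2⟩ := (S.par_sq_one htw).1 (conj_sq_one h22)
    refine S.moved_not_conj ht (mul_mem hv htS) hmove ((hax htw hp s1 s2 fun e' => ?_).trans
      (isConj_iff.2 ⟨a⁻¹, by group⟩))
    rw [conj_eq_one_iff.1 e', one_mul, inv_one, mul_one] at hmove
    exact S.hyp.extra.ne_one (right_eq_mul.1 hmove)

/-- The conclusion of the three transfers. -/
structure LData (S : Base K x g) (t : G) (L : Subgroup G) : Prop where
  le : L ≤ centralizer ({t} : Set G)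
  tg : S.Tg ≤ L
  not_t : t ∉ L
  card : Nat.card (centralizer ({t} : Set G)) = 8 * Nat.card L
  two : ∃ m, Odd m ∧ Nat.card L = 2 ^ 6 * m
  sigma : ∀ l, IsConj z l → l * t = t * l → l ∈ L
  trans : ∀ l, IsConj z l → l * t = t * l → ∃ a ∈ L, a * z * a⁻¹ = l
  odd : ∀ a, a * t = t * a → Odd (orderOf a) → a ∈ L

theorem exists_L {t : G} (ht : S.Typ t) : ∃ L, S.LData t L := by
  have H := S.hyp
  obtain ⟨m, hm, hC⟩ := S.card_ct ht
  set C := centralizer ({t} : Set G) with hCdef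
  obtain ⟨t', ht'⟩ := S.par_exists tP'
  have ht'S : t' ∈ Sg z t := S.mem_Sg_par ht ht' (by decide +kernel)
  have ht'2 : t' * t' = 1 := (S.par_sq_one ht').2 (an_sq _ an_tP.2.1)
  obtain ⟨c, o, hc, ho, hcx, hox, hcc, hoo, k, hk, hok⟩ := S.exists_co ht ht'
  have htS : t ∈ Sg z t := mem_Sg.2 ⟨S.typ_comm ht, rfl⟩
  have hSC : Sg z t ≤ C := inf_le_right
  have htA : t ∈ S.Ag := ⟨tP, tP_not_TP.2.2.2, S.typ_iff.1 ht⟩
  have hnorm : ∀ s ∈ Sg z t, s * x * s⁻¹ = z * x → ∀ a ∈ S.Ag, s * a * s⁻¹ ∈ S.Ag :=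
    fun s hs hsx a ⟨p, hp, ha⟩ => ⟨Lout p, Lout_spec.1 p hp, S.out_par ht hs hsx ha⟩
  have inT : ∀ M : Subgroup G, (∀ l, IsConj z l → l * t = t * l → l ∈ M) → S.Tg ≤ M := by
    rintro M hM n ⟨p, hp, hn⟩
    obtain ⟨a, b, ha, hA, hb, hB, rfl⟩ := two_axes p hp
    obtain ⟨na, hna⟩ := S.par_exists a
    obtain ⟨nb, hnb⟩ := S.par_exists b
    obtain ⟨i, j, rfl⟩ := S.par_eq (S.par_mul hna hnb) hn
    have mem : ∀ {l : G} {q : W × W}, S.Par l q → TP q → Ax q → l ∈ M := fun {l q} hl hq hQ => by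
      by_cases h1 : l = 1
      · exact h1 ▸ one_mem M
      · exact hM l (S.ax_conj hl hQ h1) (mem_Sg.1 (S.mem_Sg_par ht hl (AP_CP q (Or.inl hq)))).2
    exact mul_mem (mul_mem (mem hna ha hA) (mem hnb hb hB))
      (mem (S.par_el i j) zero_TP (by decide +kernel))
  have hxt : x * t = t * x := (S.typ_x ht).symm
  -- first transfer
  obtain ⟨P₀, hAP₀, hcP₀, hP₀c, hP₀⟩ := extend_two S.Ag c (hnorm c hc hcx) (hcc ▸ htA) (S.moved_not_Ag hcx)
  have hP₀le : P₀ ≤ Sg z t := fun n hn => by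
    rcases hP₀ n hn with h | h
    · exact S.Ag_le_Sg ht h
    · have := mul_mem hc (S.Ag_le_Sg ht h)
      rwa [mul_inv_cancel_left] at this
  obtain ⟨M₁, hM₁C, hM₁n, hM₁c, ht'M, hM₁com, hM₁sq, hM₁mul, -⟩ :=
    transfer_step C (Sg z t) P₀ hSC hP₀le (k := 9) (by rw [S.card_Sg ht]; norm_num) hC hm
      (by rw [hP₀c, S.card_Ag]; norm_num) t' (hSC ht'S)
      (fun y _ => by rw [ht'2, mul_one, one_mul]) (by rw [ht'2]; exact one_mem _)
      (fun a ha haP haA => by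
        rw [hCdef, mem_centralizer_singleton_iff] at ha
        have h2 := conj_sq_one (c := a) ht'2
        have hnz : ∀ {n : G} {p : W × W}, S.Par n p → An p → ¬ IsConj z n := fun hn hp => S.an_not_conj hn hp
        have ht'1 : t' ≠ 1 := fun e => by
          have := S.par_unique (e ▸ ht') S.par_one
          exact absurd this (by decide)
        rcases hP₀ _ haA with ⟨p, hp, hn⟩ | ⟨p, hp, hn⟩
        · obtain ⟨s1, s2⟩ := (S.par_sq_one hn).1 h2
          rcases hp with hp | hp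
          · exact hnz ht' an_tP.2.1 ((S.ax_conj hn ((inv_cases _ s1 s2).resolve_right (TP_not_An _ hp))
              (fun e => ht'1 (conj_eq_one_iff.1 e))).trans (isConj_iff.2 ⟨a⁻¹, by group⟩))
          · have htw := S.par_mul hn (S.typ_iff.1 ht)
            rw [show a * t' * a⁻¹ * t = a * (t' * t) * a⁻¹ by
              calc a * t' * a⁻¹ * t = a * t' * (a⁻¹ * t) := by group
                _ = a * t' * (t * a⁻¹) := by rw [(Commute.inv_left ha).eq]
                _ = a * (t' * t) * a⁻¹ := by group] at htw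
            have h22 : t' * t * (t' * t) = 1 := (S.par_sq_one (S.par_mul ht' (S.typ_iff.1 ht))).2
              (an_sq _ (by rw [add_comm]; exact an_tP.2.2))
            obtain ⟨r1, r2⟩ := (S.par_sq_one htw).1 (conj_sq_one h22)
            refine hnz (S.par_mul ht' (S.typ_iff.1 ht)) (by rw [add_comm]; exact an_tP.2.2)
              ((S.ax_conj htw ((inv_cases _ r1 r2).resolve_right (TP_not_An _ hp)) fun e => ?_).trans
                (isConj_iff.2 ⟨a⁻¹, by group⟩))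
            have := S.par_unique (conj_eq_one_iff.1 e ▸ S.par_mul ht' (S.typ_iff.1 ht)) S.par_one
            exact absurd this (by decide)
        · have h3 := S.par_mul (S.par_mul (S.out_par ht hc hcx hn) (hcc.symm ▸ S.typ_iff.1 ht : S.Par (c * c) tP)) hn
          rw [show c * (c⁻¹ * (a * t' * a⁻¹)) * c⁻¹ * (c * c) * (c⁻¹ * (a * t' * a⁻¹)) =
            a * t' * a⁻¹ * (a * t' * a⁻¹) by group, h2] at h3
          refine norm_ne p hp ?_
          rw [add_right_comm]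
          exact S.par_unique h3 S.par_one)
  have hcard₁ : Nat.card M₁ = 2 ^ 8 * m := by rw [hC] at hM₁c; omega
  have hzS : z ∈ Sg z t := S.Ag_le_Sg ht (S.Tg_le S.z_mem_Tg)
  have hxS : x ∈ Sg z t := S.Ag_le_Sg ht (S.Tg_le S.x_mem_Tg)
  have hcomz : ∀ s : G, s * x * s⁻¹ = z * x → s * x * s⁻¹ * x⁻¹ = z := fun s h => by
    rw [h, mul_inv_cancel_right]
  have hz₁ : z ∈ M₁ := hcomz c hcx ▸ hM₁com c (hSC hc) x (hSC hxS)
  have hsig₁ : ∀ l, IsConj z l → l * t = t * l → l ∈ M₁ := fun l hl hlt => by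
    obtain ⟨a, ha, rfl⟩ := S.ct_trans ht hl hlt
    exact hM₁n a (mem_centralizer_singleton_iff.2 ha) z hz₁
  have htM₁ : t ∈ M₁ := hcc ▸ hM₁sq c (hSC hc)
  have hAM₁ : S.Ag ≤ M₁ := by
    rintro n ⟨p, hp | hp, hn⟩
    · exact inT M₁ hsig₁ ⟨p, hp, hn⟩
    · have := mul_mem (inT M₁ hsig₁ ⟨_, hp, S.par_mul hn (S.typ_iff.1 ht)⟩) htM₁
      rwa [mul_assoc, S.typ_sq ht, mul_one] at this
  obtain ⟨v, hv, hvx, hvsq, hvM⟩ : ∃ v ∈ Sg z t, v * x * v⁻¹ = z * x ∧ (v * v = t ∨ v * v = 1) ∧ v ∈ M₁ := by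
    by_cases hcM : c ∈ M₁
    · exact ⟨c, hc, hcx, Or.inl hcc, hcM⟩
    · refine ⟨o, ho, hox, Or.inr hoo, ?_⟩
      rw [hok]
      exact mul_mem (hM₁mul c (hSC hc) t' (hSC ht'S) hcM ht'M) (inT M₁ hsig₁ hk)
  have hvA : v * v ∈ S.Ag := by
    rcases hvsq with e | e <;> rw [e]
    exacts [htA, one_mem _]
  obtain ⟨P₁, hAP₁, hvP₁, hP₁c, hP₁⟩ := extend_two S.Ag v (hnorm v hv hvx) hvA (S.moved_not_Ag hvx)
  have hP₁le : P₁ ≤ M₁ := fun n hn => by
    rcases hP₁ n hn with h | h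
    · exact hAM₁ h
    · have := mul_mem hvM (hAM₁ h)
      rwa [mul_inv_cancel_left] at this
  -- second transfer
  have hvc : ∀ y ∈ M₁, y * (v * v) = v * v * y := fun y hy => by
    rcases hvsq with e | e <;> rw [e]
    · exact mem_centralizer_singleton_iff.1 (hM₁C hy)
    · rw [mul_one, one_mul]
  obtain ⟨M₂, hM₂M, hM₂n, hM₂c, hvM₂, hM₂com, hM₂sq, hM₂mul, hM₂cen⟩ :=
    transfer_step M₁ P₁ S.Ag hP₁le hAP₁ (k := 8) (by rw [hP₁c, S.card_Ag]; norm_num) hcard₁ hm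
      (by rw [S.card_Ag]; norm_num) v hvM hvc hvA
      (fun a ha _ => S.avoid_Ag ht hv hvx hvsq (mem_centralizer_singleton_iff.1 (hM₁C ha)))
  have hcard₂ : Nat.card M₂ = 2 ^ 7 * m := by omega
  have hz₂ : z ∈ M₂ := hcomz v hvx ▸ hM₂com v hvM x (hsig₁ x (by
      simpa [el] using S.ax_conj (S.par_el 0 1) (by decide +kernel) (by simpa [el] using S.x_ne.1)) hxt)
  have htM₂ : t ∈ M₂ := hM₂cen t htA fun y hy => mem_centralizer_singleton_iff.1 (hM₁C hy)
  have ht'z : t' * z = z * t' := (S.par_comm ht').1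
  have htrans₂ : ∀ l, IsConj z l → l * t = t * l → ∃ a ∈ M₂, a * z * a⁻¹ = l := fun l hl hlt => by
    obtain ⟨a, ha, hal⟩ := S.ct_trans ht hl hlt
    have fix : ∀ b : G, b * z = z * b → a * b * z * (a * b)⁻¹ = l := fun b hb => by
      rw [← hal, show a * b * z * (a * b)⁻¹ = a * (b * z * b⁻¹) * a⁻¹ by group, hb, mul_inv_cancel_right]
    obtain ⟨b, hbM, hb⟩ : ∃ b ∈ M₁, b * z * b⁻¹ = l := by
      by_cases h : a ∈ M₁
      · exact ⟨a, h, hal⟩
      · exact ⟨a * t', hM₁mul a (mem_centralizer_singleton_iff.2 ha) t' (hSC ht'S) h ht'M, fix t' ht'z⟩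
    by_cases h : b ∈ M₂
    · exact ⟨b, h, hb⟩
    · refine ⟨b * v, hM₂mul b hbM v hvM h hvM₂, ?_⟩
      rw [← hb, show b * v * z * (b * v)⁻¹ = b * (v * z * v⁻¹) * b⁻¹ by group, (mem_Sg.1 hv).1,
        mul_inv_cancel_right]
  have hsig₂ : ∀ l, IsConj z l → l * t = t * l → l ∈ M₂ := fun l hl hlt => by
    obtain ⟨a, ha, rfl⟩ := htrans₂ l hl hlt
    exact hM₂n a (hM₂M ha) z hz₂
  have hAM₂ : S.Ag ≤ M₂ := by
    rintro n ⟨p, hp | hp, hn⟩
    · exact inT M₂ hsig₂ ⟨p, hp, hn⟩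
    · have := mul_mem (inT M₂ hsig₂ ⟨_, hp, S.par_mul hn (S.typ_iff.1 ht)⟩) htM₂
      rwa [mul_assoc, S.typ_sq ht, mul_one] at this
  -- third transfer
  have hcent₂ : ∀ y ∈ M₂, y * t = t * y := fun y hy => mem_centralizer_singleton_iff.1 (hM₁C (hM₂M hy))
  have htT : t ∉ S.Tg := fun ⟨p, hp, hn⟩ => tP_not_TP.1 (S.par_unique hn (S.typ_iff.1 ht) ▸ hp)
  obtain ⟨L, hLM, hLn, hLc, htL, hLcom, hLsq, hLmul, -⟩ :=
    transfer_step M₂ S.Ag S.Tg hAM₂ S.Tg_le (k := 7) (by rw [S.card_Ag]; norm_num) hcard₂ hm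
      (by rw [S.card_Tg]; norm_num) t htM₂
      (fun y _ => by rw [S.typ_sq ht, mul_one, one_mul]) (by rw [S.typ_sq ht]; exact one_mem _)
      (fun a ha _ => by rw [hcent₂ a ha, mul_inv_cancel_right]; exact htT)
  have hzL : z ∈ L := by
    obtain ⟨a, b, ha, -, hb, -, e1, e2⟩ := comm_pair
    obtain ⟨na, hna⟩ := S.par_exists a
    obtain ⟨nb, hnb⟩ := S.par_exists b
    have h := hLcom na (hAM₂ ⟨a, Or.inl ha, hna⟩) nb (hAM₂ ⟨b, Or.inl hb, hnb⟩)
    rw [S.par_commutator hna hnb, e1, e2, show S.el 1 0 * (nb * na) * na⁻¹ * nb⁻¹ = S.el 1 0 by group] at h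
    simpa [el] using h
  have htrans : ∀ l, IsConj z l → l * t = t * l → ∃ a ∈ L, a * z * a⁻¹ = l := fun l hl hlt => by
    obtain ⟨a, ha, hal⟩ := htrans₂ l hl hlt
    by_cases h : a ∈ L
    · exact ⟨a, h, hal⟩
    · refine ⟨a * t, hLmul a ha t htM₂ h htL, ?_⟩
      rw [← hal, show a * t * z * (a * t)⁻¹ = a * (t * z * t⁻¹) * a⁻¹ by group, S.typ_comm ht,
        mul_inv_cancel_right]
  have hsig : ∀ l, IsConj z l → l * t = t * l → l ∈ L := fun l hl hlt => by
    obtain ⟨a, ha, rfl⟩ := htrans₂ l hl hlt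
    exact hLn a ha z hzL
  have hodd : ∀ a, a * t = t * a → Odd (orderOf a) → a ∈ L := by
    intro a ha ho
    obtain ⟨j, hj⟩ := ho
    have ea : a = (a * a) ^ (j + 1) := by
      rw [← pow_two, ← pow_mul, show 2 * (j + 1) = orderOf a + 1 by omega, pow_succ, pow_orderOf_eq_one,
        one_mul]
    have step : ∀ {M M' : Subgroup G}, (∀ b ∈ M, b * b ∈ M') → a ∈ M → a ∈ M' := fun h haM => by
      rw [ea]; exact pow_mem (h a haM) _
    exact step hLsq (step hM₂sq (step hM₁sq (mem_centralizer_singleton_iff.2 ha)))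
  refine ⟨L, ⟨hLM.trans (hM₂M.trans hM₁C), inT L hsig, htL, ?_, ⟨m, hm, ?_⟩, hsig, htrans, hodd⟩⟩
  · rw [← hCdef]; omega
  · omega

end Base

end CfsgLib.SuzType
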