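import Mathlib
import Cfsg.Agent.Lib.SuzType.TypTransfer
import Cfsg.Agent.Lib.CIT.Assemble
import Cfsg.Agent.Lib.CIT.Steps

/-!
The subgroup of index eight of `C(t)` has order 20160; the pairs of involutions whose product powers to `t`.
-/

set_option autoImplicit false
set_option maxHeartbeats 1000000
set_option synthInstance.maxSize 8000
set_option synthInstance.maxHeartbeats 1000000
set_option linter.style.longLine false
set_option linter.unusedSectionVars false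

namespace CfsgLib.SuzType

open Subgroup CfsgLib.CIT

theorem moving_axis : ∃ p : W × W, TP p ∧ Ax p ∧ p ≠ 0 := by decide +kernel

theorem pair_count : (Finset.univ.filter fun p : (W × W) × (W × W) =>
    (TP p.1 ∧ Ax p.1) ∧ (TP p.2 ∧ Ax p.2) ∧ beta1 p.1 p.2 = 1 ∧ beta2 p.1 p.2 = 0).card = 6 := by
  have key : ((Finset.univ.filter fun p : W × W => TP p ∧ Ax p) ×ˢ (Finset.univ.filter fun p : W × W => TP p ∧ Ax p)).filter
      (fun p => beta1 p.1 p.2 = 1 ∧ beta2 p.1 p.2 = 0) = (Finset.univ.filter fun p : (W × W) × (W × W) =>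
    (TP p.1 ∧ Ax p.1) ∧ (TP p.2 ∧ Ax p.2) ∧ beta1 p.1 p.2 = 1 ∧ beta2 p.1 p.2 = 0) := by
    ext p
    simp only [Finset.mem_filter, Finset.mem_product, Finset.mem_univ, true_and]
    tauto
  rw [← key]
  decide +kernel

variable {G : Type*} [Group G] [Finite G] {z : G} {Q : Subgroup G}

theorem card_pairs_inv {X : Type*} [Group X] [Fintype X] [DecidableEq X] (I : Finset X)
    (hI : ∀ u, u ∈ I ↔ u * u = 1 ∧ u ≠ 1) (hsix : ∀ u ∈ I, ∀ d ∈ I, Even (orderOf (u * d)) →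
      (u * d) * (u * d) * ((u * d) * (u * d)) = 1) {a b : ℕ}
    (ha : ∀ u ∈ I, (I.filter fun d => u * d = d * u).card = a + 1)
    (hb : ∀ s ∈ I, ((I ×ˢ I).filter fun p => (p.1 * p.2) * (p.1 * p.2) = s).card = b) :
    ((I ×ˢ I).filter fun p => Odd (orderOf (p.1 * p.2))).card + I.card * (a + b) = I.card * I.card := by
  classical
  rw [← Finset.card_product]
  set P := I ×ˢ I with hP
  have hmem : ∀ p ∈ P, p.1 ∈ I ∧ p.2 ∈ I := fun p hp => Finset.mem_product.1 hp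
  let A := P.filter fun p => p.1 ≠ p.2 ∧ p.1 * p.2 = p.2 * p.1
  let B := P.filter fun p => (p.1 * p.2) * (p.1 * p.2) ∈ I
  have hcomm : ∀ p ∈ P, p.1 * p.2 = p.2 * p.1 ↔ (p.1 * p.2) * (p.1 * p.2) = 1 := by
    intro p hp
    obtain ⟨h1, h2⟩ := hmem p hp
    constructor
    · intro e
      calc p.1 * p.2 * (p.1 * p.2) = p.1 * (p.2 * p.1) * p.2 := by group
        _ = (p.1 * p.1) * (p.2 * p.2) := by rw [← e]; group
        _ = 1 := by rw [((hI _).1 h1).1, ((hI _).1 h2).1, one_mul]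
    · intro e
      rw [mul_eq_one_iff_eq_inv.1 e, mul_inv_rev, inv_eq_of_mul_eq_one_right ((hI _).1 h1).1,
        inv_eq_of_mul_eq_one_right ((hI _).1 h2).1]
  have hsplit : P.filter (fun p => ¬ Odd (orderOf (p.1 * p.2))) = A ∪ B := by
    ext p
    simp only [A, B, Finset.mem_union, Finset.mem_filter]
    constructor
    · rintro ⟨hp, he⟩
      rw [Nat.not_odd_iff_even] at he
      obtain ⟨h1, h2⟩ := hmem p hp
      have h4 := hsix _ h1 _ h2 he
      by_cases hs : (p.1 * p.2) * (p.1 * p.2) = 1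
      · refine Or.inl ⟨hp, fun e => ?_, (hcomm p hp).2 hs⟩
        rw [e, ((hI _).1 h2).1, orderOf_one] at he
        exact absurd he (by decide)
      · exact Or.inr ⟨hp, (hI _).2 ⟨h4, hs⟩⟩
    · rintro (⟨hp, hne, hc⟩ | ⟨hp, hs⟩)
      · refine ⟨hp, fun ho => hne ?_⟩
        obtain ⟨h1, h2⟩ := hmem p hp
        have h1' : p.1 * p.2 = 1 := by
          obtain ⟨j, hj⟩ := ho
          have := pow_orderOf_eq_one (p.1 * p.2)
          rwa [hj, pow_succ, pow_mul, pow_two, (hcomm p hp).1 hc, one_pow, one_mul] at this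
        rw [mul_eq_one_iff_eq_inv.1 h1', inv_eq_of_mul_eq_one_right ((hI _).1 h2).1]
      · refine ⟨hp, fun ho => ((hI _).1 hs).2 ?_⟩
        obtain ⟨j, hj⟩ := ho
        have h1 := pow_orderOf_eq_one (p.1 * p.2)
        have h4 : (p.1 * p.2) ^ 4 = 1 := by
          rw [show (4 : ℕ) = 2 * 2 from rfl, pow_mul, pow_two (p.1 * p.2), pow_two]; exact ((hI _).1 hs).1
        have hd : orderOf (p.1 * p.2) ∣ 1 := by
          have hd4 := orderOf_dvd_of_pow_eq_one h4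
          exact (Nat.Coprime.dvd_of_dvd_mul_right (n := 4)
            ((Nat.coprime_two_right.2 (hj ▸ odd_two_mul_add_one j : Odd (orderOf (p.1 * p.2)))).pow_right 2)
            (by simpa using hd4))
        rw [Nat.dvd_one, orderOf_eq_one_iff] at hd
        rw [hd, one_mul]
  have hdisj : Disjoint A B := by
    rw [Finset.disjoint_left]
    intro p hA hB
    simp only [A, B, Finset.mem_filter] at hA hB
    exact ((hI _).1 hB.2).2 ((hcomm p hA.1).1 hA.2.2)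
  have hA : A.card = I.card * a := by
    rw [show I.card * a = ∑ _u ∈ I, a by rw [Finset.sum_const, smul_eq_mul]]
    rw [Finset.card_eq_sum_card_fiberwise (f := Prod.fst) (t := I)
      (fun p hp => (hmem p (Finset.mem_filter.1 hp).1).1)]
    refine Finset.sum_congr rfl fun u hu => ?_
    have e : (A.filter fun p => p.1 = u).card = ((I.filter fun d => u * d = d * u).erase u).card := by
      refine Finset.card_nbij' Prod.snd (fun d => (u, d)) ?_ ?_ ?_ ?_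
      · intro p hp
        simp only [A, hP, Finset.coe_filter, Finset.mem_filter, Finset.mem_product, Set.mem_setOf_eq] at hp
        simp only [Finset.coe_erase, Set.mem_diff, Set.mem_singleton_iff, Finset.coe_filter, Set.mem_setOf_eq]
        obtain ⟨⟨⟨-, h2⟩, hne, hc⟩, rfl⟩ := hp
        exact ⟨⟨h2, hc⟩, Ne.symm hne⟩
      · intro d hd
        simp only [Finset.coe_erase, Set.mem_diff, Set.mem_singleton_iff, Finset.coe_filter, Set.mem_setOf_eq] at hd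
        simp only [A, hP, Finset.coe_filter, Finset.mem_filter, Finset.mem_product, Set.mem_setOf_eq]
        exact ⟨⟨⟨hu, hd.1.1⟩, Ne.symm hd.2, hd.1.2⟩, trivial⟩
      · intro p hp
        simp only [Finset.coe_filter, Set.mem_setOf_eq] at hp
        rw [← hp.2]
      · intro d _; rfl
    rw [e, Finset.card_erase_of_mem (Finset.mem_filter.2 ⟨hu, rfl⟩ : u ∈ I.filter fun d => u * d = d * u), ha u hu]
    omega
  have hB : B.card = I.card * b := by
    rw [show I.card * b = ∑ _u ∈ I, b by rw [Finset.sum_const, smul_eq_mul]]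
    rw [Finset.card_eq_sum_card_fiberwise (s := B) (f := fun p : X × X => (p.1 * p.2) * (p.1 * p.2)) (t := I)
      (fun p hp => (Finset.mem_filter.1 hp).2)]
    refine Finset.sum_congr rfl fun s hs => ?_
    rw [← hb s hs, Finset.filter_filter]
    exact congrArg Finset.card (Finset.filter_congr fun p _ => ⟨fun h => h.2, fun h => ⟨h ▸ hs, h⟩⟩)
  have h := Finset.card_filter_add_card_filter_not (s := P) (fun p => Odd (orderOf (p.1 * p.2)))
  rw [hsplit, Finset.card_union_of_disjoint hdisj, hA, hB] at h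
  rw [Nat.mul_add]
  exact h

theorem zpowers_pair {X : Type*} [Group X] {w u v : X} (hu : u * u = 1) (hv : v * v = 1) (hw : w * w = 1)
    (hm : w ∈ zpowers (u * v)) : Commute w u ∧ Commute w v := by
  obtain ⟨i, hi⟩ := hm
  have hinv : u * (u * v) * u⁻¹ = (u * v)⁻¹ := by
    rw [mul_inv_rev, inv_eq_of_mul_eq_one_right hu, inv_eq_of_mul_eq_one_right hv, ← mul_assoc, hu,
      one_mul]
  have hi' : (u * v) ^ i = w := hi
  have h1 : u * w * u⁻¹ = w := by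
    rw [← hi', ← conj_zpow, hinv, inv_zpow, hi', inv_eq_of_mul_eq_one_right hw]
  have hwu : Commute w u := (mul_inv_eq_iff_eq_mul.1 h1).symm
  have hwuv : Commute w (u * v) := by rw [← hi']; exact Commute.zpow_self _ _
  have hv' : v = u⁻¹ * (u * v) := by group
  exact ⟨hwu, hv' ▸ hwu.inv_right.mul_right hwuv⟩

namespace Base

variable {K : Coord z Q 1} {x g : G} (S : Base K x g)
include S

theorem par_sigma {t l : G} {q : W × W} (ht : S.Typ t) (hl : S.Par l q) (hq : TP q) (hA : Ax q) (h1 : l ≠ 1) :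
    IsConj z l ∧ l * t = t * l :=
  ⟨S.ax_conj hl hA h1, (mem_Sg.1 (S.mem_Sg_par ht hl (AP_CP q (Or.inl hq)))).2⟩

theorem Tg_le_of_sigma {t : G} (ht : S.Typ t) (M : Subgroup G)
    (hM : ∀ l, IsConj z l → l * t = t * l → l ∈ M) : S.Tg ≤ M := by
  rintro n ⟨p, hp, hn⟩
  obtain ⟨a, b, ha, hA, hb, hB, rfl⟩ := two_axes p hp
  obtain ⟨na, hna⟩ := S.par_exists a
  obtain ⟨nb, hnb⟩ := S.par_exists b
  obtain ⟨i, j, rfl⟩ := S.par_eq (S.par_mul hna hnb) hn
  have mem : ∀ {l : G} {q : W × W}, S.Par l q → TP q → Ax q → l ∈ M := fun {l q} hl hq hQ => by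
    by_cases h1 : l = 1
    · exact h1 ▸ one_mem M
    · obtain ⟨e1, e2⟩ := S.par_sigma ht hl hq hQ h1
      exact hM l e1 e2
  exact mul_mem (mul_mem (mem hna ha hA) (mem hnb hb hB)) (mem (S.par_el i j) zero_TP (by decide +kernel))

theorem card_tg_inv : Nat.card {n : G // n ∈ S.Tg ∧ n * n = 1 ∧ n ≠ 1} = 27 := by
  classical
  have h := S.card_par (fun p : W × W => TP p ∧ Ax p)
  rw [CP_sets.2.2.2] at h
  have : Fintype G := Fintype.ofFinite G
  have e : (Finset.univ.filter fun n : G => n ∈ S.Tg ∧ n * n = 1 ∧ n ≠ 1) =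
      (Finset.univ.filter fun n : G => ∃ p, (TP p ∧ Ax p) ∧ S.Par n p).erase 1 := by
    ext n
    simp only [Finset.mem_filter, Finset.mem_univ, true_and, Finset.mem_erase, S.mem_Tg]
    constructor
    · rintro ⟨⟨p, hp, hn⟩, h2, h1⟩
      obtain ⟨s1, s2⟩ := (S.par_sq_one hn).1 h2
      exact ⟨h1, p, ⟨hp, (inv_cases p s1 s2).resolve_right (TP_not_An p hp)⟩, hn⟩
    · rintro ⟨h1, p, ⟨hp, hA⟩, hn⟩
      exact ⟨⟨p, hp, hn⟩, (S.par_sq_one hn).2 (ax_sq p hA), h1⟩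
  rw [Nat.card_eq_fintype_card, Fintype.card_subtype] at h ⊢
  rw [e, Finset.card_erase_of_mem (Finset.mem_filter.2
    ⟨Finset.mem_univ _, (0 : W × W), ⟨zero_TP, by decide +kernel⟩, S.par_one⟩), h]

theorem card_tg_four :
    Nat.card {p : G × G // (p.1 ∈ S.Tg ∧ p.1 * p.1 = 1 ∧ p.1 ≠ 1) ∧ (p.2 ∈ S.Tg ∧ p.2 * p.2 = 1 ∧ p.2 ≠ 1) ∧
      p.1 * p.2 * (p.1 * p.2) = z} = 96 := by
  classical
  choose f hf using S.par_exists
  let P : (W × W) × (W × W) → Prop := fun p =>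
    (TP p.1 ∧ Ax p.1) ∧ (TP p.2 ∧ Ax p.2) ∧ beta1 p.1 p.2 = 1 ∧ beta2 p.1 p.2 = 0
  have hz : S.el 1 0 = z := by simp [el]
  have hlift : ∀ (p : W × W) (a : ZMod 2 × ZMod 2), S.Par (f p * S.el a.1 a.2) p := fun p a => by
    simpa using S.par_mul (hf p) (S.par_el a.1 a.2)
  have hne : ∀ {n n' : G} {p p' : W × W}, S.Par n p → S.Par n' p' → beta1 p p' = 1 → n ≠ 1 ∧ n' ≠ 1 := by
    intro n n' p p' h h' hb
    constructor <;> rintro rfl
    · obtain rfl := S.par_unique h S.par_one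
      simp [beta1, BW] at hb
    · obtain rfl := S.par_unique h' S.par_one
      simp [beta1, BW] at hb
  have hsq : ∀ {n n' : G} {p p' : W × W}, S.Par n p → S.Par n' p' → n * n = 1 → n' * n' = 1 →
      n * n' * (n * n') = S.el (beta1 p p') (beta2 p p') := by
    intro n n' p p' h h' e e'
    rw [S.par_sq (S.par_mul h h'), (beta_sum p p').1, (beta_sum p p').2, ((S.par_sq_one h).1 e).1,
      ((S.par_sq_one h).1 e).2, ((S.par_sq_one h').1 e').1, ((S.par_sq_one h').1 e').2]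
    simp
  have e : Nat.card (((ZMod 2 × ZMod 2) × (ZMod 2 × ZMod 2)) × {p // P p}) = 96 := by
    rw [Nat.card_prod, Nat.card_prod, Nat.card_prod, Nat.card_zmod, Nat.card_eq_fintype_card,
      Fintype.card_subtype, pair_count]
  rw [← e]
  refine (Nat.card_eq_of_bijective (fun d : ((ZMod 2 × ZMod 2) × (ZMod 2 × ZMod 2)) × {p // P p} =>
    (⟨(f d.2.1.1 * S.el d.1.1.1 d.1.1.2, f d.2.1.2 * S.el d.1.2.1 d.1.2.2), ?_⟩ :
      {p : G × G // (p.1 ∈ S.Tg ∧ p.1 * p.1 = 1 ∧ p.1 ≠ 1) ∧ (p.2 ∈ S.Tg ∧ p.2 * p.2 = 1 ∧ p.2 ≠ 1) ∧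
      p.1 * p.2 * (p.1 * p.2) = z})) ⟨?_, ?_⟩).symm
  · obtain ⟨⟨a, b⟩, ⟨p, p'⟩, ⟨hp, hA⟩, ⟨hp', hA'⟩, hb1, hb2⟩ := d
    have h := hlift p a
    have h' := hlift p' b
    have e1 := (S.par_sq_one h).2 (ax_sq p hA)
    have e2 := (S.par_sq_one h').2 (ax_sq p' hA')
    obtain ⟨n1, n2⟩ := hne h h' hb1
    exact ⟨⟨⟨p, hp, h⟩, e1, n1⟩, ⟨⟨p', hp', h'⟩, e2, n2⟩, by rw [hsq h h' e1 e2, hb1, hb2, hz]⟩
  · rintro ⟨⟨a, b⟩, ⟨p, p'⟩, hP⟩ ⟨⟨a', b'⟩, ⟨q, q'⟩, hP'⟩ h
    have h1 : f p * S.el a.1 a.2 = f q * S.el a'.1 a'.2 := congrArg (fun w => w.1.1) h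
    have h2 : f p' * S.el b.1 b.2 = f q' * S.el b'.1 b'.2 := congrArg (fun w => w.1.2) h
    obtain rfl := S.par_unique (hlift p a) (h1 ▸ hlift q a')
    obtain rfl := S.par_unique (hlift p' b) (h2 ▸ hlift q' b')
    obtain ⟨r1, r2⟩ := S.el_inj (mul_left_cancel h1)
    obtain ⟨r3, r4⟩ := S.el_inj (mul_left_cancel h2)
    exact Prod.ext (Prod.ext (Prod.ext r1 r2) (Prod.ext r3 r4)) rfl
  · rintro ⟨⟨n, n'⟩, ⟨⟨p, hp, hn⟩, e1, -⟩, ⟨⟨p', hp', hn'⟩, e2, -⟩, e3⟩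
    have hA := (inv_cases p ((S.par_sq_one hn).1 e1).1 ((S.par_sq_one hn).1 e1).2).resolve_right (TP_not_An p hp)
    have hA' := (inv_cases p' ((S.par_sq_one hn').1 e2).1 ((S.par_sq_one hn').1 e2).2).resolve_right (TP_not_An p' hp')
    rw [hsq hn hn' e1 e2] at e3
    obtain ⟨hb1, hb2⟩ := S.el_inj (e3.trans hz.symm)
    obtain ⟨i, j, hi⟩ := S.par_eq (hf p) hn
    obtain ⟨i', j', hi'⟩ := S.par_eq (hf p') hn'
    exact ⟨(((i, j), (i', j')), ⟨(p, p'), ⟨hp, hA⟩, ⟨hp', hA'⟩, hb1, hb2⟩),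
      Subtype.ext (Prod.ext hi.symm hi'.symm)⟩

namespace LData

variable {S} {t : G} {L : Subgroup G} (D : S.LData t L) (ht : S.Typ t)
include D ht

omit ht in
theorem comm_t {l : G} (hl : l ∈ L) : l * t = t * l := mem_centralizer_singleton_iff.1 (D.le hl)

theorem conj_into_Tg {P : Subgroup ↥L} (hP : IsPGroup 2 P) :
    ∃ a : ↥L, ∀ n ∈ P, ((a * n * a⁻¹ : ↥L) : G) ∈ S.Tg := by
  have : Fact (Nat.Prime 2) := ⟨Nat.prime_two⟩
  obtain ⟨m, hm, hc⟩ := D.two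
  have hfac : (Nat.card L).factorization 2 = 6 := by
    rw [hc, Nat.factorization_mul (by positivity) (by rintro rfl; exact absurd hm (by decide)),
      Finsupp.add_apply, Nat.prime_two.factorization_pow, Finsupp.single_eq_same,
      Nat.factorization_eq_zero_of_not_dvd (by rw [← even_iff_two_dvd, Nat.not_even_iff_odd]; exact hm),
      add_zero]
  let T' : Sylow 2 L := Sylow.ofCard (S.Tg.subgroupOf L) (by
    rw [Nat.card_congr (subgroupOfEquivOfLe D.tg).toEquiv, S.card_Tg, hfac]; norm_num)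
  obtain ⟨R, hR⟩ := hP.exists_le_sylow
  obtain ⟨a, ha⟩ := MulAction.exists_smul_eq L R T'
  refine ⟨a, fun n hn => ?_⟩
  have h1 : a * n * a⁻¹ ∈ ((a • R : Sylow 2 L) : Subgroup L) := by
    rw [Sylow.coe_subgroup_smul, mem_pointwise_smul_iff_inv_smul_mem]
    have := hR hn
    simpa [mul_assoc] using this
  rw [ha] at h1
  have h2 : a * n * a⁻¹ ∈ S.Tg.subgroupOf L := by rwa [Sylow.coe_ofCard] at h1
  exact h2

theorem invol_conj {l : G} (hl : l ∈ L) (h2 : l * l = 1) (h1 : l ≠ 1) :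
    IsConj z l ∧ ∃ a ∈ L, a * z * a⁻¹ = l := by
  have hp : IsPGroup 2 (zpowers (⟨l, hl⟩ : L)) := by
    refine IsPGroup.of_card (n := 1) ?_
    rw [Nat.card_zpowers, pow_one]
    exact orderOf_eq_prime (by rw [pow_two]; exact Subtype.ext h2) fun e => h1 (congrArg Subtype.val e)
  obtain ⟨a, ha⟩ := D.conj_into_Tg ht hp
  obtain ⟨p, hp', hn⟩ := ha _ (mem_zpowers _)
  have e2 : ((a : G) * l * (a : G)⁻¹) * ((a : G) * l * (a : G)⁻¹) = 1 := conj_sq_one h2
  obtain ⟨s1, s2⟩ := (S.par_sq_one hn).1 e2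
  have hz : IsConj z l := (S.ax_conj hn ((inv_cases p s1 s2).resolve_right (TP_not_An p hp'))
    fun e => h1 (conj_eq_one_iff.1 e)).trans (isConj_iff.2 ⟨(a : G)⁻¹, by simp [mul_assoc]⟩)
  exact ⟨hz, D.trans l hz (D.comm_t hl)⟩

theorem cent_z {n : G} (hn : n ∈ L) (hz : n * z = z * n) : n ∈ S.Tg := by
  have : Fact (Nat.Prime 2) := ⟨Nat.prime_two⟩
  let M := L ⊓ Sg z t
  have hle : S.Tg ≤ M := le_inf D.tg (S.Tg_le.trans (S.Ag_le_Sg ht))
  obtain ⟨m, hm, hc⟩ := D.two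
  have h2 : Nat.card M ∣ 2 ^ 9 := (card_dvd_of_le (inf_le_right : M ≤ Sg z t)).trans (by rw [S.card_Sg ht]; norm_num)
  obtain ⟨k, -, hk⟩ := (Nat.dvd_prime_pow Nat.prime_two).1 h2
  have h3 : Nat.card M ∣ 2 ^ 6 * m := hc ▸ card_dvd_of_le (inf_le_left : M ≤ L)
  rw [hk] at h3
  have h4 := Nat.le_of_dvd (by positivity) (((Nat.coprime_two_left.2 hm).pow_left k).dvd_of_dvd_mul_right h3)
  rw [eq_of_le_of_card_ge hle (by rw [S.card_Tg, hk]; exact h4)]
  exact ⟨hn, mem_Sg.2 ⟨hz, D.comm_t hn⟩⟩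

theorem cent_inv {s n : G} (hs : s ∈ L) (h2 : s * s = 1) (h1 : s ≠ 1) (hn : n ∈ L) (hc : n * s = s * n) :
    ∃ a ∈ L, a * z * a⁻¹ = s ∧ a⁻¹ * n * a ∈ S.Tg := by
  obtain ⟨-, a, ha, e⟩ := D.invol_conj ht hs h2 h1
  refine ⟨a, ha, e, D.cent_z ht (mul_mem (mul_mem (inv_mem ha) hn) ha) ?_⟩
  calc a⁻¹ * n * a * z = a⁻¹ * (n * (a * z * a⁻¹)) * a := by group
    _ = a⁻¹ * (a * z * a⁻¹ * n) * a := by rw [e, hc]
    _ = z * (a⁻¹ * n * a) := by group

theorem isCIT : IsCIT ↥L := by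
  intro s hs
  have h2 : (s : G) * s = 1 := by
    have := pow_orderOf_eq_one s
    rw [hs, pow_two] at this
    exact congrArg Subtype.val this
  have h1 : (s : G) ≠ 1 := fun e => by
    rw [show s = 1 from Subtype.ext e, orderOf_one] at hs
    omega
  intro n
  have hn : ((n : ↥L) : G) * s = s * (n : ↥L) := congrArg Subtype.val (mem_centralizer_singleton_iff.1 n.2)
  obtain ⟨a, -, -, ha⟩ := D.cent_inv ht s.2 h2 h1 (n : ↥L).2 hn
  refine ⟨6, Subtype.ext (Subtype.ext ?_)⟩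
  show ((n : ↥L) : G) ^ (2 ^ 6) = 1
  have e : (⟨_, ha⟩ : S.Tg) ^ (2 ^ 6) = 1 := by
    rw [show (2 : ℕ) ^ 6 = Nat.card S.Tg by rw [S.card_Tg]; norm_num]
    exact pow_card_eq_one'
  have e' := congrArg Subtype.val e
  simp only [SubmonoidClass.coe_pow, OneMemClass.coe_one] at e'
  have h := conj_pow (i := 2 ^ 6) (a := a⁻¹) (b := ((n : ↥L) : G))
  rw [inv_inv, e'] at h
  exact conj_eq_one_iff.1 (by rw [inv_inv]; exact h.symm : a⁻¹ * ((n : ↥L) : G) ^ (2 ^ 6) * a⁻¹⁻¹ = 1)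

omit ht in
theorem z_mem : z ∈ L := D.tg S.z_mem_Tg

theorem pPrime_bot : Cfsg.pPrimeCore 2 ↥L = ⊥ := by
  by_contra hne
  have hx : orderOf (⟨x, D.tg S.x_mem_Tg⟩ : L) = 2 :=
    orderOf_eq_prime (by rw [pow_two]; exact Subtype.ext S.xx) fun e => S.x_ne.1 (congrArg Subtype.val e)
  have hz : orderOf (⟨z, D.z_mem⟩ : L) = 2 :=
    orderOf_eq_prime (by rw [pow_two]; exact Subtype.ext S.hyp.extra.sq_one)
      fun e => S.hyp.extra.ne_one (congrArg Subtype.val e)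
  exact S.x_ne.2 (congrArg Subtype.val ((D.isCIT ht).eq_of_commute_involutions hne hx hz (Subtype.ext S.xz)))

theorem pCore_bot : Cfsg.pCore 2 ↥L = ⊥ := by
  have : Fact (Nat.Prime 2) := ⟨Nat.prime_two⟩
  by_contra hne
  set N := Cfsg.pCore 2 ↥L
  have hN2 : IsPGroup 2 N := CfsgLib.PCore.pCore_isPGroup
  obtain ⟨w, hw, hw1⟩ := (Subgroup.bot_or_exists_ne_one N).resolve_left hne
  obtain ⟨s, hs, hs2⟩ := exists_involution_zpowers (isTwo_of_mem hN2 hw) hw1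
  have hsN : s ∈ N := zpowers_le.2 hw hs
  have h2 : (s : G) * s = 1 := by
    have := pow_orderOf_eq_one s
    rw [hs2, pow_two] at this
    exact congrArg Subtype.val this
  have h1 : (s : G) ≠ 1 := fun e => by
    rw [show s = 1 from Subtype.ext e, orderOf_one] at hs2
    omega
  obtain ⟨-, a, ha, hz⟩ := D.invol_conj ht s.2 h2 h1
  have hNn : N.Normal := inferInstance
  have hzN : (⟨z, D.z_mem⟩ : L) ∈ N := by
    have := hNn.conj_mem s hsN ⟨a⁻¹, inv_mem ha⟩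
    convert this using 1
    refine Subtype.ext ?_
    show z = a⁻¹ * s * a⁻¹⁻¹
    rw [← hz]; group
  have hsig : S.Tg ≤ N.map L.subtype := S.Tg_le_of_sigma ht _ fun l hl hlt => by
    obtain ⟨b, hb, rfl⟩ := D.trans l hl hlt
    exact ⟨_, hNn.conj_mem _ hzN ⟨b, hb⟩, rfl⟩
  obtain ⟨b, hb⟩ := D.conj_into_Tg ht hN2
  have hNT : ∀ n ∈ N, (n : G) ∈ S.Tg := fun n hn => by
    have := hb (b⁻¹ * n * b⁻¹⁻¹) (hNn.conj_mem n hn b⁻¹)
    rwa [show b * (b⁻¹ * n * b⁻¹⁻¹) * b⁻¹ = n by group] at this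
  obtain ⟨p, hpT, hpA, hp0⟩ := moving_axis
  obtain ⟨l, hl⟩ := S.par_exists p
  have hl1 : l ≠ 1 := fun e => hp0 (S.par_unique (e ▸ hl) S.par_one)
  obtain ⟨e1, e2⟩ := S.par_sigma ht hl hpT hpA hl1
  obtain ⟨c, hc, hcl⟩ := D.trans l e1 e2
  refine hp0 (two_centre p hpT hpA fun d hd => ?_)
  obtain ⟨n, hn⟩ := S.par_exists d
  obtain ⟨m, hm, hm'⟩ := hsig ⟨d, hd, hn⟩
  have h3 := hNT _ (hNn.conj_mem m hm ⟨c⁻¹, inv_mem hc⟩)
  have h4 := (mem_Sg.1 (S.Ag_le_Sg ht (S.Tg_le h3))).1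
  refine (S.par_commute_iff hl hn).1 ?_
  have h5 : c⁻¹ * n * c * z = z * (c⁻¹ * n * c) := by
    simpa [← hm', mul_assoc] using h4
  rw [← hcl]
  calc c * z * c⁻¹ * n = c * (z * (c⁻¹ * n * c)) * c⁻¹ := by group
    _ = c * (c⁻¹ * n * c * z) * c⁻¹ := by rw [h5]
    _ = n * (c * z * c⁻¹) := by group

theorem four_config : ∃ V A : Subgroup ↥L, FourConfig V A := by
  classical
  have : Nontrivial ↥L := ⟨⟨⟨z, D.z_mem⟩, 1, fun e => S.hyp.extra.ne_one (congrArg Subtype.val e)⟩⟩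
  have hX := D.isCIT ht
  have h2 := D.pCore_bot ht
  have hO := D.pPrime_bot ht
  have hS : Smaller ↥L := fun R _ _ _ hR hR2 hRO hRn => by
    haveI := hRn
    exact shapeAny_of_steps kleinStep countStep hR hR2 hRO
  rcases configuration hX hS h2 hO with ⟨M, H, h⟩ | ⟨V, hV4, hVe, hVc, -⟩ | ⟨V, A, T, F, i1, i2, h⟩
  · exfalso
    obtain ⟨s, -, hsM, -, hs, -, -⟩ := h.many
    have hs2 : (s : G) * s = 1 := by
      have := pow_orderOf_eq_one s
      rw [hs, pow_two] at this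
      exact congrArg Subtype.val this
    have hs1 : (s : G) ≠ 1 := fun e => by
      rw [show s = 1 from Subtype.ext e, orderOf_one] at hs
      omega
    obtain ⟨-, a, ha, hz⟩ := D.invol_conj ht s.2 hs2 hs1
    obtain ⟨p, q, hp, hpA, hq, hqA, hb1, -⟩ := comm_pair
    obtain ⟨n, hn⟩ := S.par_exists p
    obtain ⟨n', hn'⟩ := S.par_exists q
    have key : ∀ {w : G} {d : W × W}, S.Par w d → TP d → Ax d → w ≠ 1 →
        ∃ w' : ↥L, (w' : G) = a * w * a⁻¹ ∧ w' ∈ H ∧ orderOf w' = 2 := by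
      intro w d hw hd hA hw1
      have hwT : w ∈ S.Tg := ⟨d, hd, hw⟩
      refine ⟨⟨a * w * a⁻¹, mul_mem (mul_mem ha (D.tg hwT)) (inv_mem ha)⟩, rfl, h.cent s (h.two s hsM hs)
        (fun e => hs1 (congrArg Subtype.val e)) _ (Subtype.ext ?_), orderOf_eq_prime ?_ ?_⟩
      · show a * w * a⁻¹ * s = s * (a * w * a⁻¹)
        rw [← hz, show a * w * a⁻¹ * (a * z * a⁻¹) = a * (w * z) * a⁻¹ by group, (S.par_comm hw).1]; group
      · rw [pow_two]
        exact Subtype.ext (conj_sq_one ((S.par_sq_one hw).2 (ax_sq d hA)))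
      · exact fun e => hw1 (conj_eq_one_iff.1 (congrArg Subtype.val e))
    have hne : n ≠ 1 ∧ n' ≠ 1 := by
      constructor <;> rintro rfl
      · obtain rfl := S.par_unique hn S.par_one
        simp [beta1, BW] at hb1
      · obtain rfl := S.par_unique hn' S.par_one
        simp [beta1, BW] at hb1
    obtain ⟨w, hw, hwH, hwo⟩ := key hn hp hpA hne.1
    obtain ⟨w', hw', hwH', -⟩ := key hn' hq hqA hne.2
    have hcomm := congrArg Subtype.val (TI.central h hwo (h.le hwH) w' hwH').eq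
    simp only [Subgroup.coe_mul, hw, hw'] at hcomm
    rw [show a * n * a⁻¹ * (a * n' * a⁻¹) = a * (n * n') * a⁻¹ by group,
      show a * n' * a⁻¹ * (a * n * a⁻¹) = a * (n' * n) * a⁻¹ by group, mul_left_inj, mul_right_inj] at hcomm
    rw [((S.par_commute_iff hn hn').1 hcomm).1] at hb1
    exact zero_ne_one hb1
  · exfalso
    have hV2 : IsPGroup 2 V := IsPGroup.of_card (n := 2) (by rw [hV4]; norm_num)
    obtain ⟨a, ha⟩ := D.conj_into_Tg ht hV2
    have hEV : ∀ i j, ∀ hm : S.el i j ∈ L, a⁻¹ * (⟨S.el i j, hm⟩ : L) * a ∈ V := fun i j hm => by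
      refine hVc (mem_centralizer_iff.2 fun v hv => Subtype.ext ?_)
      obtain ⟨p, -, hp⟩ := ha v hv
      have e := S.par_comm_el hp i j
      show ((v : G)) * ((a : G)⁻¹ * S.el i j * a) = (a : G)⁻¹ * S.el i j * a * v
      calc (v : G) * ((a : G)⁻¹ * S.el i j * a) = (a : G)⁻¹ * ((a : G) * v * (a : G)⁻¹ * S.el i j) * a := by group
        _ = (a : G)⁻¹ * (S.el i j * ((a : G) * v * (a : G)⁻¹)) * a := by
          rw [show ((a * v * a⁻¹ : L) : G) = (a : G) * v * (a : G)⁻¹ from rfl] at e; rw [e]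
        _ = (a : G)⁻¹ * S.el i j * a * v := by group
    have helL : ∀ i j, S.el i j ∈ L := fun i j => D.tg ⟨0, zero_TP, S.par_el i j⟩
    let f : ZMod 2 × ZMod 2 → V := fun d => ⟨_, hEV d.1 d.2 (helL d.1 d.2)⟩
    have hf : Function.Bijective f := by
      refine (Nat.bijective_iff_injective_and_card f).2 ⟨fun d d' e => ?_, by rw [hV4, Nat.card_prod, Nat.card_zmod]⟩
      have e' := congrArg Subtype.val e
      simp only [f, mul_left_inj, mul_right_inj] at e'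
      obtain ⟨r1, r2⟩ := S.el_inj (congrArg Subtype.val e')
      exact Prod.ext r1 r2
    obtain ⟨p, hp, hpA, hp0⟩ := moving_axis
    obtain ⟨n, hn⟩ := S.par_exists p
    have hnL : n ∈ L := D.tg ⟨p, hp, hn⟩
    have hnV : a⁻¹ * (⟨n, hnL⟩ : L) * a ∈ V := by
      refine hVc (mem_centralizer_iff.2 fun v hv => ?_)
      obtain ⟨d, hd⟩ := hf.2 ⟨v, hv⟩
      have e : v = a⁻¹ * (⟨S.el d.1 d.2, helL d.1 d.2⟩ : L) * a := (congrArg Subtype.val hd).symm
      rw [e]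
      refine Subtype.ext ?_
      show (a : G)⁻¹ * S.el d.1 d.2 * a * ((a : G)⁻¹ * n * a) = (a : G)⁻¹ * n * a * ((a : G)⁻¹ * S.el d.1 d.2 * a)
      calc (a : G)⁻¹ * S.el d.1 d.2 * a * ((a : G)⁻¹ * n * a) = (a : G)⁻¹ * (S.el d.1 d.2 * n) * a := by group
        _ = _ := by rw [← S.par_comm_el hn]; group
    obtain ⟨d, hd⟩ := hf.2 ⟨_, hnV⟩
    have e := congrArg Subtype.val hd
    simp only [f, mul_left_inj, mul_right_inj] at e
    have e' : S.el d.1 d.2 = n := congrArg Subtype.val e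
    exact hp0 (S.par_unique hn (e' ▸ S.par_el d.1 d.2))
  · obtain ⟨-, hcfg⟩ := h.four hX
    exact ⟨_, _, hcfg⟩

theorem card_L : Nat.card L = 20160 := by
  obtain ⟨V, A, h⟩ := D.four_config ht
  exact countStep _ (D.isCIT ht) (D.pCore_bot ht) (D.pPrime_bot ht) _ _ h

theorem card_centralizer : Nat.card (centralizer ({t} : Set G)) = 161280 := by
  rw [D.card, D.card_L ht]

theorem card_cent_z_L : Nat.card (centralizer ({(⟨z, D.z_mem⟩ : L)} : Set ↥L)) = 64 := by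
  rw [← S.card_Tg]
  refine Nat.card_congr
    { toFun := fun n => ⟨((n : ↥L) : G), D.cent_z ht (n : ↥L).2
        (congrArg Subtype.val (mem_centralizer_singleton_iff.1 n.2))⟩
      invFun := fun n => ⟨⟨n, D.tg n.2⟩, mem_centralizer_singleton_iff.2
        (Subtype.ext (mem_Sg.1 (S.Ag_le_Sg ht (S.Tg_le n.2))).1)⟩
      left_inv := fun n => rfl
      right_inv := fun n => rfl }

theorem card_invol : Nat.card {u : ↥L // u * u = 1 ∧ u ≠ 1} = 315 := by
  let z' : ↥L := ⟨z, D.z_mem⟩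
  have h := (centralizer ({z'} : Set ↥L)).card_mul_index
  rw [D.card_cent_z_L ht, D.card_L ht] at h
  have e : Nat.card {u : ↥L // u * u = 1 ∧ u ≠ 1} = (centralizer ({z'} : Set ↥L)).index := by
    rw [Subgroup.index_eq_card]
    have hz2 : z' * z' = 1 := Subtype.ext S.hyp.extra.sq_one
    have hz1 : z' ≠ 1 := fun e => S.hyp.extra.ne_one (congrArg Subtype.val e)
    refine (Nat.card_congr (Equiv.ofBijective
      (fun q : ↥L ⧸ centralizer ({z'} : Set ↥L) => (⟨q.out * z' * q.out⁻¹, conj_sq_one hz2,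
        fun e => hz1 (conj_eq_one_iff.1 e)⟩ : {u : ↥L // u * u = 1 ∧ u ≠ 1})) ⟨?_, ?_⟩)).symm
    · intro q r he
      have e' : q.out * z' * q.out⁻¹ = r.out * z' * r.out⁻¹ := congrArg Subtype.val he
      rw [← q.out_eq', ← r.out_eq', QuotientGroup.eq, mem_centralizer_singleton_iff]
      calc q.out⁻¹ * r.out * z' = q.out⁻¹ * (r.out * z' * r.out⁻¹) * r.out := by group
        _ = _ := by rw [← e']; group
    · rintro ⟨y, hy2, hy1⟩
      obtain ⟨-, a, ha, he⟩ := D.invol_conj ht y.2 (congrArg Subtype.val hy2)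
        (fun e => hy1 (Subtype.ext e))
      obtain ⟨⟨c, hc⟩, hq⟩ := QuotientGroup.mk_out_eq_mul (centralizer ({z'} : Set ↥L)) (⟨a, ha⟩ : ↥L)
      refine ⟨(QuotientGroup.mk (⟨a, ha⟩ : ↥L) : ↥L ⧸ _), Subtype.ext ?_⟩
      show _ * z' * _⁻¹ = y
      rw [hq, mul_inv_rev, mul_assoc (⟨a, ha⟩ : ↥L) c z', mem_centralizer_singleton_iff.1 hc]
      refine Subtype.ext ?_
      show a * (z * c) * ((c : G)⁻¹ * a⁻¹) = y
      rw [← he]; group
  omega

theorem conj_t {d : G} (hd : d ∈ L) (h2 : d * d = 1) (h1 : d ≠ 1) : IsConj t (t * d) := by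
  obtain ⟨-, a, ha, e⟩ := D.invol_conj ht hd h2 h1
  have h := S.par_mul (S.typ_iff.1 ht) (S.par_el 1 0)
  rw [add_zero, show S.el 1 0 = z by simp [el]] at h
  obtain ⟨y, -, hy⟩ := S.typ_conj ht (S.typ_iff.2 h)
  refine isConj_iff.2 ⟨a * y, ?_⟩
  rw [show a * y * t * (a * y)⁻¹ = a * (y * t * y⁻¹) * a⁻¹ by group, hy, ← e,
    show a * (t * z) * a⁻¹ = (a * t) * z * a⁻¹ by group, D.comm_t ha]
  group

theorem pairs_t : Nat.card {p : G × G // IsConj z p.1 ∧ IsConj t p.2 ∧ t ∈ zpowers (p.1 * p.2)} = 60795 := by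
  classical
  have : Fintype G := Fintype.ofFinite G
  let I : Finset ↥L := Finset.univ.filter fun u => u * u = 1 ∧ u ≠ 1
  have hI : ∀ u, u ∈ I ↔ u * u = 1 ∧ u ≠ 1 := fun u => by simp [I]
  have hG : ∀ u ∈ I, (u : G) * u = 1 ∧ (u : G) ≠ 1 := fun u hu =>
    ⟨congrArg Subtype.val ((hI u).1 hu).1, fun e => ((hI u).1 hu).2 (Subtype.ext e)⟩
  have hIc : I.card = 315 := by
    rw [← D.card_invol ht, Nat.card_eq_fintype_card, Fintype.card_subtype]
  have hTL : ∀ {n : G}, n ∈ S.Tg → n * z = z * n := fun hn =>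
    (mem_Sg.1 (S.Ag_le_Sg ht (S.Tg_le hn))).1
  have hsix : ∀ u ∈ I, ∀ d ∈ I, Even (orderOf (u * d)) → (u * d) * (u * d) * ((u * d) * (u * d)) = 1 := by
    intro u hu d hd he
    obtain ⟨m, hm⟩ := he
    have hpos := orderOf_pos (u * d)
    have hs2 : (u * d) ^ m * (u * d) ^ m = 1 := by rw [← pow_add, ← hm, pow_orderOf_eq_one]
    have hs1 : (u * d) ^ m ≠ 1 := pow_ne_one_of_lt_orderOf (by omega) (by omega)
    obtain ⟨hsu, hsd⟩ := zpowers_pair ((hI u).1 hu).1 ((hI d).1 hd).1 hs2 (pow_mem (mem_zpowers _) m)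
    obtain ⟨a, haL, e, hau⟩ := D.cent_inv ht ((u * d) ^ m).2 (congrArg Subtype.val hs2)
      (fun e => hs1 (Subtype.ext e)) u.2 (congrArg Subtype.val hsu.symm.eq)
    have had : a⁻¹ * (d : G) * a ∈ S.Tg := by
      have this : (d : G) * (((u * d) ^ m : ↥L) : G) = (((u * d) ^ m : ↥L) : G) * (d : G) :=
        congrArg Subtype.val hsd.symm.eq
      refine D.cent_z ht (mul_mem (mul_mem (inv_mem haL) d.2) haL) ?_
      rw [← e] at this
      calc a⁻¹ * (d : G) * a * z = a⁻¹ * ((d : G) * (a * z * a⁻¹)) * a := by group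
        _ = a⁻¹ * (a * z * a⁻¹ * d) * a := by rw [this]
        _ = z * (a⁻¹ * d * a) := by group
    obtain ⟨p, -, hp⟩ := mul_mem hau had
    refine Subtype.ext ?_
    show (u : G) * d * ((u : G) * d) * ((u : G) * d * ((u : G) * d)) = 1
    have h := (S.par_sq_one (S.par_el (psq1 p) (psq2 p))).2 ⟨by decide +kernel, by decide +kernel⟩
    rw [← S.par_sq hp] at h
    have h' := congrArg (fun w => a * w * a⁻¹) h
    simp only [mul_one, mul_inv_cancel] at h'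
    rw [← h']; group
  have conjI : ∀ {a : G}, a ∈ L → ∀ {n : G}, n ∈ S.Tg → n * n = 1 → n ≠ 1 →
      ∃ u ∈ I, (u : G) = a * n * a⁻¹ := fun {a} ha {n} hn h2 h1 =>
    ⟨⟨a * n * a⁻¹, mul_mem (mul_mem ha (D.tg hn)) (inv_mem ha)⟩, (hI _).2
      ⟨Subtype.ext (conj_sq_one h2), fun e => h1 (conj_eq_one_iff.1 (congrArg Subtype.val e))⟩, rfl⟩
  have intoT : ∀ {a : G}, a ∈ L → ∀ u ∈ I, (u : G) * (a * z * a⁻¹) = a * z * a⁻¹ * u →
      a⁻¹ * (u : G) * a ∈ S.Tg ∧ a⁻¹ * (u : G) * a * (a⁻¹ * (u : G) * a) = 1 ∧ a⁻¹ * (u : G) * a ≠ 1 := by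
    intro a ha u hu hc
    refine ⟨D.cent_z ht (mul_mem (mul_mem (inv_mem ha) u.2) ha) ?_, ?_, ?_⟩
    · calc a⁻¹ * (u : G) * a * z = a⁻¹ * ((u : G) * (a * z * a⁻¹)) * a := by group
        _ = a⁻¹ * (a * z * a⁻¹ * u) * a := by rw [hc]
        _ = z * (a⁻¹ * u * a) := by group
    · simpa using conj_sq_one (c := a⁻¹) (hG u hu).1
    · exact fun e => (hG u hu).2 (conj_eq_one_iff.1 (by simpa using e : a⁻¹ * (u : G) * a⁻¹⁻¹ = 1))
  have ha : ∀ u ∈ I, (I.filter fun d => u * d = d * u).card = 26 + 1 := by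
    intro u hu
    obtain ⟨-, a, haL, e⟩ := D.invol_conj ht u.2 (hG u hu).1 (hG u hu).2
    rw [show (26 + 1 : ℕ) = Nat.card {n : G // n ∈ S.Tg ∧ n * n = 1 ∧ n ≠ 1} from S.card_tg_inv.symm,
      ← Nat.card_eq_finsetCard]
    refine Nat.card_eq_of_bijective (fun d => ⟨a⁻¹ * ((d : ↥L) : G) * a,
      intoT haL d.1 (Finset.mem_filter.1 d.2).1 (e ▸ (congrArg Subtype.val (Finset.mem_filter.1 d.2).2).symm)⟩)
      ⟨fun d d' h => ?_, fun ⟨n, hn, h2, h1⟩ => ?_⟩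
    · have h' : a⁻¹ * ((d : ↥L) : G) * a = a⁻¹ * ((d' : ↥L) : G) * a := congrArg Subtype.val h
      exact Subtype.ext (Subtype.ext (mul_left_cancel (mul_right_cancel h')))
    · obtain ⟨d, hd, hde⟩ := conjI haL hn h2 h1
      refine ⟨⟨d, Finset.mem_filter.2 ⟨hd, Subtype.ext ?_⟩⟩, Subtype.ext ?_⟩
      · show (u : G) * d = d * u
        rw [hde, ← e, show a * z * a⁻¹ * (a * n * a⁻¹) = a * (z * n) * a⁻¹ by group, ← hTL hn]; group
      · show a⁻¹ * (d : G) * a = n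
        rw [hde]; group
  have hb : ∀ s ∈ I, ((I ×ˢ I).filter fun p => (p.1 * p.2) * (p.1 * p.2) = s).card = 96 := by
    intro s hs
    obtain ⟨-, a, haL, e⟩ := D.invol_conj ht s.2 (hG s hs).1 (hG s hs).2
    rw [← S.card_tg_four, ← Nat.card_eq_finsetCard]
    have hp : ∀ p ∈ (I ×ˢ I).filter (fun p => (p.1 * p.2) * (p.1 * p.2) = s),
        (p.1 ∈ I ∧ p.2 ∈ I) ∧ ((p.1 : G) * (a * z * a⁻¹) = a * z * a⁻¹ * p.1 ∧
          (p.2 : G) * (a * z * a⁻¹) = a * z * a⁻¹ * p.2) ∧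
          a⁻¹ * (p.1 : G) * a * (a⁻¹ * p.2 * a) * (a⁻¹ * (p.1 : G) * a * (a⁻¹ * p.2 * a)) = z := by
      intro p hp
      obtain ⟨hp, hps⟩ := Finset.mem_filter.1 hp
      obtain ⟨h1, h2⟩ := Finset.mem_product.1 hp
      obtain ⟨c1, c2⟩ := zpowers_pair (hG _ h1).1 (hG _ h2).1 (hG s hs).1
        (show (s : G) ∈ zpowers ((p.1 : G) * p.2) from
          (congrArg Subtype.val hps : _ = (s : G)) ▸ mul_mem (mem_zpowers _) (mem_zpowers _))
      rw [← e] at c1 c2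
      refine ⟨⟨h1, h2⟩, ⟨c1.symm.eq, c2.symm.eq⟩, ?_⟩
      have h3 : (p.1 : G) * p.2 * ((p.1 : G) * p.2) = a * z * a⁻¹ := (congrArg Subtype.val hps).trans e.symm
      calc _ = a⁻¹ * ((p.1 : G) * p.2 * ((p.1 : G) * p.2)) * a := by group
        _ = z := by rw [h3]; group
    refine Nat.card_eq_of_bijective (fun p => ⟨(a⁻¹ * ((p : ↥L × ↥L).1 : G) * a, a⁻¹ * ((p : ↥L × ↥L).2 : G) * a),
      intoT haL _ (hp p.1 p.2).1.1 (hp p.1 p.2).2.1.1, intoT haL _ (hp p.1 p.2).1.2 (hp p.1 p.2).2.1.2,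
      (hp p.1 p.2).2.2⟩) ⟨fun p p' h => ?_, fun ⟨⟨n, n'⟩, ⟨hn, h2, h1⟩, ⟨hn', h2', h1'⟩, hz⟩ => ?_⟩
    · have e1 := congrArg (fun w => w.1.1) h
      have e2 := congrArg (fun w => w.1.2) h
      simp only [mul_left_inj, mul_right_inj] at e1 e2
      exact Subtype.ext (Prod.ext (Subtype.ext e1) (Subtype.ext e2))
    · obtain ⟨d, hd, hde⟩ := conjI haL hn h2 h1
      obtain ⟨d', hd', hde'⟩ := conjI haL hn' h2' h1'
      refine ⟨⟨(d, d'), Finset.mem_filter.2 ⟨Finset.mem_product.2 ⟨hd, hd'⟩, Subtype.ext ?_⟩⟩, Subtype.ext ?_⟩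
      · show (d : G) * d' * ((d : G) * d') = s
        rw [hde, hde', ← e, ← hz]; group
      · show (a⁻¹ * (d : G) * a, a⁻¹ * (d' : G) * a) = (n, n')
        rw [hde, hde']
        exact Prod.ext (by group) (by group)
  have hcount := card_pairs_inv I hI hsix ha hb
  rw [hIc] at hcount
  suffices Nat.card {p : G × G // IsConj z p.1 ∧ IsConj t p.2 ∧ t ∈ zpowers (p.1 * p.2)} =
      ((I ×ˢ I).filter fun p => Odd (orderOf (p.1 * p.2))).card by omega
  rw [← Nat.card_eq_finsetCard]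
  have ht2 := S.typ_sq ht
  have htL : ∀ {w : G}, w ∈ L → Commute t w := fun hw => (D.comm_t hw).symm
  have hto : ∀ {w : G}, ∀ k, Odd k → Commute t w → (t * w) ^ k = t * w ^ k := by
    rintro w k ⟨j, rfl⟩ hc
    rw [hc.mul_pow, pow_succ t, pow_mul, pow_two, ht2, one_pow, one_mul]
  refine (Nat.card_eq_of_bijective (fun p : ↥((I ×ˢ I).filter fun p => Odd (orderOf (p.1 * p.2))) =>
    (⟨(((p : ↥L × ↥L).1 : G), t * ((p : ↥L × ↥L).2 : G)), ?_⟩ :
      {p : G × G // IsConj z p.1 ∧ IsConj t p.2 ∧ t ∈ zpowers (p.1 * p.2)})) ⟨?_, ?_⟩).symm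
  · obtain ⟨hp, ho⟩ := Finset.mem_filter.1 p.2
    obtain ⟨h1, h2⟩ := Finset.mem_product.1 hp
    refine ⟨(D.invol_conj ht (p : ↥L × ↥L).1.2 (hG _ h1).1 (hG _ h1).2).1,
      D.conj_t ht (p : ↥L × ↥L).2.2 (hG _ h2).1 (hG _ h2).2, ?_⟩
    have e := congrArg Subtype.val (pow_orderOf_eq_one ((p : ↥L × ↥L).1 * (p : ↥L × ↥L).2))
    have e2 : (((p : ↥L × ↥L).1 : G) * (t * ((p : ↥L × ↥L).2 : G))) ^
        orderOf ((p : ↥L × ↥L).1 * (p : ↥L × ↥L).2) = t := by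
      rw [← mul_assoc, ← (htL (p : ↥L × ↥L).1.2).eq, mul_assoc,
        hto _ ho (htL (mul_mem (p : ↥L × ↥L).1.2 (p : ↥L × ↥L).2.2))]
      simp only [SubmonoidClass.coe_pow, Subgroup.coe_mul, OneMemClass.coe_one] at e
      rw [e, mul_one]
    have e3 := pow_mem (mem_zpowers (((p : ↥L × ↥L).1 : G) * (t * ((p : ↥L × ↥L).2 : G))))
      (orderOf ((p : ↥L × ↥L).1 * (p : ↥L × ↥L).2))
    rw [e2] at e3
    exact e3
  · intro p q hpq
    have h1 := congrArg (fun x => x.1.1) hpq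
    have h2 := congrArg (fun x => x.1.2) hpq
    simp only [mul_right_inj] at h1 h2
    exact Subtype.ext (Prod.ext (Subtype.ext h1) (Subtype.ext h2))
  · rintro ⟨⟨u, v⟩, hu, hv, hm⟩
    have hu2 : u * u = 1 := S.sq_of_conj hu
    have hv2 : v * v = 1 := by
      obtain ⟨c, rfl⟩ := isConj_iff.1 hv
      exact conj_sq_one ht2
    obtain ⟨htu, htv⟩ := zpowers_pair hu2 hv2 ht2 hm
    have huL := D.sigma u hu htu.eq.symm
    have hvuv : v * u * v ∈ L := D.sigma _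
      (hu.trans (isConj_iff.2 ⟨v, by rw [inv_eq_of_mul_eq_one_right hv2]⟩))
      ((htv.mul_right htu).mul_right htv).eq.symm
    have hsq : (u * v) ^ 2 ∈ L := by
      rw [pow_two, show u * v * (u * v) = u * (v * u * v) by group]; exact mul_mem huL hvuv
    rw [← mem_powers_iff_mem_zpowers] at hm
    obtain ⟨k, hk⟩ := hm
    change (u * v) ^ k = t at hk
    have hodd : Odd k := by
      rw [← Nat.not_even_iff_odd]
      rintro ⟨j, rfl⟩
      exact D.not_t (hk ▸ by rw [← two_mul, pow_mul]; exact pow_mem hsq j)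
    obtain ⟨j, hj⟩ := hodd
    obtain ⟨w, hw, hwe⟩ : ∃ w ∈ L, w * (u * v) = t :=
      ⟨_, pow_mem hsq j, by rw [← pow_mul, ← pow_succ, ← hj, hk]⟩
    obtain ⟨d, hd, hde⟩ : ∃ d ∈ L, v = t * d := by
      refine ⟨u⁻¹ * w⁻¹, mul_mem (inv_mem huL) (inv_mem hw), ?_⟩
      rw [(htL (mul_mem (inv_mem huL) (inv_mem hw))).eq, ← hwe]; group
    have hd2 : d * d = 1 := by
      rw [hde, show t * d * (t * d) = t * (d * t) * d by group, ← (htL hd).eq,
        show t * (t * d) * d = (t * t) * (d * d) by group, ht2, one_mul] at hv2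
      exact hv2
    have hud : (u * d) ^ k = 1 := by
      rw [hde, ← mul_assoc, ← (htL huL).eq, mul_assoc, hto k ⟨j, hj⟩ (htL (mul_mem huL hd))] at hk
      exact mul_eq_left.1 hk
    have hd1 : d ≠ 1 := by
      rintro rfl
      rw [mul_one, hj, pow_succ, pow_mul, pow_two, hu2, one_pow, one_mul] at hud
      exact S.ne_one_of_conj hu hud
    refine ⟨⟨(⟨u, huL⟩, ⟨d, hd⟩), Finset.mem_filter.2 ⟨Finset.mem_product.2
      ⟨(hI _).2 ⟨Subtype.ext hu2, fun e => S.ne_one_of_conj hu (congrArg Subtype.val e)⟩,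
        (hI _).2 ⟨Subtype.ext hd2, fun e => hd1 (congrArg Subtype.val e)⟩⟩, ?_⟩⟩, ?_⟩
    · exact Odd.of_dvd_nat ⟨j, hj⟩ (orderOf_dvd_of_pow_eq_one (Subtype.ext (by simpa using hud)))
    · exact Subtype.ext (Prod.ext rfl hde.symm)

end LData

end Base

end CfsgLib.SuzType
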