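import Mathlib
import Cfsg.Agent.Lib.SuzType.TypLayer

/-!
The pairs of involutions (one conjugate to `z`, one of the other class) whose product powers to `z`.
-/

set_option autoImplicit false
set_option maxHeartbeats 1000000
set_option synthInstance.maxSize 8000
set_option synthInstance.maxHeartbeats 1000000
set_option linter.style.longLine false
set_option linter.unusedSectionVars false

namespace CfsgLib.SuzType

open Subgroup

/-- A nonzero singular vector. -/
def Sing1 (v : V) : Prop := v ≠ 0 ∧ qV 1 v = 0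

/-- A vector whose lifts are moved by the chosen involution, for a vector fixed by it. -/
def Mov (v : V) : Prop := BW v.2 w1 = 1

/-- The vectors of the good involutions in `Q`. -/
def GoodQ (v : V) : Prop :=
  Sing1 v ∧ ((E 1 u1 v = v ∧ Mov v) ∨ (E 1 u1 v ≠ v ∧ qV 1 (v + E 1 u1 v) = 1))

/-- The parameters of the good involutions fixing the base point. -/
def GoodA (p : W × W) : Prop := beta1 p tP = 1 ∧ beta2 p tP = 0

instance (v : V) : Decidable (Sing1 v) := by unfold Sing1; infer_instance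
instance (v : V) : Decidable (Mov v) := by unfold Mov; infer_instance
instance (v : V) : Decidable (GoodQ v) := by unfold GoodQ; infer_instance
instance (p : W × W) : Decidable (GoodA p) := by unfold GoodA; infer_instance

theorem out_counts :
    (Finset.univ.filter fun v : V => GoodQ v).card = 18 ∧
    (Finset.univ.filter fun p : W × W => Ax p ∧ p.1 ≠ 0).card = 10 ∧
    (Finset.univ.filter fun p : W × W => (Ax p ∧ p.1 ≠ 0) ∧ ¬ GoodA p).card = 8 ∧
    (Finset.univ.filter fun v : V => Sing1 v ∧ E 1 u1 v = v ∧ v ≠ x0 ∧ ¬ Mov v).card = 4 := by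
  decide +kernel

theorem fixed_three : ∀ p : W, p ≠ 0 → qW 1 p = 0 →
    (Finset.univ.filter fun v : V => Sing1 v ∧ E 1 p v = v).card = 3 := by decide +kernel

theorem fixed_line : ∀ p : W, p ≠ 0 → qW 1 p = 0 → ∀ a : V, qV 1 a = 0 → E 1 p a = a →
    ∀ b : V, qV 1 b = 0 → E 1 p b = b → qV 1 (a + b) = 0 := by decide +kernel

theorem fixed_pair : ∀ a : V, Sing1 a → E 1 u1 a = a → a ≠ x0 → ∀ b : V, Sing1 b → E 1 u1 b = b →
    b ≠ x0 → a ≠ b → qV 1 (a + b) = 0 → a + b = x0 := by decide +kernel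

theorem axis_fixed : ∀ p : W, p ≠ 0 → qW 1 p = 0 → BW u1 p = 0 →
    ∀ v : V, qV 1 v = 0 → E 1 p v = v → E 1 u1 v = v := by decide +kernel

theorem fixed_shape : ∀ v : V, Sing1 v → v ≠ x0 → v.1.2 = 0 → qW 1 v.2 = 0 ∧ v.2 ≠ 0 := by decide +kernel

theorem fixed_perp : ∀ v : V, E 1 u1 v = v → v.1.2 = 0 ∧ BW u1 v.2 = 0 := by decide +kernel

theorem nonsing_move : ∀ u : W, qW 1 u = 1 → ∀ v : V, qV 1 (E 1 u v + v) = 0 →
    E 1 u v + v = 0 ∨ E 1 u v + v = x0 := by decide +kernel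

theorem fix_same : ∀ v : V, v.1.2 = 0 → qW 1 v.2 = 0 → E 1 v.2 v = v := by decide +kernel

theorem fix_inter : ∀ v : V, Sing1 v → E 1 u1 v = v → v ≠ x0 →
    (Finset.univ.filter fun p : W × W => (Ax p ∧ p.1 ≠ 0) ∧ E 1 p.1 v = v).card = 2 := by decide +kernel

theorem inv_fix_one : ∀ π : Equiv.Perm (Fin 5), π * π = 1 → π ≠ 1 → Equiv.Perm.sign π = 1 →
    ∀ i j, π i = i → π j = j → i = j := by decide +kernel

theorem square_moved : ∀ i j : Fin 5, i ≠ j →
    psq1 ((pt i, 0) + (pt j, 0 + pt j)) = 1 ∧ psq2 ((pt i, 0) + (pt j, 0 + pt j)) = 0 ∧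
    psq1 ((pt i, pt i) + (pt j, pt j + pt j)) = 1 ∧ psq2 ((pt i, pt i) + (pt j, pt j + pt j)) = 0 ∧
    psq2 ((pt i, 0) + (pt j, (0 : W))) = 1 ∧ psq2 ((pt i, pt i) + (pt j, pt j)) = 1 := by decide +kernel

theorem E_f0 : ∀ p : W, E 1 p f0 = f0 → p = 0 := by decide +kernel

theorem E_lines : ∀ v : V, E 1 u1 v = v → ∀ i : ZMod 2, beta2 (0, v.2) tP = 0 ∧
    (beta1 (0, v.2) tP = i ↔ BW v.2 w1 = i) := by decide +kernel

theorem sum_sing : ∀ a b : V, a ≠ b → a + b ≠ 0 := by decide +kernel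

theorem conj_of_odd {X : Type*} [Group X] {u t : X} (hu : u * u = 1) (ht : t * t = 1)
    (h : Odd (orderOf (u * t))) : IsConj u t := by
  obtain ⟨j, hj⟩ := h
  set a := (u * t) ^ j with ha
  have hinv : u * (u * t) * u⁻¹ = (u * t)⁻¹ := by
    rw [mul_inv_rev, inv_eq_of_mul_eq_one_right hu, inv_eq_of_mul_eq_one_right ht, ← mul_assoc, hu,
      one_mul]
  have h1 : u * a⁻¹ * u⁻¹ = a := by
    have h := conj_pow (i := j) (a := u) (b := u * t)
    rw [hinv, inv_pow, ← ha] at h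
    calc u * a⁻¹ * u⁻¹ = (u * a * u⁻¹)⁻¹ := by group
      _ = a := by rw [← h, inv_inv]
  have h2 : a * a = (u * t)⁻¹ := by
    refine eq_inv_of_mul_eq_one_left ?_
    rw [ha, ← pow_add, ← pow_succ, ← two_mul, ← hj, pow_orderOf_eq_one]
  have h3 : u * a⁻¹ * u = a := by
    calc u * a⁻¹ * u = u * a⁻¹ * u⁻¹ := by rw [inv_eq_of_mul_eq_one_right hu]
      _ = a := h1
  refine isConj_iff.2 ⟨u * a⁻¹, ?_⟩
  calc u * a⁻¹ * u * (u * a⁻¹)⁻¹ = (u * a⁻¹ * u) * a * u⁻¹ := by group
    _ = (u * t)⁻¹ * u⁻¹ := by rw [h3, h2]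
    _ = t⁻¹ * (u * u)⁻¹ := by group
    _ = t := by rw [hu, inv_eq_of_mul_eq_one_right ht, inv_one, mul_one]

theorem four_pow {X : Type*} [Group X] [Finite X] {w v : X} (hw : w * w = 1) (hw1 : w ≠ 1)
    (h4 : v * v * (v * v) = 1) (hne : v ≠ w) (hm : w ∈ zpowers v) : v * v = w := by
  rw [← mem_powers_iff_mem_zpowers] at hm
  obtain ⟨k, hk⟩ := hm
  change v ^ k = w at hk
  have h4' : v ^ 4 = 1 := by rw [show (4 : ℕ) = 2 + 2 from rfl, pow_add, pow_two]; exact h4
  rw [pow_eq_pow_mod k h4'] at hk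
  have := Nat.mod_lt k (show 4 > 0 by norm_num)
  rcases (by omega : k % 4 = 0 ∨ k % 4 = 1 ∨ k % 4 = 2 ∨ k % 4 = 3) with e | e | e | e <;> rw [e] at hk
  · exact absurd hk.symm (by simpa using hw1)
  · exact absurd (by simpa using hk) hne
  · rwa [pow_two] at hk
  · exfalso
    apply hne
    calc v = v ^ 4 * (v ^ 3)⁻¹ := by group
      _ = w := by rw [h4', one_mul, hk, inv_eq_of_mul_eq_one_right hw]

variable {G : Type*} [Group G] [Finite G] {z : G} {Q : Subgroup G}

namespace Base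

variable {K : Coord z Q 1} {x g : G} (S : Base K x g)
include S

theorem par_act {n : G} {p : W × W} (h : S.Par n p) : K.act n = E 1 p.1 := by
  obtain ⟨r, q, hr, hq, -, rfl, hu, -⟩ := h
  funext v
  rw [K.act_mul S.hyp (S.R_z hr) (S.hyp.extra.comm_z hq), K.act_mem S.hyp hq, S.act_R hr, hu]

theorem act_cancel {c : G} (hc : c * z = z * c) (v : V) : K.act c (K.act c⁻¹ v) = v := by
  rw [← K.act_mul S.hyp hc (Commute.inv_left hc).eq, mul_inv_cancel, K.act_one S.hyp]

theorem act_conj_back {c w : G} (hc : c * z = z * c) (hw : w * z = z * w) (v : V) :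
    K.act (c * w * c⁻¹) v = K.act c (K.act w (K.act c⁻¹ v)) := by
  rw [← K.act_conj_apply S.hyp hc hw, S.act_cancel hc]

theorem sing_act {c : G} (hc : c * z = z * c) {v : V} (hv : Sing1 v) : Sing1 (K.act c v) :=
  ⟨fun h => hv.1 (K.act_injective S.hyp hc (h.trans (K.act_zero S.hyp hc).symm)),
    (K.act_q S.hyp hc v).trans hv.2⟩

/-- The conjugates of `z` in `C(z)` outside `Q`. -/
def Outs (S : Base K x g) (u : G) : Prop := IsConj z u ∧ u * z = z * u ∧ u ∉ Q

theorem outs_conj {c u : G} (hc : c * z = z * c) (hu : S.Outs u) : S.Outs (c * u * c⁻¹) := by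
  refine ⟨hu.1.trans (isConj_iff.2 ⟨c, rfl⟩), conj_comm_z hc hu.2.1, fun h => hu.2.2 ?_⟩
  have := S.hyp.norm c⁻¹ (Commute.inv_left hc).eq _ h
  simpa [mul_assoc] using this

theorem out_std {u : G} : S.Outs u ∧ K.act u x0 = x0 ↔ ∃ p, (Ax p ∧ p.1 ≠ 0) ∧ S.Par u p := by
  constructor
  · rintro ⟨⟨h1, h2, h3⟩, h0⟩
    obtain ⟨-, p, hp, hA, hp0⟩ := S.out_fix h2 h1 h3 h0
    exact ⟨p, ⟨hA, hp0⟩, hp⟩
  · rintro ⟨p, ⟨hA, hp0⟩, hp⟩
    have h1 : u ≠ 1 := fun e => hp0 (congrArg Prod.fst (S.par_unique (e ▸ hp) S.par_one))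
    refine ⟨⟨S.ax_conj hp hA h1, (S.par_comm hp).1, fun hQ => hp0 (E_f0 _ ?_)⟩, (S.par_comm hp).2.2.1⟩
    rw [← S.par_act hp, K.act_mem S.hyp hQ]

theorem exists_std {u : G} (hu : S.Outs u) :
    ∃ c p, c * z = z * c ∧ S.Par (c * u * c⁻¹) p ∧ p.1 ≠ 0 ∧ qW 1 p.1 = 0 := by
  obtain ⟨c, hc, h0, -⟩ := S.reduce hu.2.1 (S.sq_of_conj hu.1)
  obtain ⟨p, ⟨hA, hp0⟩, hp⟩ := S.out_std.1 ⟨S.outs_conj hc hu, h0⟩
  exact ⟨c, p, hc, hp, hp0, hA.2.1⟩

theorem line_fix {u : G} (hu : S.Outs u) {a b : V} (ha : qV 1 a = 0) (ha' : K.act u a = a)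
    (hb : qV 1 b = 0) (hb' : K.act u b = b) : qV 1 (a + b) = 0 := by
  obtain ⟨c, p, hc, hp, hp0, hpq⟩ := S.exists_std hu
  have h := fixed_line p.1 hp0 hpq (K.act c a) ((K.act_q S.hyp hc a).trans ha)
    (by rw [← S.par_act hp, K.act_conj_apply S.hyp hc hu.2.1, ha'])
    (K.act c b) ((K.act_q S.hyp hc b).trans hb)
    (by rw [← S.par_act hp, K.act_conj_apply S.hyp hc hu.2.1, hb'])
  rwa [← K.act_add S.hyp hc, K.act_q S.hyp hc] at h

theorem ut_ne {t u : G} (ht : S.Typ t) (hu : IsConj z u) : u * t ≠ z := fun e => by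
  have e1 : u = z * t := by
    rw [← e, mul_assoc, S.typ_sq ht, mul_one]
  have h := S.par_mul (S.par_el 1 0) (S.typ_iff.1 ht)
  rw [zero_add, show S.el 1 0 = z by simp [el], ← e1] at h
  exact S.typ_not_conj (S.typ_iff.2 h) hu

/-- A `Q`-involution gives a good pair exactly for these vectors. -/
theorem good_Q {t u : G} (ht : S.Typ t) (hQ : u ∈ Q) :
    IsConj z u ∧ z ∈ zpowers (u * t) ↔ GoodQ (K.vec u) := by
  have H := S.hyp
  have hne := H.extra.ne_one
  have hz2 := H.extra.sq_one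
  have ht2 := S.typ_sq ht
  have htz := S.typ_comm ht
  set v := K.vec u with hv
  set w := u * (t * u * t⁻¹) with hwd
  have hut : (u * t) * (u * t) = w := by
    rw [hwd, inv_eq_of_mul_eq_one_right ht2]; group
  have htu : t * u * t⁻¹ ∈ Q := H.norm t htz u hQ
  have hwQ : w ∈ Q := mul_mem hQ htu
  have hwv : K.vec w = v + E 1 u1 v := by
    rw [hwd, K.mul hQ htu, ← K.act_vec H htz hQ, S.act_typ ht]
  have hfix : u * u = 1 → E 1 u1 v = v → w = if Mov v then z else 1 := by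
    intro hu2 hf
    obtain ⟨hv12, -⟩ := fixed_perp v hf
    have hux := (S.comm_x_iff hQ).2 hv12
    have hp := S.par_mem hQ hux
    have hc := S.par_commutator hp (S.typ_iff.1 ht)
    rw [← hv, (E_lines v hf 0).1] at hc
    have hw' : w = (u * t) * (u * t) := hut.symm
    have key : ∀ i, beta1 (0, v.2) tP = i → w = S.el i 0 := by
      intro i hi
      rw [hi] at hc
      rw [hw']
      nth_rw 1 [hc]
      calc S.el i 0 * (t * u) * (u * t) = S.el i 0 * (t * (u * u) * t) := by group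
        _ = S.el i 0 := by rw [hu2, mul_one, ht2, mul_one]
    split_ifs with hm
    · rw [key 1 ((E_lines v hf 1).2.2 hm)]; simp [el]
    · rw [key 0 ((E_lines v hf 0).2.2 ((zcases _).resolve_right hm)), S.el_zero]
  constructor
  · rintro ⟨hu, hm⟩
    have hu2 := S.sq_of_conj hu
    have hvq : qV 1 v = 0 := (K.invol_iff hne hQ).1 hu2
    have hv0 : v ≠ 0 := fun h0 => by
      rcases (K.zero_iff hQ).1 h0 with rfl | rfl
      · exact S.ne_one_of_conj hu rfl
      · rw [← mem_powers_iff_mem_zpowers] at hm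
        obtain ⟨k, hk⟩ := hm
        change (u * t) ^ k = u at hk
        rw [(show Commute u t from htz.symm).mul_pow] at hk
        rcases Nat.even_or_odd k with ⟨j, rfl⟩ | ⟨j, rfl⟩
        · rw [← two_mul, pow_mul, pow_mul, pow_two, pow_two, hz2, ht2, one_pow, one_mul] at hk
          exact hne hk.symm
        · rw [pow_succ, pow_mul, pow_two, hz2, one_pow, one_mul, pow_succ, pow_mul, pow_two, ht2,
            one_pow, one_mul, mul_eq_left] at hk
          exact S.typ_ne_one ht hk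
    refine ⟨⟨hv0, hvq⟩, ?_⟩
    have four : w * w = 1 → w = z := fun h4 => hut ▸
      four_pow hz2 hne (by rw [hut]; exact h4) (S.ut_ne ht hu) hm
    by_cases hf : E 1 u1 v = v
    · refine Or.inl ⟨hf, ?_⟩
      by_contra hM
      have e := hfix hu2 hf
      rw [if_neg hM] at e
      exact hne ((four (by rw [e, one_mul])).symm.trans e)
    · refine Or.inr ⟨hf, (zcases _).resolve_left fun h0 => hf ?_⟩
      have e := four (by rw [K.sq hwQ, hwv, if_pos h0])
      rw [e, K.vec_z H] at hwv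
      exact ((add_eq_zero_iff_eq_neg.1 hwv.symm).trans (negV _)).symm
  · rintro ⟨⟨hv0, hvq⟩, h⟩
    have hu2 : u * u = 1 := (K.invol_iff hne hQ).2 hvq
    obtain ⟨c, hc⟩ := K.conj_of_mem H hQ hu2 (fun e => hv0 (by rw [hv, e, K.vec_one]))
    refine ⟨isConj_iff.2 ⟨c, hc⟩, ?_⟩
    rcases h with ⟨hf, hM⟩ | ⟨-, hq⟩
    · have e := hfix hu2 hf
      rw [if_pos hM] at e
      exact (hut.trans e) ▸ mul_mem (mem_zpowers _) (mem_zpowers _)
    · have e : w * w = z := by
        rw [K.sq hwQ, hwv, if_neg (by rw [hq]; exact one_ne_zero)]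
      rw [← hut] at e
      have hm := mul_mem (mul_mem (mem_zpowers (u * t)) (mem_zpowers (u * t)))
        (mul_mem (mem_zpowers (u * t)) (mem_zpowers (u * t)))
      rwa [e] at hm

theorem good_A {t u : G} {p : W × W} (ht : S.Typ t) (hu : IsConj z u) (hp : S.Par u p) (hA : Ax p) :
    z ∈ zpowers (u * t) ↔ GoodA p := by
  have h := S.par_mul hp (S.typ_iff.1 ht)
  have e := S.par_sq h
  obtain ⟨b1, b2⟩ := beta_sum p tP
  obtain ⟨s1, s2⟩ := ax_sq p hA
  obtain ⟨r1, r2⟩ := an_sq tP an_tP.1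
  rw [b1, b2, s1, s2, r1, r2] at e
  simp only [zero_add] at e
  have hz : S.el 1 0 = z := by simp [el]
  constructor
  · intro hm
    have h2 := four_pow S.hyp.extra.sq_one S.hyp.extra.ne_one (by rw [e, S.el_sq]) (S.ut_ne ht hu) hm
    exact S.el_inj (e.symm.trans (h2.trans hz.symm))
  · rintro ⟨h1, h2⟩
    rw [h1, h2, hz] at e
    exact e ▸ mul_mem (mem_zpowers _) (mem_zpowers _)

theorem zpow_conj {c w : G} (hc : c * z = z * c) (hm : z ∈ zpowers w) : z ∈ zpowers (c * w * c⁻¹) := by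
  obtain ⟨i, hi⟩ := hm
  refine ⟨i, ?_⟩
  show (c * w * c⁻¹) ^ i = z
  rw [conj_zpow, show w ^ i = z from hi, hc, mul_inv_cancel_right]

theorem par_conj_moved {s n : G} {p : W × W} (hsz : s * z = z * s) (h0 : K.act s x0 = x0)
    (hsx : s * x * s⁻¹ = z * x) (h : S.Par n p) :
    S.Par (s * n * s⁻¹) (K.res s p.1, K.res s p.2 + K.res s p.1) := by
  have H := S.hyp
  obtain ⟨b, hb⟩ : ∃ b, b = K.lift f0 := ⟨_, rfl⟩
  have hbQ : b ∈ Q := hb ▸ K.lift_mem f0
  have hbz := H.extra.comm_z hbQ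
  have hb1 : (K.vec b).1.2 = 1 := by rw [hb, K.vec_lift]; rfl
  have hbx : b * x * b⁻¹ = z * x := by
    rw [K.conj S.hx hbQ, S.hxv, hb, K.vec_lift, if_neg (by decide)]
  have hcx : b * s * x = x * (b * s) := by
    calc b * s * x = b * (s * x * s⁻¹) * s := by group
      _ = b * (z * x) * s := by rw [hsx]
      _ = z * (b * x * b⁻¹) * b * s := by rw [← mul_assoc b z, hbz]; group
      _ = (z * z) * x * b * s := by rw [hbx]; group
      _ = x * (b * s) := by rw [H.extra.sq_one]; group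
  have hres : ∀ w, K.res (b * s) w = K.res s w := fun w => by
    rw [K.res_mul H hbz hsz (K.act_mem H hbQ x0) h0, K.res_mem H hbQ]
  have e := S.par_conj_Q (inv_mem hbQ) (S.par_conj (Commute.mul_left hbz hsz).eq hcx h)
  rw [show b⁻¹ * (b * s * n * (b * s)⁻¹) * b⁻¹⁻¹ = s * n * s⁻¹ by group, K.vec_inv hbQ, hb1, one_smul,
    hres, hres] at e
  exact e

/-- The involutions sharing a fixed point other than the base point. -/
theorem good_B {t u : G} {v : V} (ht : S.Typ t) (hu : S.Outs u) (hv : Sing1 v) (htv : E 1 u1 v = v)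
    (hvx : v ≠ x0) (huv : K.act u v = v) (hux : K.act u x0 ≠ x0) :
    z ∈ zpowers (u * t) ↔ Mov v := by
  have H := S.hyp
  have htz := S.typ_comm ht
  obtain ⟨c, hc, hcv⟩ := K.transitive H hv.1 hv.2 (by decide : x0 ≠ 0) (by decide)
  have hci : c⁻¹ * z = z * c⁻¹ := (Commute.inv_left hc).eq
  have hs := S.outs_conj hc hu
  set u' := c * u * c⁻¹ with hu'
  set t' := c * t * c⁻¹ with ht'
  set y := K.act c x0 with hy
  have h0u : K.act u' x0 = x0 := by rw [← hcv, hu', K.act_conj_apply H hc hu.2.1, huv]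
  have h0t : K.act t' x0 = x0 := by rw [← hcv, ht', K.act_conj_apply H hc htz, S.act_typ ht, htv]
  have hty : K.act t' y = y := by
    rw [ht', hy, K.act_conj_apply H hc htz, S.act_typ ht, E_x0]
  have hy1 : Sing1 y := S.sing_act hc ⟨by decide, by decide⟩
  have hyx : y ≠ x0 := fun e => hvx (K.act_injective H hc (hcv.trans e.symm))
  have hy12 : y.1.2 = 0 := by
    have h := K.act_B H hc x0 v
    rw [hcv, ← hy] at h
    have e : B x0 v = v.1.2 := by simp [B, x0, BW]
    have e' : B y x0 = y.1.2 := by simp [B, x0, BW]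
    rw [e', e, (fixed_perp v htv).1] at h
    exact h
  have ht'z : t' * z = z * t' := conj_comm_z hc htz
  have ht'2 : t' * t' = 1 := conj_sq_one (S.typ_sq ht)
  let P' : K.P H := ⟨⟨t', mem_centralizer_singleton_iff.2 ht'z⟩, h0t⟩
  set π := K.rho H P' with hπ
  have hspec : ∀ i, K.res t' (pt i) = pt (π i) := fun i => K.rho_spec H P' i
  have hπ1 : π ≠ 1 := by
    intro h1
    have htriv : ∀ w, K.res t' w = w := fun w =>
      ext_pt (g := fun w => w) (K.res_add H ht'z) (fun a b => rfl) (fun i => by rw [hspec, h1]; rfl) w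
    have hE := K.eq_E H ht'z h0t htriv
    set p := (K.act t' f0).2 with hp
    have himg : ∀ a, E 1 p (K.act c a) + K.act c a = K.act c (E 1 u1 a + a) := fun a => by
      rw [← hE, ht', K.act_conj_apply H hc htz, S.act_typ ht, K.act_add H hc]
    have hp1 : qW 1 p = 1 := (zcases _).resolve_left fun hp0 => by
      have h := move_singular p hp0 (K.act c f0)
      rw [himg, K.act_q H hc, ← S.act_typ ht, S.typ_act ht] at h
      exact one_ne_zero h
    obtain ⟨a, ha⟩ := move_hits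
    have h := himg a
    rw [ha, ← hy] at h
    rcases nonsing_move p hp1 (K.act c a) (by rw [h]; exact hy1.2) with e | e
    · exact hy1.1 (h.symm.trans e)
    · exact hyx (h.symm.trans e)
  have hπ2 : π * π = 1 := by
    rw [hπ, ← map_mul, show P' * P' = 1 from Subtype.ext (Subtype.ext ht'2), map_one]
  have hsgn : Equiv.Perm.sign π = 1 :=
    Equiv.Perm.mem_alternatingGroup.1 (S.rho_range ▸ ⟨P', rfl⟩)
  obtain ⟨hq2, hn2⟩ := fixed_shape y hy1 hyx hy12
  obtain ⟨i0, hi0⟩ := pt_exists y.2 hn2 hq2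
  have hfix0 : π i0 = i0 := pt_injective (by
    rw [← hspec, ← hi0, ← K.res_perp H ht'z h0t y hy12, hty])
  obtain ⟨p, ⟨hA, hp0⟩, hp⟩ := S.out_std.1 ⟨hs, h0u⟩
  obtain ⟨i, hi⟩ := pt_exists p.1 hp0 hA.2.1
  have hne : i ≠ i0 := by
    rintro rfl
    refine hux (K.act_injective H hc ?_)
    rw [← K.act_conj_apply H hc hu.2.1, ← hy, ← hu', S.par_act hp, hi, ← hi0]
    exact fix_same y hy12 hq2
  have hij : i ≠ π i := fun e => hne (inv_fix_one π hπ2 hπ1 hsgn i i0 e.symm hfix0)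
  have hp2 : p.2 = 0 ∨ p.2 = pt i := by
    rcases hA.1 with h | h | h
    · exact absurd h hp0
    · exact Or.inl h
    · exact Or.inr (h.symm.trans hi)
  have hr0 : K.res t' 0 = 0 := by
    have := K.res_add H ht'z 0 0
    rw [add_zero] at this
    exact left_eq_add.mp this
  have hz : S.el 1 0 = z := by simp [el]
  have hmul : u' * t' = c * (u * t) * c⁻¹ := by rw [hu', ht']; group
  have hback : z ∈ zpowers (u * t) ↔ z ∈ zpowers (u' * t') := by
    refine ⟨fun h => hmul ▸ S.zpow_conj hc h, fun h => ?_⟩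
    have h' := S.zpow_conj hci h
    rwa [hmul, show c⁻¹ * (c * (u * t) * c⁻¹) * c⁻¹⁻¹ = u * t by group] at h'
  have hsq : (u' * t') ^ 4 = u' * (t' * u' * t'⁻¹) * (u' * (t' * u' * t'⁻¹)) := by
    rw [show (4 : ℕ) = 2 + 2 from rfl, pow_add, pow_two, inv_eq_of_mul_eq_one_right ht'2]; group
  -- lifts of `v`
  obtain ⟨e, he⟩ : ∃ e, e = K.lift v := ⟨_, rfl⟩
  have heQ : e ∈ Q := he ▸ K.lift_mem v
  have hev : K.vec e = v := by rw [he, K.vec_lift]
  have hex := (S.comm_x_iff heQ).2 (hev ▸ (fixed_perp v htv).1)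
  have hMov : Mov v ↔ ¬ t' * x = x * t' := by
    have hcomm : t * e = e * t ↔ ¬ Mov v := by
      rw [eq_comm, S.par_commute_iff (S.par_mem heQ hex) (S.typ_iff.1 ht), hev]
      obtain ⟨h1, h2⟩ := E_lines v htv 0
      refine ⟨fun h hM => zero_ne_one ((h2.1 h.1).symm.trans hM), fun h => ⟨h2.2 ?_, h1⟩⟩
      exact (zcases _).resolve_right h
    have key : t * e = e * t ↔ t' * x = x * t' := by
      have h1 : K.vec (c * e * c⁻¹) = x0 := by rw [← K.act_vec H hc heQ, hev, hcv]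
      have h2 : t * e = e * t ↔ t' * (c * e * c⁻¹) = c * e * c⁻¹ * t' := by
        rw [ht', show c * t * c⁻¹ * (c * e * c⁻¹) = c * (t * e) * c⁻¹ by group,
          show c * e * c⁻¹ * (c * t * c⁻¹) = c * (e * t) * c⁻¹ by group, mul_left_inj, mul_right_inj]
      rcases K.eq_or H (H.norm c hc e heQ) S.hx (h1.trans S.hxv.symm) with k | k
      · rwa [k] at h2
      · rw [k, ← mul_assoc, ht'z, mul_assoc z x, mul_assoc z t', mul_right_inj] at h2
        exact h2
    rw [← key, hcomm, not_not]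
  rw [hback, hMov]
  rcases S.x_cases ht'z h0t with hx | hx
  · have hcx := mul_inv_eq_iff_eq_mul.1 hx
    refine iff_of_false (fun hm => ?_) (not_not_intro hcx)
    have hD := S.par_mul hp (S.par_conj ht'z hcx hp)
    have e4 := hsq.trans (S.par_sq hD)
    have hpsq : psq2 (p + (K.res t' p.1, K.res t' p.2)) = 1 := by
      obtain ⟨-, -, -, -, q1, q2⟩ := square_moved i (π i) hij
      rcases hp2 with h | h
      · rw [show p = (pt i, 0) from Prod.ext hi h, hr0, hspec]; exact q1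
      · rw [show p = (pt i, pt i) from Prod.ext hi h, hspec]; exact q2
    rw [hpsq] at e4
    have h8 : orderOf (u' * t') = 2 ^ 3 := by
      refine orderOf_eq_prime_pow (hp := ⟨Nat.prime_two⟩) ?_ ?_
      · rw [show (2 : ℕ) ^ 2 = 4 from rfl, e4]
        exact fun h => one_ne_zero (S.el_inj (h.trans S.el_zero.symm)).2
      · rw [show (2 : ℕ) ^ (2 + 1) = 4 * 2 from rfl, pow_mul, e4, pow_two, S.el_sq]
    rw [← mem_powers_iff_mem_zpowers] at hm
    obtain ⟨k, hk⟩ := hm
    change (u' * t') ^ k = z at hk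
    have hk2 : (u' * t') ^ (2 * k) = 1 := by rw [mul_comm, pow_mul, hk, pow_two, H.extra.sq_one]
    have hd := orderOf_dvd_of_pow_eq_one hk2
    rw [h8] at hd
    obtain ⟨l, rfl⟩ : 4 ∣ k := by omega
    rw [pow_mul, e4] at hk
    rcases Nat.even_or_odd l with ⟨j, rfl⟩ | ⟨j, rfl⟩
    · rw [← two_mul, pow_mul, pow_two, S.el_sq, one_pow] at hk
      exact H.extra.ne_one hk.symm
    · rw [pow_succ, pow_mul, pow_two, S.el_sq, one_pow, one_mul] at hk
      exact one_ne_zero (S.el_inj (hk.trans hz.symm)).2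
  · refine iff_of_true ?_ (fun hcx => ?_)
    · have hD := S.par_mul hp (S.par_conj_moved ht'z h0t hx hp)
      have e4 := hsq.trans (S.par_sq hD)
      have hpsq : psq1 (p + (K.res t' p.1, K.res t' p.2 + K.res t' p.1)) = 1 ∧
          psq2 (p + (K.res t' p.1, K.res t' p.2 + K.res t' p.1)) = 0 := by
        obtain ⟨q1, q2, q3, q4, -, -⟩ := square_moved i (π i) hij
        rcases hp2 with h | h
        · rw [show p = (pt i, 0) from Prod.ext hi h, hr0, hspec]; exact ⟨q1, q2⟩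
        · rw [show p = (pt i, pt i) from Prod.ext hi h, hspec]; exact ⟨q3, q4⟩
      rw [hpsq.1, hpsq.2, hz] at e4
      have hm := pow_mem (mem_zpowers (u' * t')) 4
      rwa [e4] at hm
    · rw [hcx, mul_inv_cancel_right] at hx
      exact H.extra.ne_one (right_eq_mul.1 hx)

/-- Without a common fixed point the pair is good. -/
theorem good_C {t u : G} (ht : S.Typ t) (hu : S.Outs u)
    (hno : ∀ v, Sing1 v → E 1 u1 v = v → K.act u v ≠ v) : z ∈ zpowers (u * t) := by
  have H := S.hyp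
  have hu2 := S.sq_of_conj hu.1
  have ht2 := S.typ_sq ht
  have htz := S.typ_comm ht
  have hev : Even (orderOf (u * t)) := by
    rw [← Nat.not_odd_iff_even]
    exact fun ho => S.typ_not_conj ht (hu.1.trans (conj_of_odd hu2 ht2 ho))
  obtain ⟨m, hm⟩ := hev
  have hpos := orderOf_pos (u * t)
  set s := (u * t) ^ m with hs
  have hs2 : s * s = 1 := by rw [hs, ← pow_add, ← hm, pow_orderOf_eq_one]
  have hs1 : s ≠ 1 := pow_ne_one_of_lt_orderOf (by omega) (by omega)
  have hsm : s ∈ zpowers (u * t) := pow_mem (mem_zpowers _) m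
  obtain ⟨hsu, hst⟩ := zpowers_pair hu2 ht2 hs2 hsm
  have hsz : s * z = z * s :=
    (Commute.pow_left (Commute.mul_left hu.2.1 htz) m).eq
  by_contra hgood
  have hsne : s ≠ z := fun e => hgood (e ▸ hsm)
  have hfix : ∀ {w : G}, w * z = z * w → Commute s w → s ∈ Q → K.act w (K.vec s) = K.vec s := by
    intro w hw hsw hQ
    rw [K.act_vec H hw hQ, ← hsw.eq, mul_inv_cancel_right]
  by_cases hQ : s ∈ Q
  · refine hno _ ⟨fun h => ((K.zero_iff hQ).1 h).elim hs1 hsne, (K.invol_iff H.extra.ne_one hQ).1 hs2⟩ ?_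
      (hfix hu.2.1 hsu hQ)
    rw [← S.act_typ ht]
    exact hfix htz hst hQ
  by_cases hcj : IsConj z s
  · have h0 := S.act_x0_of_comm ht hsz hst.eq
    obtain ⟨p, ⟨hA, hp0⟩, hp⟩ := S.out_std.1 ⟨⟨hcj, hsz, hQ⟩, h0⟩
    have hT := ax_CP p hA ((S.par_commute_iff hp (S.typ_iff.1 ht)).1 hst.eq)
    set a := K.act u x0 with ha
    have haq : qV 1 a = 0 := (K.act_q H hu.2.1 x0).trans (by decide)
    have hsa : K.act s a = a := by
      rw [ha, ← K.act_mul H hsz hu.2.1, hsu.eq, K.act_mul H hu.2.1 hsz, h0]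
    have hax : a ≠ x0 := hno x0 ⟨by decide, by decide⟩ (E_x0 _ _)
    have hq := S.line_fix (u := s) ⟨hcj, hsz, hQ⟩ (by decide : qV 1 x0 = 0) h0 haq hsa
    refine hno (x0 + a) ⟨sum_sing _ _ hax.symm, hq⟩
      (axis_fixed p.1 hp0 hA.2.1 hT.1.1 _ hq ?_) ?_
    · rw [← S.par_act hp, K.act_add H hsz, h0, hsa]
    · rw [K.act_add H hu.2.1, ← ha]
      conv_lhs => rw [ha, ← K.act_mul H hu.2.1 hu.2.1, hu2, K.act_one H]
      rw [add_comm]
  · obtain ⟨c, hc, hcs⟩ := S.typ_of_not ht hsz hs2 hs1 hcj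
    have hfix' : ∀ {w : G}, w * z = z * w → Commute s w → K.act w (K.act c⁻¹ x0) = K.act c⁻¹ x0 := by
      intro w hw hsw
      refine K.act_injective H hc ?_
      rw [← S.act_conj_back hc hw, S.act_cancel hc]
      refine S.act_x0_of_comm ht (conj_comm_z hc hw) ?_
      rw [← hcs, show c * w * c⁻¹ * (c * s * c⁻¹) = c * (w * s) * c⁻¹ by group, ← hsw.eq]; group
    refine hno _ (S.sing_act (Commute.inv_left hc).eq ⟨by decide, by decide⟩) ?_ (hfix' hu.2.1 hsu)
    rw [← S.act_typ ht]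
    exact hfix' htz hst

theorem card_fix {v : V} (hv : Sing1 v) :
    Nat.card {u : G // S.Outs u ∧ K.act u v = v} = 40 := by
  classical
  have H := S.hyp
  obtain ⟨c, hc, hcv⟩ := K.transitive H hv.1 hv.2 (by decide : x0 ≠ 0) (by decide)
  have h := S.card_par (fun p : W × W => Ax p ∧ p.1 ≠ 0)
  rw [out_counts.2.1] at h
  rw [show (40 : ℕ) = 4 * 10 from rfl, ← h]
  refine Nat.card_congr ((MulAut.conj c).toEquiv.subtypeEquiv fun u => ?_)
  rw [← S.out_std]
  show S.Outs u ∧ _ ↔ S.Outs (c * u * c⁻¹) ∧ K.act (c * u * c⁻¹) x0 = x0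
  constructor
  · rintro ⟨hu, e⟩
    exact ⟨S.outs_conj hc hu, by rw [← hcv, K.act_conj_apply H hc hu.2.1, e]⟩
  · rintro ⟨hu, e⟩
    have hu' : S.Outs u := by
      have := S.outs_conj (Commute.inv_left hc).eq hu
      rwa [show c⁻¹ * (c * u * c⁻¹) * c⁻¹⁻¹ = u by group] at this
    refine ⟨hu', K.act_injective H hc ?_⟩
    rw [← K.act_conj_apply H hc hu'.2.1, hcv, e]

theorem card_outs : Nat.card {u : G // S.Outs u} = 360 := by
  classical
  have H := S.hyp
  have : Fintype G := Fintype.ofFinite G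
  let U : Finset G := Finset.univ.filter S.Outs
  let P : Finset V := Finset.univ.filter Sing1
  have hP : P.card = 27 := singular_card.2
  have h1 : ∀ v ∈ P, (U.filter fun u => K.act u v = v).card = 40 := fun v hv => by
    rw [← S.card_fix (Finset.mem_filter.1 hv).2, Nat.card_eq_fintype_card, Fintype.card_subtype,
      Finset.filter_filter]
  have h2 : ∀ u ∈ U, (P.filter fun v => K.act u v = v).card = 3 := fun u hu => by
    have hu' := (Finset.mem_filter.1 hu).2
    obtain ⟨c, p, hc, hp, hp0, hpq⟩ := S.exists_std hu'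
    have hE := S.par_act hp
    rw [← fixed_three p.1 hp0 hpq]
    refine Finset.card_bij' (fun v _ => K.act c v) (fun v _ => K.act c⁻¹ v) ?_ ?_ ?_ ?_
    · intro v hv
      simp only [P, Finset.mem_filter, Finset.mem_univ, true_and] at hv ⊢
      exact ⟨S.sing_act hc hv.1, by rw [← hE, K.act_conj_apply H hc hu'.2.1, hv.2]⟩
    · intro v hv
      simp only [P, Finset.mem_filter, Finset.mem_univ, true_and] at hv ⊢
      refine ⟨S.sing_act (Commute.inv_left hc).eq hv.1, K.act_injective H hc ?_⟩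
      rw [← S.act_conj_back hc hu'.2.1, hE, hv.2, S.act_cancel hc]
    · intro v _
      exact K.act_inv_cancel H hc v
    · intro v _
      exact S.act_cancel hc v
  have h : ∑ v ∈ P, (U.filter fun u => K.act u v = v).card =
      ∑ u ∈ U, (P.filter fun v => K.act u v = v).card := by
    simp only [Finset.card_filter]
    exact Finset.sum_comm
  rw [Finset.sum_congr rfl h1, Finset.sum_congr rfl h2, Finset.sum_const, Finset.sum_const, smul_eq_mul,
    smul_eq_mul, hP] at h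
  rw [Nat.card_eq_fintype_card, Fintype.card_subtype]
  show U.card = 360
  omega

theorem card_good {t : G} (ht : S.Typ t) :
    Nat.card {u : G // IsConj z u ∧ u * z = z * u ∧ z ∈ zpowers (u * t)} = 236 := by
  classical
  have H := S.hyp
  have : Fintype G := Fintype.ofFinite G
  let good : G → Prop := fun u => z ∈ zpowers (u * t)
  let U : Finset G := Finset.univ.filter S.Outs
  have hU : U.card = 360 := by
    rw [← S.card_outs, Nat.card_eq_fintype_card, Fintype.card_subtype]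
  let K4 : Finset V := Finset.univ.filter fun v => Sing1 v ∧ E 1 u1 v = v ∧ v ≠ x0 ∧ ¬ Mov v
  let BA : Finset G := Finset.univ.filter fun u => ∃ p, ((Ax p ∧ p.1 ≠ 0) ∧ ¬ GoodA p) ∧ S.Par u p
  let BB : V → Finset G := fun v => (U.filter fun u => K.act u v = v).filter fun u => K.act u x0 ≠ x0
  have hbad : U.filter (fun u => ¬ good u) = BA ∪ K4.biUnion BB := by
    ext u
    simp only [U, BA, BB, K4, Finset.mem_union, Finset.mem_biUnion, Finset.mem_filter, Finset.mem_univ,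
      true_and]
    constructor
    · rintro ⟨hu, hg⟩
      by_cases h0 : K.act u x0 = x0
      · obtain ⟨p, hA, hp⟩ := S.out_std.1 ⟨hu, h0⟩
        exact Or.inl ⟨p, ⟨hA, fun hG => hg ((S.good_A ht hu.1 hp hA.1).2 hG)⟩, hp⟩
      · by_cases hex : ∃ v, Sing1 v ∧ E 1 u1 v = v ∧ K.act u v = v
        · obtain ⟨v, hv, htv, huv⟩ := hex
          have hvx : v ≠ x0 := fun e => h0 (e ▸ huv)
          exact Or.inr ⟨v, ⟨hv, htv, hvx, fun hM => hg ((S.good_B ht hu hv htv hvx huv h0).2 hM)⟩,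
            ⟨hu, huv⟩, h0⟩
        · exact absurd (S.good_C ht hu fun v hv htv huv => hex ⟨v, hv, htv, huv⟩) hg
    · rintro (⟨p, ⟨hA, hG⟩, hp⟩ | ⟨v, ⟨hv, htv, hvx, hM⟩, ⟨hu, huv⟩, h0⟩)
      · obtain ⟨hu, -⟩ := S.out_std.2 ⟨p, hA, hp⟩
        exact ⟨hu, fun hg => hG ((S.good_A ht hu.1 hp hA.1).1 hg)⟩
      · exact ⟨hu, fun hg => hM ((S.good_B ht hu hv htv hvx huv h0).1 hg)⟩
  have hA32 : BA.card = 32 := by
    have h := S.card_par (fun p : W × W => (Ax p ∧ p.1 ≠ 0) ∧ ¬ GoodA p)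
    rw [out_counts.2.2.1, Nat.card_eq_fintype_card, Fintype.card_subtype] at h
    exact h
  have hB32 : ∀ v ∈ K4, (BB v).card = 32 := by
    intro v hv
    obtain ⟨-, hv, htv, hvx, -⟩ := Finset.mem_filter.1 hv
    have h40 : (U.filter fun u => K.act u v = v).card = 40 := by
      rw [← S.card_fix hv, Nat.card_eq_fintype_card, Fintype.card_subtype, Finset.filter_filter]
    have h8 : ((U.filter fun u => K.act u v = v).filter fun u => K.act u x0 = x0).card = 8 := by
      have h := S.card_par (fun p : W × W => (Ax p ∧ p.1 ≠ 0) ∧ E 1 p.1 v = v)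
      rw [fix_inter v hv htv hvx, Nat.card_eq_fintype_card, Fintype.card_subtype] at h
      rw [show (8 : ℕ) = 4 * 2 from rfl, ← h]
      congr 1
      ext u
      simp only [U, Finset.mem_filter, Finset.mem_univ, true_and]
      constructor
      · rintro ⟨⟨hu, huv⟩, h0⟩
        obtain ⟨p, hA, hp⟩ := S.out_std.1 ⟨hu, h0⟩
        exact ⟨p, ⟨hA, by rw [← S.par_act hp, huv]⟩, hp⟩
      · rintro ⟨p, ⟨hA, he⟩, hp⟩
        obtain ⟨hu, h0⟩ := S.out_std.2 ⟨p, hA, hp⟩
        exact ⟨⟨hu, by rw [S.par_act hp, he]⟩, h0⟩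
    have h := Finset.card_filter_add_card_filter_not (s := U.filter fun u => K.act u v = v)
      (fun u => K.act u x0 = x0)
    rw [h8, h40] at h
    show ((U.filter fun u => K.act u v = v).filter fun u => ¬ K.act u x0 = x0).card = 32
    omega
  have hdis : (↑K4 : Set V).PairwiseDisjoint BB := by
    intro v hv v' hv' hne
    rw [Function.onFun, Finset.disjoint_left]
    intro u hu hu'
    simp only [K4, Finset.coe_filter, Finset.mem_univ, true_and, Set.mem_setOf_eq] at hv hv'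
    simp only [BB, U, Finset.mem_filter, Finset.mem_univ, true_and] at hu hu'
    obtain ⟨⟨hO, huv⟩, h0⟩ := hu
    obtain ⟨⟨-, huv'⟩, -⟩ := hu'
    have e := fixed_pair v hv.1 hv.2.1 hv.2.2.1 v' hv'.1 hv'.2.1 hv'.2.2.1 hne
      (S.line_fix hO hv.1.2 huv hv'.1.2 huv')
    exact h0 (by rw [← e, K.act_add H hO.2.1, huv, huv'])
  have hd2 : Disjoint BA (K4.biUnion BB) := by
    rw [Finset.disjoint_left]
    intro u hu hu'
    obtain ⟨-, p, -, hp⟩ := Finset.mem_filter.1 hu
    obtain ⟨v, -, hv⟩ := Finset.mem_biUnion.1 hu'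
    exact (Finset.mem_filter.1 hv).2 (S.par_comm hp).2.2.1
  have h160 : (U.filter fun u => ¬ good u).card = 160 := by
    rw [hbad, Finset.card_union_of_disjoint hd2, hA32, Finset.card_biUnion hdis, Finset.sum_congr rfl hB32,
      Finset.sum_const, smul_eq_mul, show K4.card = 4 from out_counts.2.2.2]
  have h200 := Finset.card_filter_add_card_filter_not (s := U) good
  rw [h160, hU] at h200
  have h36 := K.card_lifts H GoodQ
  rw [out_counts.1, Nat.card_eq_fintype_card, Fintype.card_subtype] at h36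
  rw [Nat.card_eq_fintype_card, Fintype.card_subtype]
  have e : (Finset.univ.filter fun u : G => IsConj z u ∧ u * z = z * u ∧ z ∈ zpowers (u * t)) =
      (Finset.univ.filter fun u : G => u ∈ Q ∧ GoodQ (K.vec u)) ∪ U.filter good := by
    ext u
    simp only [U, good, Outs, Finset.mem_union, Finset.mem_filter, Finset.mem_univ, true_and]
    constructor
    · rintro ⟨h1, h2, h3⟩
      by_cases hQ : u ∈ Q
      · exact Or.inl ⟨hQ, (S.good_Q ht hQ).1 ⟨h1, h3⟩⟩
      · exact Or.inr ⟨⟨h1, h2, hQ⟩, h3⟩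
    · rintro (⟨hQ, hg⟩ | ⟨⟨h1, h2, -⟩, h3⟩)
      · obtain ⟨h1, h3⟩ := (S.good_Q ht hQ).2 hg
        exact ⟨h1, H.extra.comm_z hQ, h3⟩
      · exact ⟨h1, h2, h3⟩
  rw [e, Finset.card_union_of_disjoint, h36]
  · omega
  · rw [Finset.disjoint_left]
    intro u hu hu'
    exact ((Finset.mem_filter.1 (Finset.mem_filter.1 hu').1).2).2.2 (Finset.mem_filter.1 hu).2.1

theorem card_typ {t : G} (ht : S.Typ t) :
    Nat.card {v : G // IsConj t v ∧ v * z = z * v} = 6480 := by
  have H := S.hyp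
  let C := centralizer ({z} : Set G)
  have h := ((Sg z t).subgroupOf C).card_mul_index
  rw [Nat.card_congr (subgroupOfEquivOfLe (show Sg z t ≤ C from fun n hn => mem_centralizer_singleton_iff.2 (mem_Sg.1 hn).1)).toEquiv, S.card_Sg ht, H.cardC] at h
  have hC : ∀ c : ↥C, (c : G) * z = z * c := fun c => mem_centralizer_singleton_iff.1 c.2
  have e : Nat.card {v : G // IsConj t v ∧ v * z = z * v} = ((Sg z t).subgroupOf C).index := by
    rw [Subgroup.index_eq_card]
    refine (Nat.card_congr (Equiv.ofBijective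
      (fun q : ↥C ⧸ (Sg z t).subgroupOf C => (⟨(q.out : G) * t * (q.out : G)⁻¹, isConj_iff.2 ⟨_, rfl⟩,
        conj_comm_z (hC q.out) (S.typ_comm ht)⟩ : {v : G // IsConj t v ∧ v * z = z * v})) ⟨?_, ?_⟩)).symm
    · intro q r he
      have e' : (q.out : G) * t * (q.out : G)⁻¹ = (r.out : G) * t * (r.out : G)⁻¹ := congrArg Subtype.val he
      rw [← q.out_eq', ← r.out_eq', QuotientGroup.eq, mem_subgroupOf, mem_Sg]
      refine ⟨hC _, ?_⟩
      simp only [Subgroup.coe_mul, Subgroup.coe_inv]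
      calc (q.out : G)⁻¹ * r.out * t = (q.out : G)⁻¹ * ((r.out : G) * t * (r.out : G)⁻¹) * r.out := by group
        _ = _ := by rw [← e']; group
    · rintro ⟨v, hv, hvz⟩
      obtain ⟨d, hd⟩ := isConj_iff.1 hv
      have hv2 : v * v = 1 := hd ▸ conj_sq_one (S.typ_sq ht)
      have hv1 : v ≠ 1 := fun e => S.typ_ne_one ht (conj_eq_one_iff.1 (hd.trans e))
      obtain ⟨c, hc, hcv⟩ := S.typ_of_not ht hvz hv2 hv1 fun hzv => S.typ_not_conj ht (hzv.trans hv.symm)
      let a : ↥C := ⟨c⁻¹, mem_centralizer_singleton_iff.2 (Commute.inv_left hc).eq⟩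
      obtain ⟨⟨d', hd'⟩, hq⟩ := QuotientGroup.mk_out_eq_mul ((Sg z t).subgroupOf C) a
      refine ⟨(QuotientGroup.mk a : ↥C ⧸ _), Subtype.ext ?_⟩
      show ((_ : ↥C) : G) * t * ((_ : ↥C) : G)⁻¹ = v
      rw [hq, Subgroup.coe_mul, mul_inv_rev]
      show c⁻¹ * (d' : G) * t * ((d' : G)⁻¹ * c⁻¹⁻¹) = v
      calc c⁻¹ * (d' : G) * t * ((d' : G)⁻¹ * c⁻¹⁻¹) = c⁻¹ * ((d' : G) * t) * (d' : G)⁻¹ * c := by group
        _ = c⁻¹ * (t * (d' : G)) * (d' : G)⁻¹ * c := by rw [(mem_Sg.1 (mem_subgroupOf.1 hd')).2]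
        _ = c⁻¹ * t * c := by group
        _ = c⁻¹ * (c * v * c⁻¹) * c := by rw [hcv]
        _ = v := by group
  rw [e]
  omega

theorem pairs_z {t : G} (ht : S.Typ t) :
    Nat.card {p : G × G // IsConj z p.1 ∧ IsConj t p.2 ∧ z ∈ zpowers (p.1 * p.2)} = 6480 * 236 := by
  classical
  have H := S.hyp
  have : Fintype G := Fintype.ofFinite G
  let T := {v : G // IsConj t v ∧ v * z = z * v}
  have hfib : ∀ v : T, Nat.card {u : G // IsConj z u ∧ u * z = z * u ∧ z ∈ zpowers (u * v.1)} = 236 := by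
    rintro ⟨v, hv, hvz⟩
    obtain ⟨d, hd⟩ := isConj_iff.1 hv
    have hv2 : v * v = 1 := hd ▸ conj_sq_one (S.typ_sq ht)
    have hv1 : v ≠ 1 := fun e => S.typ_ne_one ht (conj_eq_one_iff.1 (hd.trans e))
    obtain ⟨c, hc, hcv⟩ := S.typ_of_not ht hvz hv2 hv1 fun hzv => S.typ_not_conj ht (hzv.trans hv.symm)
    rw [← S.card_good ht]
    refine Nat.card_congr ((MulAut.conj c).toEquiv.subtypeEquiv fun u => ?_)
    show _ ↔ IsConj z (c * u * c⁻¹) ∧ c * u * c⁻¹ * z = z * (c * u * c⁻¹) ∧ z ∈ zpowers (c * u * c⁻¹ * t)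
    have hmul : c * u * c⁻¹ * t = c * (u * v) * c⁻¹ := by rw [← hcv]; group
    rw [hmul]
    constructor
    · rintro ⟨h1, h2, h3⟩
      exact ⟨h1.trans (isConj_iff.2 ⟨c, rfl⟩), conj_comm_z hc h2, S.zpow_conj hc h3⟩
    · rintro ⟨h1, h2, h3⟩
      have hci : c⁻¹ * z = z * c⁻¹ := (Commute.inv_left hc).eq
      refine ⟨h1.trans (isConj_iff.2 ⟨c⁻¹, by group⟩), ?_, ?_⟩
      · have := conj_comm_z hci h2
        rwa [show c⁻¹ * (c * u * c⁻¹) * c⁻¹⁻¹ = u by group] at this
      · have := S.zpow_conj hci h3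
        rwa [show c⁻¹ * (c * (u * v) * c⁻¹) * c⁻¹⁻¹ = u * v by group] at this
  have hsig : Nat.card ((v : T) × {u : G // IsConj z u ∧ u * z = z * u ∧ z ∈ zpowers (u * v.1)}) =
      6480 * 236 := by
    rw [Nat.card_sigma, Finset.sum_congr rfl fun v _ => hfib v, Finset.sum_const, Finset.card_univ,
      ← Nat.card_eq_fintype_card, show Nat.card T = 6480 from S.card_typ ht, smul_eq_mul]
  rw [← hsig]
  refine (Nat.card_congr (Equiv.ofBijective
    (fun q => (⟨(q.2.1, q.1.1), q.2.2.1, q.1.2.1, q.2.2.2.2⟩ :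
      {p : G × G // IsConj z p.1 ∧ IsConj t p.2 ∧ z ∈ zpowers (p.1 * p.2)})) ⟨?_, ?_⟩)).symm
  · rintro ⟨⟨v, hv⟩, ⟨u, hu⟩⟩ ⟨⟨v', hv'⟩, ⟨u', hu'⟩⟩ h
    simp only [Subtype.mk.injEq, Prod.mk.injEq] at h
    obtain ⟨rfl, rfl⟩ := h
    rfl
  · rintro ⟨⟨u, v⟩, hu, hv, hm⟩
    have hv2 : v * v = 1 := by
      obtain ⟨d, rfl⟩ := isConj_iff.1 hv
      exact conj_sq_one (S.typ_sq ht)
    obtain ⟨hzu, hzv⟩ := zpowers_pair (S.sq_of_conj hu) hv2 H.extra.sq_one hm
    exact ⟨⟨⟨v, hv, hzv.eq.symm⟩, ⟨u, hu, hzu.eq.symm, hm⟩⟩, rfl⟩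

end Base

end CfsgLib.SuzType
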