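import Mathlib
import Cfsg.Agent.Lib.SuzType.OutCount
import Cfsg.Agent.S0213

/-!
The order of a group of Suzuki type.
-/

set_option autoImplicit false
set_option linter.style.longLine false
set_option linter.unusedSectionVars false

namespace CfsgLib.SuzType

open Subgroup

variable {G : Type*} [Group G] [Finite G] {z : G} {Q : Subgroup G}

namespace Hyp

variable (H : Hyp z Q)
include H

theorem card_G : Nat.card G = 448345497600 := by
  have : Fact (Nat.Prime 2) := ⟨Nat.prime_two⟩
  obtain ⟨K⟩ := H.exists_minus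
  obtain ⟨x, g, S⟩ := K.exists_base H
  obtain ⟨t, ht⟩ := S.exists_typ
  obtain ⟨L, D⟩ := S.exists_L ht
  have ht2 : orderOf t = 2 := orderOf_eq_prime (by rw [pow_two, S.typ_sq ht]) (S.typ_ne_one ht)
  have hall : ∀ a : G, orderOf a = 2 → IsConj z a ∨ IsConj t a := by
    intro a ha
    have ha2 : a * a = 1 := by rw [← pow_two, ← ha]; exact pow_orderOf_eq_one a
    obtain ⟨y, hy⟩ := H.exists_conj_mem ha2
    have hc : IsConj a (y * a * y⁻¹) := isConj_iff.2 ⟨y, rfl⟩
    by_cases hz : IsConj z (y * a * y⁻¹)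
    · exact Or.inl (hz.trans hc.symm)
    · have h1 : y * a * y⁻¹ ≠ 1 := fun k => by
        rw [conj_eq_one_iff] at k
        simp [k] at ha
      obtain ⟨c, -, hct⟩ := S.typ_of_not ht hy (conj_sq_one ha2) h1 hz
      exact Or.inr ((hc.trans (isConj_iff.2 ⟨c, hct⟩)).symm)
  rw [Cfsg.Agent.S0213.result z t H.hz ht2 (S.typ_not_conj ht) hall, S.pairs_z ht, D.pairs_t ht,
    D.card_centralizer ht, H.cardC]

end Hyp

end CfsgLib.SuzType
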