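import Mathlib
import Cfsg.Agent.Lib.SuzType.Order
import Cfsg.Agent.Lib.TwoGroups.Semidihedral

/-!
An element of order five in the centralizer of `z`: its fixed space, centralizer and normalizer there.
-/

set_option autoImplicit false
set_option maxHeartbeats 1000000
set_option synthInstance.maxSize 8000
set_option synthInstance.maxHeartbeats 1000000
set_option linter.style.longLine false
set_option linter.unusedSectionVars false

namespace CfsgLib.SuzType

open Subgroup

theorem five_cycle : ∀ π : Equiv.Perm (Fin 5), π ^ 5 = 1 → π ≠ 1 →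
    (∀ i, π i ≠ i ∧ π (π i) ≠ i) ∧ ∀ j, ∃ k : Fin 5, (π ^ (k : ℕ)) 0 = j := by decide +kernel

theorem transposition : ∀ w : W, qW 1 w = 1 →
    ∃ i j : Fin 5, i ≠ j ∧ ∀ k, pt k + BW (pt k) w • w = pt (Equiv.swap i j k) := by decide +kernel

theorem singular_plane : ∀ v : V, v ≠ 0 → qV 1 v = 0 → v.2 = 0 → v = x0 ∨ v = f0 := by decide +kernel

theorem split_f0 : ∀ v : V, (v + v.1.2 • f0).1.2 = 0 ∧ (v + v.1.2 • f0).2 = v.2 := by decide +kernel

theorem refl_facts : refl (x0 + f0) x0 = f0 ∧ refl (x0 + f0) f0 = x0 ∧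
    ∀ w, refl (x0 + f0) (inj w) = inj w := by decide +kernel

theorem tail_facts : ∀ v : V, (v.2 = 0 → v.1.2 = 0 → v = 0 ∨ v = x0) ∧
    (v.2 = 0 → v.1.2 = 1 → v = f0 ∨ v = x0 + f0) := by decide +kernel

theorem ord_conj {X : Type*} [Group X] (a b : X) : orderOf (a * b * a⁻¹) = orderOf b :=
  orderOf_injective (MulAut.conj a).toMonoidHom (MulAut.conj a).injective b

variable {G : Type*} [Group G] [Finite G] {z : G} {Q : Subgroup G}

namespace Base

variable {K : Coord z Q 1} {x g : G} (S : Base K x g)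

/-- An element of order five of `C(z)` centralizing `x` and a lift `f` of the hyperbolic partner. -/
structure Five (S : Base K x g) (b f : G) : Prop where
  ord : orderOf b = 5
  bz : b * z = z * b
  bx : b * x = x * b
  bf : b * f = f * b
  fQ : f ∈ Q
  fv : K.vec f = f0
  cyc : ∀ w, K.res b w = w → w = 0

include S

theorem q_pow_four {q : G} (hq : q ∈ Q) : q ^ 4 = 1 := by
  rw [show (4 : ℕ) = 2 * 2 from rfl, pow_mul, pow_two q, pow_two, K.sq hq]
  split_ifs with h
  · exact one_mul 1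
  · exact S.hyp.extra.sq_one

theorem comm_of_five {b q : G} (hb : orderOf b = 5) (hbz : b * z = z * b) (hq : q ∈ Q)
    (hfix : K.act b (K.vec q) = K.vec q) : b * q = q * b := by
  have H := S.hyp
  rw [K.act_vec H hbz hq] at hfix
  rcases K.eq_or H (H.norm b hbz q hq) hq hfix with h | h
  · exact mul_inv_eq_iff_eq_mul.1 h
  · have h2 : Commute (b ^ 2) q := by
      refine mul_inv_eq_iff_eq_mul.1 ?_
      calc b ^ 2 * q * (b ^ 2)⁻¹ = b * (b * q * b⁻¹) * b⁻¹ := by rw [pow_two]; group
        _ = b * (z * q) * b⁻¹ := by rw [h]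
        _ = z * (b * q * b⁻¹) := by rw [← mul_assoc b z, hbz]; group
        _ = q := by rw [h, ← mul_assoc, H.extra.sq_one, one_mul]
    have h5 : b ^ 5 = 1 := hb ▸ pow_orderOf_eq_one b
    have e : (b ^ 2) ^ 3 = b := by
      rw [← pow_mul, show 2 * 3 = 5 + 1 from rfl, pow_succ, h5, one_mul]
    exact (e ▸ h2.pow_left 3).eq

theorem exists_five : ∃ b f, S.Five b f := by
  classical
  have H := S.hyp
  have : Fact (Nat.Prime 5) := ⟨Nat.prime_five⟩
  obtain ⟨⟨c, hc⟩, hco⟩ := exists_prime_orderOf_dvd_card' (G := ↥(centralizer ({z} : Set G))) 5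
    (by rw [H.cardC]; norm_num)
  rw [Subgroup.orderOf_mk] at hco
  have hc5 : c ^ 5 = 1 := hco ▸ pow_orderOf_eq_one c
  have hcz : c * z = z * c := mem_centralizer_singleton_iff.1 hc
  -- fixed singular points
  have fixed : ∀ {d : G}, d * z = z * d → d ^ 5 = 1 → ∀ (s : Finset V), ¬ 5 ∣ s.card →
      (∀ v ∈ s, K.act d v ∈ s) → ∃ v ∈ s, K.act d v = v := by
    intro d hd hd5 s hs hmem
    let f : {v // v ∈ s} → {v // v ∈ s} := fun v => ⟨_, hmem v.1 v.2⟩
    have hf : Function.Bijective f := Finite.injective_iff_bijective.1 fun a a' e =>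
      Subtype.ext (K.act_injective H hd (congrArg Subtype.val e))
    have hpow : ∀ (n : ℕ) (v : {v // v ∈ s}), ((f^[n] v : {v // v ∈ s}) : V) = K.act (d ^ n) v := by
      intro n
      induction n with
      | zero => intro v; rw [pow_zero, K.act_one H]; rfl
      | succ n ih =>
        intro v
        rw [Function.iterate_succ_apply', pow_succ', K.act_mul H hd ((Commute.pow_left hd n).eq)]
        show K.act d _ = _
        rw [ih]
    obtain ⟨v, hv⟩ := Equiv.Perm.exists_fixed_point_of_prime (p := 5) (n := 1)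
      (by rwa [Fintype.card_coe]) (σ := Equiv.ofBijective f hf) (by
        rw [pow_one]
        refine Equiv.ext fun v => Subtype.ext ?_
        rw [← Equiv.Perm.iterate_eq_pow, show ((Equiv.ofBijective f hf : Equiv.Perm _) : _ → _) = f from rfl,
          hpow, hd5, K.act_one H]
        rfl)
    exact ⟨v.1, v.2, congrArg Subtype.val hv⟩
  have act_sing : ∀ {d : G}, d * z = z * d → ∀ {v : V}, Sing1 v → Sing1 (K.act d v) :=
    fun hd _ hv => S.sing_act hd hv
  obtain ⟨v, hv, hvc⟩ := fixed hcz hc5 (Finset.univ.filter Sing1)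
    (by rw [show (Finset.univ.filter Sing1).card = 27 from singular_card.2]; decide)
    (fun v hv => by
      simp only [Finset.mem_filter, Finset.mem_univ, true_and] at hv ⊢
      exact act_sing hcz hv)
  simp only [Finset.mem_filter, Finset.mem_univ, true_and] at hv
  obtain ⟨d, hd, hdv⟩ := K.transitive H hv.1 hv.2 (by decide : x0 ≠ 0) (by decide)
  set a := d * c * d⁻¹ with ha
  have haz : a * z = z * a := conj_comm_z hd hcz
  have hao : orderOf a = 5 := by rw [ha, ord_conj, hco]
  have ha5 : a ^ 5 = 1 := hao ▸ pow_orderOf_eq_one a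
  have ha0 : K.act a x0 = x0 := by rw [← hdv, ha, K.act_conj_apply H hd hcz, hvc]
  let aP : K.P H := ⟨⟨a, mem_centralizer_singleton_iff.2 haz⟩, ha0⟩
  set π := K.rho H aP with hπ
  have hπ5 : π ^ 5 = 1 := by
    rw [hπ, ← map_pow, show aP ^ 5 = 1 from Subtype.ext (Subtype.ext ha5), map_one]
  have hπ1 : π ≠ 1 := by
    intro h1
    have htriv : ∀ w, K.res a w = w := fun w =>
      ext_pt (g := fun w => w) (K.res_add H haz) (fun a b => rfl)
        (fun i => by rw [K.rho_spec H aP i, ← hπ, h1]; rfl) w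
    have hE := K.eq_E H haz ha0 htriv
    have h2 : a * a ∈ Q := by
      refine K.mem_of_act H (Commute.mul_left haz haz).eq fun v => ?_
      rw [K.act_mul H haz haz, hE]
      have key : ∀ (u : W) (v : V), E 1 u (E 1 u v) = v := by decide +kernel
      exact key _ v
    have h8 : a ^ 8 = 1 := by rw [show 8 = 2 * 4 from rfl, pow_mul, pow_two]; exact S.q_pow_four h2
    have hdvd := orderOf_dvd_of_pow_eq_one h8
    rw [hao] at hdvd
    norm_num at hdvd
  obtain ⟨hfree, -⟩ := five_cycle π hπ5 hπ1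
  have hspec : ∀ i, K.res a (pt i) = pt (π i) := fun i => K.rho_spec H aP i
  have hcyc : ∀ w, K.res a w = w → w = 0 := by
    intro w hw
    rcases pt_span w with h | ⟨i, rfl⟩ | ⟨i, j, hij, rfl⟩
    · exact h
    · exact absurd (pt_injective ((hspec i).symm.trans hw)) (hfree i).1
    · rw [K.res_add H haz, hspec, hspec] at hw
      rcases pt_pair_ne _ _ _ _ hw with ⟨e, -⟩ | ⟨e1, e2⟩ | ⟨e, -⟩
      · exact absurd e (hfree i).1
      · exact absurd (by rw [e1, e2] : π (π i) = i) (hfree i).2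
      · exact absurd (π.injective e) hij
  obtain ⟨y, hy, hyfix⟩ := fixed haz ha5 ((Finset.univ.filter Sing1).erase x0)
    (by
      rw [Finset.card_erase_of_mem (by decide +kernel), show (Finset.univ.filter Sing1).card = 27 from
        singular_card.2]
      decide)
    (fun v hv => by
      simp only [Finset.mem_erase, Finset.mem_filter, Finset.mem_univ, true_and] at hv ⊢
      exact ⟨fun e => hv.1 (K.act_injective H haz (e.trans ha0.symm)), act_sing haz hv.2⟩)
  simp only [Finset.mem_erase, Finset.mem_filter, Finset.mem_univ, true_and] at hy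
  have hy1 : y.1.2 = 1 := by
    refine (zcases _).resolve_left fun h0 => ?_
    have h2 := hcyc y.2 (by rw [← K.res_perp H haz ha0 y h0, hyfix])
    rcases (tail_facts y).1 h2 h0 with e | e
    · exact hy.2.1 e
    · exact hy.1 e
  have hyE : y = E 1 y.2 f0 := f_image 1 y (by simpa [B, x0, BW] using hy1) hy.2.2
  obtain ⟨r, hr, hru⟩ := S.exists_R y.2
  have hrz := S.R_z hr
  have hri : r⁻¹ * z = z * r⁻¹ := (Commute.inv_left hrz).eq
  have hry : K.act r f0 = y := by rw [S.act_R hr, hru, ← hyE]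
  set b := r⁻¹ * a * r⁻¹⁻¹ with hb
  have hbz : b * z = z * b := conj_comm_z hri haz
  have hbo : orderOf b = 5 := by rw [hb, ord_conj, hao]
  have hb0 : K.act b x0 = x0 := by
    conv_lhs => rw [← S.R_fix (inv_mem hr)]
    rw [hb, K.act_conj_apply H hri haz, ha0, S.R_fix (inv_mem hr)]
  have hbf0 : K.act b f0 = f0 := by
    have e : K.act r⁻¹ y = f0 := by rw [← hry, K.act_inv_cancel H hrz]
    conv_lhs => rw [← e]
    rw [hb, K.act_conj_apply H hri haz, hyfix, e]
  refine ⟨b, K.lift f0, hbo, hbz, S.comm_of_five hbo hbz S.hx (by rw [S.hxv]; exact hb0),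
    S.comm_of_five hbo hbz (K.lift_mem f0) (by rw [K.vec_lift]; exact hbf0), K.lift_mem f0,
    K.vec_lift f0, fun w hw => hcyc w ?_⟩
  have hr0 := S.R_fix hr
  have hri0 := S.R_fix (inv_mem hr)
  rw [hb, inv_inv, K.res_mul H (Commute.mul_left hri haz).eq hrz
      (by rw [K.act_mul H hri haz, ha0, hri0]) hr0, S.R_res hr,
    K.res_mul H hri haz hri0 ha0, S.R_res (inv_mem hr)] at hw
  exact hw

namespace Five

variable {S} {b f : G} (F : S.Five b f)
include F

theorem fx : K.act b x0 = x0 := by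
  rw [← S.hxv, K.act_vec S.hyp F.bz S.hx, F.bx, mul_inv_cancel_right]

theorem ff : K.act b f0 = f0 := by
  rw [← F.fv, K.act_vec S.hyp F.bz F.fQ, F.bf, mul_inv_cancel_right]

theorem fixed {v : V} (h : K.act b v = v) : v.2 = 0 := by
  obtain ⟨h1, h2⟩ := split_f0 v
  refine h2.symm.trans (F.cyc _ ?_)
  rw [← K.res_perp S.hyp F.bz F.fx _ h1]
  rcases zcases v.1.2 with e | e
  · rw [e, zero_smul, add_zero, h]
  · rw [e, one_smul, K.act_add S.hyp F.bz, h, F.ff]

theorem b5 : b ^ 5 = 1 := F.ord ▸ pow_orderOf_eq_one b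

theorem f_sq : f * f = 1 := (K.invol_iff S.hyp.extra.ne_one F.fQ).2 (by rw [F.fv]; decide)

theorem f_conj_x : f * x * f⁻¹ = z * x := by
  rw [K.conj S.hx F.fQ, S.hxv, F.fv, if_neg (by decide)]

theorem a_sq : x * f * (x * f) = z := by
  have hfi : f⁻¹ = f := inv_eq_of_mul_eq_one_right F.f_sq
  have h := F.f_conj_x
  rw [hfi] at h
  calc x * f * (x * f) = x * (f * x * f) := by group
    _ = z * (x * x) := by rw [h, ← mul_assoc, S.xz, mul_assoc]
    _ = z := by rw [S.xx, mul_one]

theorem a_four : (x * f) ^ 4 = 1 := S.q_pow_four (mul_mem S.hx F.fQ)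

theorem x_conj_a : x * (x * f) * x⁻¹ = (x * f)⁻¹ := by
  rw [mul_inv_rev, inv_eq_of_mul_eq_one_right F.f_sq, S.x_inv, ← mul_assoc, S.xx, one_mul]

/-- The centralizer of `b` in `Q`. -/
noncomputable def dHom : DihedralGroup 4 →* G :=
  CfsgLib.TwoGroups.SD.dihedralHom (x * f) x F.a_four S.xx F.x_conj_a

theorem dHom_injective : Function.Injective F.dHom := by
  have hne := S.hyp.extra.ne_one
  refine CfsgLib.TwoGroups.SD.dihedralHom_injective _ _ F.a_four S.xx F.x_conj_a ?_ ?_
  · refine orderOf_eq_prime_pow (p := 2) (n := 1) (hp := ⟨Nat.prime_two⟩) ?_ F.a_four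
    rw [pow_one, pow_two, F.a_sq]; exact hne
  · intro hx
    rw [← mem_powers_iff_mem_zpowers] at hx
    obtain ⟨k, hk⟩ := hx
    change (x * f) ^ k = x at hk
    have hv : ∀ n : ℕ, K.vec ((x * f) ^ n) = 0 ∨ K.vec ((x * f) ^ n) = x0 + f0 := by
      intro n
      induction n with
      | zero => left; rw [pow_zero, K.vec_one]
      | succ n ih =>
        rw [pow_succ, K.mul (pow_mem (mul_mem S.hx F.fQ) n) (mul_mem S.hx F.fQ), K.mul S.hx F.fQ, S.hxv, F.fv]
        rcases ih with h | h <;> rw [h]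
        · right; rw [zero_add]
        · left; exact addV _
    rcases hv k with h | h <;> rw [hk, S.hxv] at h <;> exact absurd h (by decide)

theorem dHom_mem (d : DihedralGroup 4) : F.dHom d ∈ Q ∧ F.dHom d * b = b * F.dHom d := by
  have h1 : Commute (x * f) b := (Commute.symm F.bx).mul_left (Commute.symm F.bf)
  have haQ := mul_mem S.hx F.fQ
  rcases d with i | i
  · show (x * f) ^ (i.cast : ℤ) ∈ Q ∧ (x * f) ^ (i.cast : ℤ) * b = b * (x * f) ^ (i.cast : ℤ)
    exact ⟨zpow_mem haQ _, (h1.zpow_left _).eq⟩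
  · show x * (x * f) ^ (i.cast : ℤ) ∈ Q ∧ x * (x * f) ^ (i.cast : ℤ) * b = b * (x * (x * f) ^ (i.cast : ℤ))
    exact ⟨mul_mem S.hx (zpow_mem haQ _), ((Commute.symm F.bx).mul_left (h1.zpow_left _)).eq⟩

theorem mem_range {q : G} (hq : q ∈ Q) (hqb : q * b = b * q) : q ∈ F.dHom.range := by
  have hgen : x ∈ F.dHom.range ∧ x * f ∈ F.dHom.range := by
    refine ⟨⟨DihedralGroup.sr 0, ?_⟩, ⟨DihedralGroup.r 1, ?_⟩⟩
    · show x * (x * f) ^ ((0 : ZMod 4).cast : ℤ) = x
      rw [show ((0 : ZMod 4).cast : ℤ) = 0 from rfl, zpow_zero, mul_one]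
    · show (x * f) ^ ((1 : ZMod 4).cast : ℤ) = x * f
      rw [show ((1 : ZMod 4).cast : ℤ) = 1 from rfl, zpow_one]
  have hz : z ∈ F.dHom.range := by
    have := mul_mem hgen.2 hgen.2
    rwa [F.a_sq] at this
  have hf : f ∈ F.dHom.range := by
    have := mul_mem hgen.1 hgen.2
    rwa [← mul_assoc, S.xx, one_mul] at this
  have hel : ∀ i j, S.el i j ∈ F.dHom.range := fun i j => by
    unfold el
    split_ifs <;> simp only [one_mul, mul_one, one_mem, hz, hgen.1, mul_mem]
  have h2 := F.fixed (v := K.vec q) (by rw [K.act_vec S.hyp F.bz hq, ← hqb, mul_inv_cancel_right])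
  rcases zcases (K.vec q).1.2 with e | e
  · obtain ⟨i, j, rfl⟩ := S.exists_el hq e h2
    exact hel i j
  · obtain ⟨i, j, he⟩ := S.exists_el (mul_mem hq F.fQ)
      (by rw [K.mul hq F.fQ, F.fv, Prod.fst_add, Prod.snd_add, e]; decide)
      (by rw [K.mul hq F.fQ, F.fv, Prod.snd_add, h2]; decide)
    rw [show q = S.el i j * f by rw [← he, mul_assoc, F.f_sq, mul_one]]
    exact mul_mem (hel i j) hf

theorem no_swap {c : G} (hc : c * z = z * c) (hx : K.act c x0 = f0) (hf : K.act c f0 = x0)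
    (hW : ∀ w, K.act c (inj w) = inj w) : False := by
  have H := S.hyp
  have hE : K.act c = refl (x0 + f0) :=
    ext_basis (K.act_add H hc) (refl_add _) (by rw [hx, refl_facts.1]) (by rw [hf, refl_facts.2.1])
      (fun w => by rw [hW, refl_facts.2.2])
  obtain ⟨d, hd, hdv⟩ := K.transitive H (v := inj (pt 0)) (by decide) (by decide) (by decide : x0 ≠ 0) (by decide)
  set a := K.act d (x0 + f0) with ha
  have hac : ∀ v, K.act (d * c * d⁻¹) v = refl a v := by
    intro v
    rw [S.act_conj_back hd hc, hE]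
    show K.act d (K.act d⁻¹ v + B (K.act d⁻¹ v) (x0 + f0) • (x0 + f0)) = v + B v a • a
    have hB : B (K.act d⁻¹ v) (x0 + f0) = B v a := by
      rw [← K.act_B H hd, S.act_cancel hd, ← ha]
    rw [K.act_add H hd, S.act_cancel hd, hB]
    rcases zcases (B v a) with e | e <;> rw [e]
    · rw [zero_smul, zero_smul, K.act_zero H hd]
    · rw [one_smul, one_smul]
  have haq : qV 1 a = 1 := by rw [ha, K.act_q H hd]; decide
  have ha12 : a.1.2 = 0 := by
    have h := K.act_B H hd (inj (pt 0)) (x0 + f0)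
    rw [hdv, ← ha] at h
    have e : B x0 a = a.1.2 := by simp [B, x0, BW]
    rw [e, show B (inj (pt 0)) (x0 + f0) = 0 by decide] at h
    exact h
  have haw : qW 1 a.2 = 1 := by
    rw [qV, ha12, mul_zero, zero_add] at haq
    exact haq
  obtain ⟨i, j, hij, hsw⟩ := transposition a.2 haw
  have hcz := conj_comm_z hd hc
  have h0 : K.act (d * c * d⁻¹) x0 = x0 := by
    rw [hac]
    show x0 + B x0 a • a = x0
    rw [show B x0 a = a.1.2 by simp [B, x0, BW], ha12, zero_smul, add_zero]
  let cP : K.P H := ⟨⟨d * c * d⁻¹, mem_centralizer_singleton_iff.2 hcz⟩, h0⟩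
  have hswap : K.rho H cP = Equiv.swap i j := by
    refine Equiv.ext fun k => pt_injective ?_
    rw [← K.rho_spec H cP k, ← hsw]
    show (K.act (d * c * d⁻¹) (inj (pt k))).2 = _
    rw [hac]
    show (inj (pt k)).2 + (B (inj (pt k)) a • a).2 = _
    rw [show B (inj (pt k)) a = BW (pt k) a.2 by simp [B, inj]]
    rfl
  have hsgn : Equiv.Perm.sign (K.rho H cP) = 1 :=
    Equiv.Perm.mem_alternatingGroup.1 (S.rho_range ▸ ⟨cP, rfl⟩)
  rw [hswap, Equiv.Perm.sign_swap hij] at hsgn
  exact absurd hsgn (by decide)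

theorem cent {c : G} (hcz : c * z = z * c) (hcb : c * b = b * c) :
    ∃ q ∈ Q, q * b = b * q ∧ ∃ k < 5, c = q * b ^ k := by
  have H := S.hyp
  have hfix : ∀ {v}, K.act b v = v → K.act b (K.act c v) = K.act c v := fun {v} h => by
    rw [← K.act_mul H F.bz hcz, ← hcb, K.act_mul H hcz F.bz, h]
  have hx := singular_plane _ (S.sing_act hcz ⟨by decide, by decide⟩ : Sing1 (K.act c x0)).1
    (S.sing_act hcz ⟨by decide, by decide⟩ : Sing1 (K.act c x0)).2 (F.fixed (hfix F.fx))
  have hf := singular_plane _ (S.sing_act hcz ⟨by decide, by decide⟩ : Sing1 (K.act c f0)).1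
    (S.sing_act hcz ⟨by decide, by decide⟩ : Sing1 (K.act c f0)).2 (F.fixed (hfix F.ff))
  have hxf : K.act c x0 ≠ K.act c f0 := fun e => absurd (K.act_injective H hcz e) (by decide)
  -- the residual permutations
  let bP : K.P H := ⟨⟨b, mem_centralizer_singleton_iff.2 F.bz⟩, F.fx⟩
  set π := K.rho H bP with hπ
  have hπ5 : π ^ 5 = 1 := by
    rw [hπ, ← map_pow, show bP ^ 5 = 1 from Subtype.ext (Subtype.ext F.b5), map_one]
  have hπ1 : π ≠ 1 := fun h1 => (pt_singular 0).2 (F.cyc _ (by rw [K.rho_spec H bP 0, ← hπ, h1]; rfl))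
  have horth : ∀ w, K.act c (inj w) = inj (K.act c (inj w)).2 := by
    intro w
    have e1 := K.act_B H hcz (inj w) x0
    have e2 := K.act_B H hcz (inj w) f0
    rw [show B (inj w) x0 = 0 by simp [B, inj, x0, BW]] at e1
    rw [show B (inj w) f0 = 0 by simp [B, inj, f0, BW]] at e2
    have key : ∀ v : V, B v x0 = v.1.2 ∧ B v f0 = v.1.1 := fun v => by simp [B, x0, f0, BW]
    refine Prod.ext (Prod.ext ?_ ?_) rfl
    · rcases hf with h | h
      · rcases hx with h' | h'
        · exact absurd (h'.trans h.symm) hxf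
        · rw [h', (key _).2] at e1; exact e1
      · rw [h, (key _).2] at e2; exact e2
    · rcases hf with h | h
      · rw [h, (key _).1] at e2; exact e2
      · rcases hx with h' | h'
        · rw [h', (key _).1] at e1; exact e1
        · exact absurd (h'.trans h.symm) hxf
  set σ : W → W := fun w => (K.act c (inj w)).2 with hσ
  have hσadd : ∀ u v, σ (u + v) = σ u + σ v := fun u v => by
    show (K.act c (inj (u + v))).2 = _
    rw [show inj (u + v) = inj u + inj v from Prod.ext (by simp [inj]) rfl, K.act_add H hcz]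
    rfl
  have hσpt : ∀ i, ∃ j, σ (pt i) = pt j := by
    intro i
    refine pt_exists _ (fun e => ?_) ?_
    · have h := horth (pt i)
      rw [show (K.act c (inj (pt i))).2 = σ (pt i) from rfl, e,
        show inj (0 : W) = K.act c 0 by rw [K.act_zero H hcz]; rfl] at h
      exact (pt_singular i).2 (congrArg Prod.snd (K.act_injective H hcz h))
    · have h := K.act_q H hcz (inj (pt i))
      rw [horth, show qV 1 (inj (pt i)) = qW 1 (pt i) by simp [qV, inj], (pt_singular i).1] at h
      simpa [qV, inj, hσ] using h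
  choose s hs using hσpt
  have hcomm : ∀ i, s (π i) = π (s i) := fun i => by
    refine pt_injective ?_
    have key : ∀ i, K.act b (inj (pt i)) = inj (pt (π i)) := fun i => by
      have e1 := K.act_B H F.bz (inj (pt i)) f0
      rw [F.ff, show B (inj (pt i)) f0 = 0 by simp [B, inj, f0, BW]] at e1
      refine Prod.ext (Prod.ext ?_ (K.perp H F.bz F.fx _)) (K.rho_spec H bP i)
      have : B (K.act b (inj (pt i))) f0 = (K.act b (inj (pt i))).1.1 := by simp [B, f0, BW]
      rw [this] at e1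
      exact e1
    rw [← hs, ← K.rho_spec H bP (s i), ← hs i]
    show (K.act c (inj (pt (π i)))).2 = (K.act b (inj (K.act c (inj (pt i))).2)).2
    rw [← key, ← horth, ← K.act_mul H hcz F.bz, hcb, K.act_mul H F.bz hcz]
  obtain ⟨-, horbit⟩ := five_cycle π hπ5 hπ1
  obtain ⟨k, hk⟩ := horbit (s 0)
  have hiter : ∀ n : ℕ, ∀ i, s ((π ^ n) i) = (π ^ n) (s i) := by
    intro n
    induction n with
    | zero => intro i; rfl
    | succ n ih => intro i; rw [pow_succ', Equiv.Perm.mul_apply, hcomm, ih]; rfl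
  have hsk : ∀ i, s i = (π ^ (k : ℕ)) i := fun i => by
    obtain ⟨m, rfl⟩ := horbit i
    rw [hiter, ← hk, ← Equiv.Perm.mul_apply, ← Equiv.Perm.mul_apply, ← pow_add, ← pow_add, add_comm]
  have hkz : (b ^ (k : ℕ))⁻¹ * z = z * (b ^ (k : ℕ))⁻¹ :=
    (Commute.inv_left ((Commute.pow_left F.bz (k : ℕ)) : Commute (b ^ (k : ℕ)) z)).eq
  have hbk : (b ^ (k : ℕ)) * z = z * (b ^ (k : ℕ)) := (Commute.pow_left F.bz _).eq
  set e := (b ^ (k : ℕ))⁻¹ * c with he
  have hez : e * z = z * e := (Commute.mul_left hkz hcz).eq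
  have hpow : ∀ (n : ℕ), K.act (b ^ n) x0 = x0 ∧ K.act (b ^ n) f0 = f0 ∧
      ∀ i, (K.act (b ^ n) (inj (pt i))) = inj (pt ((π ^ n) i)) := by
    intro n
    induction n with
    | zero => exact ⟨by rw [pow_zero, K.act_one H], by rw [pow_zero, K.act_one H],
        fun i => by rw [pow_zero, K.act_one H]; rfl⟩
    | succ n ih =>
      have hn := (Commute.pow_left F.bz n).eq
      refine ⟨by rw [pow_succ', K.act_mul H F.bz hn, ih.1, F.fx],
        by rw [pow_succ', K.act_mul H F.bz hn, ih.2.1, F.ff], fun i => ?_⟩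
      rw [pow_succ', K.act_mul H F.bz hn, ih.2.2, pow_succ' π, Equiv.Perm.mul_apply]
      have e1 := K.act_B H F.bz (inj (pt ((π ^ n) i))) f0
      rw [F.ff, show B (inj (pt ((π ^ n) i))) f0 = 0 by simp [B, inj, f0, BW]] at e1
      refine Prod.ext (Prod.ext ?_ (K.perp H F.bz F.fx _)) (K.rho_spec H bP _)
      have : B (K.act b (inj (pt ((π ^ n) i)))) f0 = (K.act b (inj (pt ((π ^ n) i)))).1.1 := by
        simp [B, f0, BW]
      rw [this] at e1
      exact e1
  have hWe : ∀ w, K.act e (inj w) = inj w := by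
    have base : ∀ i, K.act e (inj (pt i)) = inj (pt i) := fun i => by
      refine K.act_injective H hbk ?_
      rw [← K.act_mul H hbk hez, he, mul_inv_cancel_left, horth,
        show (K.act c (inj (pt i))).2 = σ (pt i) from rfl, hs, hsk, (hpow k).2.2]
    intro w
    rcases pt_span w with rfl | ⟨i, rfl⟩ | ⟨i, j, -, rfl⟩
    · rw [show inj (0 : W) = 0 from rfl, K.act_zero H hez]
    · exact base i
    · rw [show inj (pt i + pt j) = inj (pt i) + inj (pt j) from Prod.ext (by simp [inj]) rfl,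
        K.act_add H hez, base, base]
  have hev : ∀ {v}, (K.act (b ^ (k : ℕ)) (K.act c v) = K.act c v) → K.act e v = K.act c v := fun {v} h => by
    refine K.act_injective H hbk ?_
    rw [← K.act_mul H hbk hez, he, mul_inv_cancel_left, h]
  rcases hx with hx | hx <;> rcases hf with hf | hf
  · exact absurd (hx.trans hf.symm) hxf
  · have hid : ∀ v, K.act e v = v := fun v => congrFun
      (ext_basis (g := fun v => v) (K.act_add H hez) (fun a b => rfl)
        (by rw [hev (by rw [hx]; exact (hpow k).1), hx]) (by rw [hev (by rw [hf]; exact (hpow k).2.1), hf])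
        hWe) v
    have heQ := K.mem_of_act H hez hid
    have heb : e * b = b * e :=
      (((Commute.refl b).pow_left (k : ℕ)).inv_left.mul_left hcb).eq
    refine ⟨e, heQ, heb, k, k.2, ?_⟩
    rw [((show Commute e b from heb).pow_right (k : ℕ)).eq, he, mul_inv_cancel_left]
  · exact (F.no_swap hez (by rw [hev (by rw [hx]; exact (hpow k).2.1), hx])
      (by rw [hev (by rw [hf]; exact (hpow k).1), hf]) hWe).elim
  · exact absurd (hx.trans hf.symm) hxf

theorem card_cent : Nat.card ↥(centralizer ({z} : Set G) ⊓ centralizer ({b} : Set G)) = 40 := by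
  rw [show (40 : ℕ) = Nat.card (DihedralGroup 4 × Fin 5) by
    rw [Nat.card_prod, Nat.card_fin, DihedralGroup.nat_card]]
  refine (Nat.card_eq_of_bijective (fun p : DihedralGroup 4 × Fin 5 =>
    (⟨F.dHom p.1 * b ^ (p.2 : ℕ), mem_inf.2 ⟨mem_centralizer_singleton_iff.2 ?_,
      mem_centralizer_singleton_iff.2 ?_⟩⟩ : ↥(centralizer ({z} : Set G) ⊓ centralizer ({b} : Set G)))) ⟨?_, ?_⟩).symm
  · exact (Commute.mul_left (S.hyp.extra.comm_z (F.dHom_mem p.1).1) (Commute.pow_left F.bz _)).eq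
  · exact (Commute.mul_left (F.dHom_mem p.1).2 ((Commute.refl b).pow_left _)).eq
  · rintro ⟨d, k⟩ ⟨d', k'⟩ h
    have h' : F.dHom d * b ^ (k : ℕ) = F.dHom d' * b ^ (k' : ℕ) := congrArg Subtype.val h
    have e : (F.dHom d')⁻¹ * F.dHom d = b ^ (k' : ℕ) * (b ^ (k : ℕ))⁻¹ := by
      calc (F.dHom d')⁻¹ * F.dHom d = (F.dHom d')⁻¹ * (F.dHom d * b ^ (k : ℕ)) * (b ^ (k : ℕ))⁻¹ := by group
        _ = b ^ (k' : ℕ) * (b ^ (k : ℕ))⁻¹ := by rw [h']; group
    have h4 := S.q_pow_four (mul_mem (inv_mem (F.dHom_mem d').1) (F.dHom_mem d).1)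
    have h5 : ((F.dHom d')⁻¹ * F.dHom d) ^ 5 = 1 := by
      rw [e, ((Commute.refl b).pow_pow _ _).inv_right.mul_pow, inv_pow, ← pow_mul, ← pow_mul, mul_comm,
        pow_mul, mul_comm (k : ℕ), pow_mul, F.b5, one_pow, one_pow, inv_one, mul_one]
    rw [pow_succ, h4, one_mul] at h5
    have hd := inv_mul_eq_one.1 h5
    obtain rfl := F.dHom_injective hd.symm
    have hk := pow_injOn_Iio_orderOf (by rw [F.ord]; exact k.2) (by rw [F.ord]; exact k'.2) (mul_left_cancel h')
    exact Prod.ext rfl (Fin.ext hk)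
  · rintro ⟨c, hc⟩
    obtain ⟨h1, h2⟩ := mem_inf.1 hc
    obtain ⟨q, hq, hqb, k, hk, rfl⟩ := F.cent (mem_centralizer_singleton_iff.1 h1) (mem_centralizer_singleton_iff.1 h2)
    obtain ⟨d, rfl⟩ := F.mem_range hq hqb
    exact ⟨(d, ⟨k, hk⟩), rfl⟩

/-- Some element of `C(z)` squares `b`. -/
theorem exists_square : ∃ c, c * z = z * c ∧ c * b * c⁻¹ = b ^ 2 := by
  classical
  by_contra hno
  have h5f : Fact (Nat.Prime 5) := ⟨Nat.prime_five⟩
  let C := centralizer ({z} : Set G)
  let b' : ↥C := ⟨b, mem_centralizer_singleton_iff.2 F.bz⟩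
  let Bz : Subgroup ↥C := zpowers b'
  have hBc : Nat.card Bz = 5 := by rw [Nat.card_zpowers, ← Subgroup.orderOf_coe]; exact F.ord
  have hfac : (Nat.card ↥C).factorization 5 = 1 := by
    rw [S.hyp.cardC, show 128 * 25920 = 5 * 663552 from rfl, Nat.factorization_mul (by norm_num) (by norm_num),
      Finsupp.add_apply, Nat.Prime.factorization_self Nat.prime_five,
      Nat.factorization_eq_zero_of_not_dvd (by norm_num : ¬ 5 ∣ 663552)]
  let P5 : Sylow 5 ↥C := Sylow.ofCard Bz (by rw [hBc, hfac, pow_one])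
  let N : Subgroup ↥C := normalizer (Bz : Set ↥C)
  have hn := card_sylow_modEq_one 5 ↥C
  rw [P5.card_eq_index_normalizer] at hn
  change N.index ≡ 1 [MOD 5] at hn
  let M : Subgroup ↥C := centralizer ({b'} : Set ↥C)
  have hM : Nat.card M = 40 := by
    rw [← F.card_cent]
    exact Nat.card_congr
      { toFun := fun c => ⟨((c : ↥C) : G), mem_inf.2 ⟨(c : ↥C).2,
          mem_centralizer_singleton_iff.2 (congrArg Subtype.val (mem_centralizer_singleton_iff.1 c.2))⟩⟩
        invFun := fun c => ⟨⟨(c : G), (mem_inf.1 c.2).1⟩,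
          mem_centralizer_singleton_iff.2 (Subtype.ext (mem_centralizer_singleton_iff.1 (mem_inf.1 c.2).2))⟩
        left_inv := fun c => rfl
        right_inv := fun c => rfl }
  have hMN : M ≤ N := by
    intro c hc
    rw [mem_normalizer_iff]
    intro n
    have hcm : Commute c b' := mem_centralizer_singleton_iff.1 hc
    constructor
    · rintro ⟨i, rfl⟩
      exact ⟨i, by show b' ^ i = c * b' ^ i * c⁻¹; rw [(hcm.zpow_right i).eq, mul_inv_cancel_right]⟩
    · rintro ⟨i, hi⟩
      refine ⟨i, ?_⟩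
      change b' ^ i = c * n * c⁻¹ at hi
      show b' ^ i = n
      calc b' ^ i = c⁻¹ * (c * b' ^ i) := by group
        _ = c⁻¹ * (b' ^ i * c) := by rw [(hcm.zpow_right i).eq]
        _ = n := by rw [hi]; group
  have hcase : ∀ c ∈ N, c * b' * c⁻¹ = b' ∨ c * b' * c⁻¹ = b'⁻¹ := by
    intro c hc
    have hm : c * b' * c⁻¹ ∈ Bz := (mem_normalizer_iff.1 hc b').1 (mem_zpowers _)
    rw [← mem_powers_iff_mem_zpowers] at hm
    obtain ⟨k, hk⟩ := hm
    change b' ^ k = _ at hk
    have hb5 : b' ^ 5 = 1 := Subtype.ext F.b5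
    rw [pow_eq_pow_mod k hb5] at hk
    have := Nat.mod_lt k (show 5 > 0 by norm_num)
    have hne : c * b' * c⁻¹ ≠ 1 := fun e => by
      rw [conj_eq_one_iff] at e
      have ho := F.ord
      rw [show b = (b' : G) from rfl, e, OneMemClass.coe_one, orderOf_one] at ho
      norm_num at ho
    have hz' : ∀ {d : ↥C}, (d : G) * z = z * d := fun {d} => mem_centralizer_singleton_iff.1 d.2
    rcases (by omega : k % 5 = 0 ∨ k % 5 = 1 ∨ k % 5 = 2 ∨ k % 5 = 3 ∨ k % 5 = 4) with e | e | e | e | e <;>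
      rw [e] at hk
    · exact absurd (hk.symm.trans (pow_zero _)) hne
    · exact Or.inl (hk.symm.trans (pow_one _))
    · exact absurd ⟨_, hz', (congrArg Subtype.val hk).symm⟩ hno
    · exfalso
      refine hno ⟨((c⁻¹ : ↥C) : G), hz', ?_⟩
      have e2 : c⁻¹ * b' * c⁻¹⁻¹ = b' ^ 2 := by
        have h1 : c * b' ^ 2 * c⁻¹ = b' := by
          rw [← conj_pow, ← hk, ← pow_mul, pow_eq_pow_mod _ hb5, pow_one]
        calc c⁻¹ * b' * c⁻¹⁻¹ = c⁻¹ * (c * b' ^ 2 * c⁻¹) * c⁻¹⁻¹ := by rw [h1]
          _ = b' ^ 2 := by group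
      exact congrArg Subtype.val e2
    · refine Or.inr (hk.symm.trans ?_)
      rw [eq_inv_iff_mul_eq_one, ← pow_succ, hb5]
  have hidx : (M.subgroupOf N).index ≤ 2 := by
    by_cases hex : ∃ c ∈ N, c * b' * c⁻¹ = b'⁻¹
    · obtain ⟨c, hcN, hc⟩ := hex
      refine le_of_eq (index_eq_two_iff.2 ⟨⟨c, hcN⟩, fun a => ?_⟩)
      have hne : b'⁻¹ ≠ b' := fun e => by
        have h2 : b ^ 2 = 1 := by
          have := congrArg Subtype.val (inv_eq_iff_mul_eq_one.1 e)
          rw [pow_two]; exact this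
        have := orderOf_dvd_of_pow_eq_one h2
        rw [F.ord] at this
        norm_num at this
      have hmem : ∀ d : ↥N, d ∈ M.subgroupOf N ↔ (d : ↥C) * b' * (d : ↥C)⁻¹ = b' := fun d => by
        rw [mem_subgroupOf, mem_centralizer_singleton_iff, mul_inv_eq_iff_eq_mul]
      rw [hmem, hmem, Subgroup.coe_mul]
      have e : (a : ↥C) * c * b' * ((a : ↥C) * c)⁻¹ = ((a : ↥C) * b' * (a : ↥C)⁻¹)⁻¹ := by
        rw [show (a : ↥C) * c * b' * ((a : ↥C) * c)⁻¹ = (a : ↥C) * (c * b' * c⁻¹) * (a : ↥C)⁻¹ by group, hc]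
        group
      rw [e]
      rcases hcase a a.2 with h | h <;> rw [h]
      · exact Or.inr ⟨rfl, hne⟩
      · exact Or.inl ⟨inv_inv _, hne⟩
    · have : M.subgroupOf N = ⊤ := eq_top_iff.2 fun a _ => by
        rw [mem_subgroupOf, mem_centralizer_singleton_iff]
        rcases hcase a a.2 with h | h
        · exact mul_inv_eq_iff_eq_mul.1 h
        · exact absurd ⟨a, a.2, h⟩ hex
      rw [this, index_top]
      norm_num
  have h1 := (M.subgroupOf N).card_mul_index
  rw [Nat.card_congr (subgroupOfEquivOfLe hMN).toEquiv, hM] at h1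
  have h2 := N.card_mul_index
  rw [S.hyp.cardC, ← h1] at h2
  have hpos : 0 < (M.subgroupOf N).index := Nat.pos_of_ne_zero index_ne_zero_of_finite
  interval_cases hi : (M.subgroupOf N).index
  · rw [show N.index = 82944 by omega] at hn
    exact absurd hn (by decide)
  · rw [show N.index = 41472 by omega] at hn
    exact absurd hn (by decide)

end Five

end Base

end CfsgLib.SuzType
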