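import Mathlib
import Cfsg.Agent.Lib.SuzType.FiveLocal
import Cfsg.Agent.Lib.InvChar.DihedralEight

/-!
The centralizer of an element of order five centralized by `z`, and the lines of a Sylow 5-subgroup.
-/

set_option autoImplicit false
set_option maxHeartbeats 1000000
set_option linter.style.longLine false
set_option linter.unusedSectionVars false

namespace CfsgLib.SuzType

open Subgroup CfsgLib.InvChar.DihedralEight

/-- A Sylow 5-subgroup in a group of order 360 with involution centralizers of order eight. -/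
theorem five_in_360 {X : Type*} [Group X] [Finite X] (hX : Nat.card X = 360)
    (h8 : ∀ u : X, orderOf u = 2 → Nat.card (centralizer ({u} : Set X)) = 8)
    {T : Subgroup X} (hT : Nat.card T = 5) :
    centralizer (T : Set X) = T ∧ Nat.card (normalizer (T : Set X)) = 10 := by
  classical
  have h2f : Fact (Nat.Prime 2) := ⟨Nat.prime_two⟩
  have h3f : Fact (Nat.Prime 3) := ⟨Nat.prime_three⟩
  have h5f : Fact (Nat.Prime 5) := ⟨Nat.prime_five⟩
  have : IsCyclic T := isCyclic_of_prime_card hT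
  have : IsMulCommutative T := IsCyclic.isMulCommutative
  set C := centralizer (T : Set X)
  set N := normalizer (T : Set X)
  have hTC : T ≤ C := fun t ht => mem_centralizer_iff.2 fun s hs =>
    congrArg Subtype.val (mul_comm' (⟨s, hs⟩ : T) ⟨t, ht⟩)
  have hCN : C ≤ N := centralizer_le_normalizer (T : Set X)
  have hnocomm : ∀ u : X, orderOf u = 2 → u ∉ C := fun u hu hc => by
    have hle : T ≤ centralizer ({u} : Set X) := fun t ht =>
      mem_centralizer_singleton_iff.2 (mem_centralizer_iff.1 hc t ht)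
    have := card_dvd_of_le hle
    rw [hT, h8 u hu] at this
    norm_num at this
  have hodd : ¬ 2 ∣ Nat.card C := fun h => by
    obtain ⟨u, hu⟩ := exists_prime_orderOf_dvd_card' (G := C) 2 h
    exact hnocomm u.1 (by rwa [Subgroup.orderOf_coe]) u.2
  -- index of the centralizer in the normalizer
  let φ : ↥N →* MulAut T := T.normalizerMonoidHom
  have hker : Nat.card φ.ker = Nat.card C := by
    have : φ.ker = C.subgroupOf N := by
      simp [φ, C, N, Subgroup.normalizerMonoidHom_ker]
    rw [this, Nat.card_congr (subgroupOfEquivOfLe hCN).toEquiv]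
  have hrange : Nat.card φ.range ∣ 4 := by
    have h := Subgroup.card_subgroup_dvd_card φ.range
    rwa [IsCyclic.card_mulAut, hT, Nat.totient_prime Nat.prime_five] at h
  have hN : Nat.card N = Nat.card C * Nat.card φ.range := by
    rw [← hker, ← Subgroup.index_ker, φ.ker.card_mul_index]
  -- Sylow count
  have hfac : (Nat.card X).factorization 5 = 1 := by
    rw [hX, show 360 = 5 * 72 from rfl, Nat.factorization_mul (by norm_num) (by norm_num),
      Finsupp.add_apply, Nat.Prime.factorization_self Nat.prime_five,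
      Nat.factorization_eq_zero_of_not_dvd (by norm_num : ¬ 5 ∣ 72)]
  let P5 : Sylow 5 X := Sylow.ofCard T (by rw [hT, hfac, pow_one])
  have hn := card_sylow_modEq_one 5 X
  rw [P5.card_eq_index_normalizer] at hn
  change N.index ≡ 1 [MOD 5] at hn
  have hNi := N.card_mul_index
  rw [hX] at hNi
  have h5C : 5 ∣ Nat.card C := hT ▸ card_dvd_of_le hTC
  have hidx : N.index ∈ Nat.divisors 72 := by
    refine Nat.mem_divisors.2 ⟨?_, by norm_num⟩
    obtain ⟨m, hm⟩ := (hT ▸ card_dvd_of_le (hTC.trans hCN) : 5 ∣ Nat.card N)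
    rw [hm, mul_assoc] at hNi
    exact ⟨m, by linarith⟩
  obtain ⟨cm, hcm⟩ := h5C
  have hr4 : Nat.card φ.range ∈ Nat.divisors 4 := Nat.mem_divisors.2 ⟨hrange, by norm_num⟩
  rw [show Nat.divisors 4 = {1, 2, 4} from rfl] at hr4
  rw [show Nat.divisors 72 = {1, 2, 3, 4, 6, 8, 9, 12, 18, 24, 36, 72} from by decide] at hidx
  simp only [Finset.mem_insert, Finset.mem_singleton] at hr4 hidx
  have hn' : N.index % 5 = 1 := hn
  have hN3 : N.index = 1 ∨ N.index = 6 ∨ N.index = 36 := by omega
  have not_sixty : Nat.card C = 15 → Nat.card φ.range = 4 → False := by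
    intro hC15 hr
    obtain ⟨a, ha⟩ := exists_prime_orderOf_dvd_card' (G := C) 3 (by rw [hC15]; norm_num)
    have ha' : orderOf (a : X) = 3 := by rw [Subgroup.orderOf_coe, ha]
    -- the subgroup generated by `a` is the only one of order three in `C`
    have huniq : ∀ c : C, orderOf c = 3 → c ∈ zpowers a := by
      intro c hc
      have hfac3 : (Nat.card C).factorization 3 = 1 := by
        rw [hC15, show 15 = 3 * 5 from rfl, Nat.factorization_mul (by norm_num) (by norm_num),
          Finsupp.add_apply, Nat.Prime.factorization_self Nat.prime_three,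
          Nat.factorization_eq_zero_of_not_dvd (by norm_num : ¬ 3 ∣ 5)]
      let A : Sylow 3 C := Sylow.ofCard (zpowers a) (by rw [Nat.card_zpowers, ha, hfac3, pow_one])
      let A' : Sylow 3 C := Sylow.ofCard (zpowers c) (by rw [Nat.card_zpowers, hc, hfac3, pow_one])
      have hs := card_sylow_modEq_one 3 C
      have hd := A.card_dvd_index
      rw [show (A : Subgroup C).index = 5 from by
        have h := (zpowers a).card_mul_index
        rw [Nat.card_zpowers, ha, hC15] at h
        show (zpowers a).index = 5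
        omega] at hd
      have h1 : Nat.card (Sylow 3 C) = 1 := by
        rcases (Nat.dvd_prime Nat.prime_five).1 hd with h | h
        · exact h
        · rw [h] at hs; exact absurd hs (by decide)
      have := (Nat.card_eq_one_iff_unique.1 h1).1
      have e : (A' : Subgroup C) = A := by rw [Subsingleton.elim A' A]
      have hm : c ∈ (A' : Subgroup C) := mem_zpowers c
      rw [e] at hm
      exact hm
    obtain ⟨n, hn4⟩ : ∃ n : ↥N, 2 ∣ orderOf (φ n) ∧ 4 ∣ orderOf n := by
      have : IsCyclic (MulAut T) := by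
        have e : MulAut T ≃* (ZMod (Nat.card T))ˣ := IsCyclic.mulAutMulEquiv T
        rw [hT] at e
        exact isCyclic_of_surjective e.symm.toMonoidHom e.symm.surjective
      obtain ⟨r, hr'⟩ := IsCyclic.exists_ofOrder_eq_natCard (α := φ.range)
      obtain ⟨n, hn⟩ := r.2
      refine ⟨n, ?_, ?_⟩
      · rw [hn, Subgroup.orderOf_coe, hr', hr]; norm_num
      · have := orderOf_map_dvd φ n
        rwa [hn, Subgroup.orderOf_coe, hr', hr] at this
    obtain ⟨-, hn4⟩ := hn4
    have hm : (n : X) * (a : X) * (n : X)⁻¹ ∈ C := by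
      rw [mem_centralizer_iff]
      intro t ht
      have ht' : (n : X)⁻¹ * t * n ∈ T := (mem_normalizer_iff''.1 n.2 t).1 ht
      have := mem_centralizer_iff.1 a.2 _ ht'
      calc t * ((n : X) * a * (n : X)⁻¹) = n * ((n : X)⁻¹ * t * n * a) * (n : X)⁻¹ := by group
        _ = n * (a * ((n : X)⁻¹ * t * n)) * (n : X)⁻¹ := by rw [this]
        _ = (n : X) * a * (n : X)⁻¹ * t := by group
    have hm3 := huniq ⟨_, hm⟩ (by
      rw [← Subgroup.orderOf_coe]
      exact (orderOf_injective (MulAut.conj (n : X)).toMonoidHom (MulAut.conj _).injective _).trans ha')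
    rw [← mem_powers_iff_mem_zpowers] at hm3
    obtain ⟨k, hk⟩ := hm3
    have hk' : (a : X) ^ k = (n : X) * a * (n : X)⁻¹ := congrArg Subtype.val hk
    have h3 : (a : X) ^ 3 = 1 := ha' ▸ pow_orderOf_eq_one _
    have hcomm : Commute ((n : X) ^ 2) a := by
      refine mul_inv_eq_iff_eq_mul.1 ?_
      have e : (n : X) ^ 2 * a * ((n : X) ^ 2)⁻¹ = (a : X) ^ (k * k) := by
        rw [pow_two, show (n : X) * n * a * ((n : X) * n)⁻¹ = n * ((n : X) * a * (n : X)⁻¹) * (n : X)⁻¹ by group,
          ← hk', ← conj_pow, ← hk', ← pow_mul]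
      rw [e]
      have hne : (a : X) ^ k ≠ 1 := by
        rw [hk']
        intro h
        rw [conj_eq_one_iff] at h
        rw [h, orderOf_one] at ha'
        norm_num at ha'
      rw [pow_eq_pow_mod _ h3] at hne ⊢
      have hk3 : k % 3 ≠ 0 := fun h => hne (by rw [h, pow_zero])
      have := Nat.mod_lt k (show 3 > 0 by norm_num)
      have h13 : k * k % 3 = 1 := by
        rw [Nat.mul_mod]
        rcases (by omega : k % 3 = 1 ∨ k % 3 = 2) with h | h <;> rw [h]
      rw [h13, pow_one]
    obtain ⟨l, hl⟩ := hn4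
    have hu : orderOf ((n : X) ^ (2 * l)) = 2 := by
      have hpos : 0 < l := by
        have := orderOf_pos n
        omega
      rw [orderOf_pow_of_dvd (by omega) ⟨2, by rw [Subgroup.orderOf_coe, hl]; ring⟩, Subgroup.orderOf_coe, hl]
      exact Nat.div_eq_of_eq_mul_left (by omega) (by ring)
    have hle : zpowers (a : X) ≤ centralizer ({(n : X) ^ (2 * l)} : Set X) :=
      zpowers_le.2 (mem_centralizer_singleton_iff.2 (by
        rw [pow_mul]
        exact ((hcomm.pow_left l).eq).symm))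
    have := card_dvd_of_le hle
    rw [Nat.card_zpowers, ha', h8 _ hu] at this
    norm_num at this
  have hC5 : Nat.card C = 5 := by
    rcases hN3 with h | h | h <;> rw [h] at hNi <;> rcases hr4 with r | r | r <;> rw [r] at hN <;>
      try omega
    exact absurd r (fun r => not_sixty (by omega) r)
  refine ⟨(eq_of_le_of_card_ge hTC (by rw [hC5, hT])).symm, ?_⟩
  rcases hr4 with r | r | r <;> rw [r, hC5] at hN <;> rcases hN3 with h | h | h <;> rw [h] at hNi <;> omega

variable {G : Type*} [Group G] [Finite G] {z : G} {Q : Subgroup G}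

namespace Base.Five

variable {K : Coord z Q 1} {x g : G} {S : Base K x g} {b f : G} (F : S.Five b f)
include F

/-- Conjugates of `z` commuting with `b` are conjugate to `z` under its centralizer. -/
theorem conj_in_cent {w : G} (hw : IsConj z w) (hwb : w * b = b * w) :
    ∃ h, h * b = b * h ∧ h * z * h⁻¹ = w := by
  classical
  have h5f : Fact (Nat.Prime 5) := ⟨Nat.prime_five⟩
  obtain ⟨c, hc⟩ := isConj_iff.1 hw
  let C := centralizer ({z} : Set G)
  have hb' : c⁻¹ * b * c ∈ C := mem_centralizer_singleton_iff.2 (by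
    calc c⁻¹ * b * c * z = c⁻¹ * (b * (c * z * c⁻¹)) * c := by group
      _ = c⁻¹ * (c * z * c⁻¹ * b) * c := by rw [hc, hwb]
      _ = z * (c⁻¹ * b * c) := by group)
  let b1 : ↥C := ⟨b, mem_centralizer_singleton_iff.2 F.bz⟩
  let b2 : ↥C := ⟨_, hb'⟩
  have hfac : (Nat.card ↥C).factorization 5 = 1 := by
    rw [S.hyp.cardC, show 128 * 25920 = 5 * 663552 from rfl, Nat.factorization_mul (by norm_num) (by norm_num),
      Finsupp.add_apply, Nat.Prime.factorization_self Nat.prime_five,
      Nat.factorization_eq_zero_of_not_dvd (by norm_num : ¬ 5 ∣ 663552)]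
  have ho1 : orderOf b1 = 5 := by rw [← Subgroup.orderOf_coe]; exact F.ord
  have ho2 : orderOf b2 = 5 := by
    rw [← Subgroup.orderOf_coe]
    show orderOf (c⁻¹ * b * c) = 5
    rw [show c⁻¹ * b * c = c⁻¹ * b * c⁻¹⁻¹ by group, ord_conj, F.ord]
  let P1 : Sylow 5 ↥C := Sylow.ofCard (zpowers b1) (by rw [Nat.card_zpowers, ho1, hfac, pow_one])
  let P2 : Sylow 5 ↥C := Sylow.ofCard (zpowers b2) (by rw [Nat.card_zpowers, ho2, hfac, pow_one])
  obtain ⟨a, ha⟩ := MulAction.exists_smul_eq ↥C P1 P2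
  have hm : a * b1 * a⁻¹ ∈ ((a • P1 : Sylow 5 ↥C) : Subgroup ↥C) := by
    rw [Sylow.coe_subgroup_smul, mem_pointwise_smul_iff_inv_smul_mem]
    simp only [← map_inv, MulAut.smul_def, MulAut.conj_apply, inv_inv]
    rw [show a⁻¹ * (a * b1 * a⁻¹) * a = b1 by group]
    exact mem_zpowers b1
  rw [ha] at hm
  have hm' : a * b1 * a⁻¹ ∈ zpowers b2 := hm
  rw [← mem_powers_iff_mem_zpowers] at hm'
  obtain ⟨i, hi⟩ := hm'
  have hi' : (c⁻¹ * b * c) ^ i = (a : G) * b * (a : G)⁻¹ := congrArg Subtype.val hi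
  set d := c * (a : G) with hd
  have hdb : d * b * d⁻¹ = b ^ i := by
    calc d * b * d⁻¹ = c * ((a : G) * b * (a : G)⁻¹) * c⁻¹ := by rw [hd]; group
      _ = c * (c⁻¹ * b * c) ^ i * c⁻¹ := by rw [hi']
      _ = b ^ i := by rw [← conj_pow]; group
  have hdz : d * z * d⁻¹ = w := by
    rw [hd, show c * (a : G) * z * (c * (a : G))⁻¹ = c * ((a : G) * z * (a : G)⁻¹) * c⁻¹ by group,
      mem_centralizer_singleton_iff.1 a.2, mul_inv_cancel_right, hc]
  obtain ⟨s, hsz, hsb⟩ := F.exists_square
  have hpow : ∀ m : ℕ, s ^ m * b * (s ^ m)⁻¹ = b ^ (2 ^ m) := by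
    intro m
    induction m with
    | zero => simp
    | succ m ih =>
      calc s ^ (m + 1) * b * (s ^ (m + 1))⁻¹ = s * (s ^ m * b * (s ^ m)⁻¹) * s⁻¹ := by
            rw [pow_succ']; group
        _ = (b ^ 2) ^ 2 ^ m := by rw [ih, ← conj_pow, hsb]
        _ = b ^ 2 ^ (m + 1) := by rw [← pow_mul, pow_succ']
  have hi5 : i % 5 ≠ 0 := fun h => by
    rw [pow_eq_pow_mod i F.b5, h, pow_zero, conj_eq_one_iff] at hdb
    have := F.ord
    rw [hdb, orderOf_one] at this
    norm_num at this
  obtain ⟨m, hm2⟩ : ∃ m : ℕ, i * 2 ^ m % 5 = 1 := by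
    have := Nat.mod_lt i (show 5 > 0 by norm_num)
    rcases (by omega : i % 5 = 1 ∨ i % 5 = 2 ∨ i % 5 = 3 ∨ i % 5 = 4) with h | h | h | h
    · exact ⟨0, by simp [h]⟩
    · exact ⟨3, by omega⟩
    · exact ⟨1, by omega⟩
    · exact ⟨2, by omega⟩
  refine ⟨d * s ^ m, mul_inv_eq_iff_eq_mul.1 ?_, ?_⟩
  · rw [show d * s ^ m * b * (d * s ^ m)⁻¹ = d * (s ^ m * b * (s ^ m)⁻¹) * d⁻¹ by group, hpow, ← conj_pow,
      hdb, ← pow_mul, pow_eq_pow_mod _ F.b5, hm2, pow_one]
  · rw [show d * s ^ m * z * (d * s ^ m)⁻¹ = d * (s ^ m * z * (s ^ m)⁻¹) * d⁻¹ by group,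
      (Commute.pow_left hsz m).eq, mul_inv_cancel_right, hdz]

theorem q_conj {w : G} (hQ : w ∈ Q) (h2 : w * w = 1) (h1 : w ≠ 1) (hwb : w * b = b * w) :
    ∃ h, h * b = b * h ∧ h * z * h⁻¹ = w := by
  obtain ⟨c, hc⟩ := K.conj_of_mem S.hyp hQ h2 h1
  exact F.conj_in_cent (isConj_iff.2 ⟨c, hc⟩) hwb

theorem Y_facts (P : Subgroup G) (hP : Nat.card P = 25) (hbP : b ∈ P) :
    centralizer (P : Set G) = P ∧
      Nat.card ↥(centralizer ({b} : Set G) ⊓ normalizer (P : Set G)) = 50 ∧
      Nat.card ↥(centralizer ({b} : Set G)) = 1800 := by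
  classical
  have h2f : Fact (Nat.Prime 2) := ⟨Nat.prime_two⟩
  have h5f : Fact (Nat.Prime 5) := ⟨Nat.prime_five⟩
  have H := S.hyp
  set Y := centralizer ({b} : Set G) with hY
  have hbY : b ∈ Y := mem_centralizer_singleton_iff.2 rfl
  have hzY : z ∈ Y := mem_centralizer_singleton_iff.2 F.bz.symm
  let b' : ↥Y := ⟨b, hbY⟩
  have hcen : ∀ y : ↥Y, y * b' = b' * y := fun y => Subtype.ext (mem_centralizer_singleton_iff.1 y.2)
  haveI hnorm : (zpowers b').Normal := ⟨fun n hn y => by
    obtain ⟨i, rfl⟩ := hn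
    refine ⟨i, ?_⟩
    show b' ^ i = y * b' ^ i * y⁻¹
    rw [((show Commute y b' from hcen y).zpow_right i).eq, mul_inv_cancel_right]⟩
  let q : ↥Y →* ↥Y ⧸ zpowers b' := QuotientGroup.mk' (zpowers b')
  have hq : Function.Surjective q := QuotientGroup.mk'_surjective _
  have hb5 : Nat.card (zpowers b') = 5 := by
    rw [Nat.card_zpowers, ← Subgroup.orderOf_coe]; exact F.ord
  have hYX : Nat.card ↥Y = 5 * Nat.card (↥Y ⧸ zpowers b') := by
    rw [Subgroup.card_eq_card_quotient_mul_card_subgroup (zpowers b'), hb5, mul_comm]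
  -- a lift of a power of `b` in the four group-free part
  have hsplit : ∀ {v : ↥Y}, v ∈ zpowers b' → ∀ {n : ℕ}, ¬ 5 ∣ n → v ^ n = 1 → v = 1 := by
    intro v hv n hn hvn
    have h1 : orderOf v ∣ 5 := hb5 ▸ (orderOf_dvd_of_mem_zpowers hv).trans (by rw [Nat.card_zpowers])
    rcases (Nat.dvd_prime Nat.prime_five).1 h1 with h | h
    · exact orderOf_eq_one_iff.1 h
    · exact absurd (h ▸ orderOf_dvd_of_pow_eq_one hvn) hn
  let zb : ↥Y := ⟨z, hzY⟩
  have hzb2 : zb * zb = 1 := Subtype.ext H.extra.sq_one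
  have hzne : zb ≠ 1 := fun e => H.extra.ne_one (congrArg Subtype.val e)
  have hzq : orderOf (q zb) = 2 := by
    refine orderOf_eq_prime (by rw [pow_two, ← map_mul, hzb2, map_one]) fun e => hzne ?_
    rw [← MonoidHom.mem_ker, QuotientGroup.ker_mk'] at e
    exact hsplit e (n := 2) (by norm_num) (by rw [pow_two, hzb2])
  have hzcomm : ∀ c : ↥Y, q c * q zb = q zb * q c → c * zb = zb * c := by
    intro c hc
    have h1 : (c * zb * c⁻¹ * zb) ∈ zpowers b' := by
      rw [← QuotientGroup.ker_mk' (zpowers b'), MonoidHom.mem_ker]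
      show q (c * zb * c⁻¹ * zb) = 1
      rw [map_mul, map_mul, map_mul, map_inv, hc, mul_inv_cancel_right, ← map_mul, hzb2, map_one]
    obtain ⟨i, hi⟩ := h1
    change b' ^ i = _ at hi
    have e : c * zb * c⁻¹ = b' ^ i * zb := by rw [hi, mul_assoc (c * zb * c⁻¹), hzb2, mul_one]
    have h2 : (c * zb * c⁻¹) * (c * zb * c⁻¹) = 1 := by
      rw [show c * zb * c⁻¹ * (c * zb * c⁻¹) = c * (zb * zb) * c⁻¹ by group, hzb2]; group
    rw [e] at h2
    have hc' : Commute (b' ^ i) zb := ((show Commute zb b' from hcen zb).symm.zpow_left i)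
    have h3 : (b' ^ i) ^ 2 = 1 := by
      rw [pow_two, ← h2, ← mul_assoc (b' ^ i * zb), mul_assoc (b' ^ i) zb (b' ^ i), ← hc'.eq,
        ← mul_assoc, mul_assoc (b' ^ i * b' ^ i), hzb2, mul_one]
    rw [hsplit (zpow_mem (mem_zpowers b') i) (n := 2) (by norm_num) h3, one_mul] at e
    exact mul_inv_eq_iff_eq_mul.1 e
  let dY : DihedralGroup 4 →* ↥Y :=
    F.dHom.codRestrict Y fun d => mem_centralizer_singleton_iff.2 (F.dHom_mem d).2
  have hdz : ∀ d, dY d * zb = zb * dY d := fun d => Subtype.ext (H.extra.comm_z (F.dHom_mem d).1)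
  let ψ : DihedralGroup 4 →* ↥(centralizer ({q zb} : Set (↥Y ⧸ zpowers b'))) :=
    (q.comp dY).codRestrict _ fun d => mem_centralizer_singleton_iff.2 (by
      show q (dY d) * q zb = q zb * q (dY d)
      rw [← map_mul, hdz, map_mul])
  have hψ : Function.Bijective ψ := by
    refine ⟨fun d d' h => ?_, ?_⟩
    · have h' : q (dY d) = q (dY d') := congrArg Subtype.val h
      have hm : (dY d')⁻¹ * dY d ∈ zpowers b' := by
        rw [← QuotientGroup.ker_mk' (zpowers b'), MonoidHom.mem_ker]
        show q _ = 1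
        rw [map_mul, map_inv, h', inv_mul_cancel]
      have h4 : ((dY d')⁻¹ * dY d) ^ 4 = 1 := Subtype.ext
        (S.q_pow_four (mul_mem (inv_mem (F.dHom_mem d').1) (F.dHom_mem d).1))
      exact (F.dHom_injective (congrArg Subtype.val (inv_mul_eq_one.1 (hsplit hm (by norm_num) h4)))).symm
    · rintro ⟨c, hc⟩
      obtain ⟨c, rfl⟩ := hq c
      have hcz := hzcomm c (mem_centralizer_singleton_iff.1 hc)
      obtain ⟨a, ha, hab, k, -, hk⟩ := F.cent (congrArg Subtype.val hcz) (mem_centralizer_singleton_iff.1 c.2)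
      obtain ⟨d, rfl⟩ := F.mem_range ha hab
      refine ⟨d, Subtype.ext ?_⟩
      show q (dY d) = q c
      rw [show c = dY d * b' ^ k from Subtype.ext hk, map_mul,
        show q (b' ^ k) = 1 from (QuotientGroup.eq_one_iff _).2 (pow_mem (mem_zpowers b') k), mul_one]
  let e8 := (MulEquiv.ofBijective ψ hψ).symm
  have hD := isD8Centralizer_of_equiv hzq e8
  obtain ⟨T2, hT2⟩ := exists_sylow_eq hD
  have hclass : ∀ u : ↥Y ⧸ zpowers b', orderOf u = 2 → IsConj (q zb) u := by
    intro u hu
    have hp : IsPGroup 2 (zpowers u) := IsPGroup.of_card (n := 1) (by rw [Nat.card_zpowers, hu, pow_one])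
    obtain ⟨T', hT'⟩ := hp.exists_le_sylow
    obtain ⟨a, ha⟩ := MulAction.exists_smul_eq (↥Y ⧸ zpowers b') T' T2
    have hm : a * u * a⁻¹ ∈ ((a • T' : Sylow 2 _) : Subgroup (↥Y ⧸ zpowers b')) := by
      rw [Sylow.coe_subgroup_smul, mem_pointwise_smul_iff_inv_smul_mem]
      simp only [← map_inv, MulAut.smul_def, MulAut.conj_apply, inv_inv]
      rw [show a⁻¹ * (a * u * a⁻¹) * a = u by group]
      exact hT' (mem_zpowers u)
    rw [ha, hT2] at hm
    obtain ⟨d, hd⟩ := hψ.2 ⟨_, hm⟩
    have hd' : q (dY d) = a * u * a⁻¹ := congrArg Subtype.val hd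
    have hd2 : d * d = 1 := hψ.1 (Subtype.ext (by
      show q (dY (d * d)) = q (dY 1)
      rw [map_mul, map_mul, hd', map_one, map_one, show a * u * a⁻¹ * (a * u * a⁻¹) = a * (u * u) * a⁻¹ by group,
        ← pow_two, ← hu, pow_orderOf_eq_one]
      group))
    have hd1 : F.dHom d ≠ 1 := fun e => by
      have hdd : d = 1 := F.dHom_injective (e.trans (map_one _).symm)
      rw [hdd, map_one, map_one] at hd'
      rw [conj_eq_one_iff.1 hd'.symm, orderOf_one] at hu
      norm_num at hu
    obtain ⟨h, hhb, hhz⟩ := F.q_conj (F.dHom_mem d).1 (by rw [← map_mul, hd2, map_one]) hd1 (F.dHom_mem d).2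
    refine IsConj.trans (isConj_iff.2 ⟨q ⟨h, mem_centralizer_singleton_iff.2 hhb⟩, ?_⟩)
      (IsConj.symm (isConj_iff.2 ⟨a, hd'.symm⟩))
    rw [← map_mul, ← map_inv, ← map_mul]
    exact congrArg q (Subtype.ext hhz)
  have hall : ∀ u : ↥Y ⧸ zpowers b', orderOf u = 2 → IsD8Centralizer u := by
    intro u hu
    obtain ⟨a, rfl⟩ := isConj_iff.1 (hclass u hu)
    exact hD.conj a
  letI : Fintype (↥Y ⧸ zpowers b') := Fintype.ofFinite _
  have hPc : ∀ a ∈ P, ∀ c ∈ P, a * c = c * a := fun a ha c hc => congrArg Subtype.val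
    (IsPGroup.commutative_of_card_eq_prime_sq (p := 5) (G := P) (by rw [hP]; norm_num) ⟨a, ha⟩ ⟨c, hc⟩)
  have hPY : P ≤ Y := fun a ha => mem_centralizer_singleton_iff.2 (hPc a ha b hbP)
  have hX : Nat.card (↥Y ⧸ zpowers b') = 360 := by
    rcases card_eq hall hzq hclass with h | h
    · exfalso
      have hd := card_dvd_of_le hPY
      rw [hP, hYX, h] at hd
      norm_num at hd
    · exact h
  have hY' : Nat.card ↥Y = 1800 := by rw [hYX, hX]
  -- the image of `P`
  set P' := P.subgroupOf Y with hP'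
  have hP'c : Nat.card P' = 25 := by rw [hP', Nat.card_congr (subgroupOfEquivOfLe hPY).toEquiv, hP]
  have hle : q.ker ≤ P' := by
    rw [QuotientGroup.ker_mk']
    exact zpowers_le.2 (mem_subgroupOf.2 hbP)
  set T := P'.map q with hT
  have hcomap : T.comap q = P' := by rw [hT, comap_map_eq, sup_eq_left.2 hle]
  have hTc : Nat.card T = 5 := by
    have h1 := P'.card_mul_index
    have h2 := T.card_mul_index
    rw [← index_comap_of_surjective T hq, hcomap, hX] at h2
    rw [hP'c, hY'] at h1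
    nlinarith
  obtain ⟨hTC, hTN⟩ := five_in_360 hX (fun u hu => (hall u hu).card) hTc
  refine ⟨le_antisymm ?_ (fun a ha => mem_centralizer_iff.2 fun c hc => hPc c hc a ha), ?_, hY'⟩
  · intro c hc
    have hcY : c ∈ Y := mem_centralizer_singleton_iff.2 (mem_centralizer_iff.1 hc b hbP).symm
    have hm : q ⟨c, hcY⟩ ∈ centralizer (T : Set (↥Y ⧸ zpowers b')) := by
      rw [mem_centralizer_iff]
      rintro _ ⟨a, ha, rfl⟩
      rw [← map_mul, ← map_mul]
      exact congrArg q (Subtype.ext (mem_centralizer_iff.1 hc a (mem_subgroupOf.1 ha)))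
    rw [hTC, ← mem_comap, hcomap, hP', mem_subgroupOf] at hm
    exact hm
  · have hN : normalizer (P' : Set ↥Y) = (normalizer (T : Set _)).comap q := by
      rw [Subgroup.comap_normalizer_eq_of_surjective T hq, hcomap]
    have h1 := (normalizer (P' : Set ↥Y)).card_mul_index
    have h2 := (normalizer (T : Set (↥Y ⧸ zpowers b'))).card_mul_index
    rw [hTN, hX] at h2
    rw [hN, index_comap_of_surjective _ hq, hY'] at h1
    have h50 : Nat.card ↥(normalizer (P' : Set ↥Y)) = 50 := by
      rw [hN]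
      have hne : 0 < (normalizer (T : Set (↥Y ⧸ zpowers b'))).index := by omega
      nlinarith
    rw [← h50]
    refine Nat.card_congr
      { toFun := fun a => ⟨⟨a.1, (mem_inf.1 a.2).1⟩, mem_normalizer_iff.2 fun n => by
          simp only [hP', mem_subgroupOf]
          exact mem_normalizer_iff.1 (mem_inf.1 a.2).2 n⟩
        invFun := fun a => ⟨(a : ↥Y), mem_inf.2 ⟨(a : ↥Y).2, mem_normalizer_fintype fun n hn =>
          mem_subgroupOf.1 ((mem_normalizer_iff.1 a.2 ⟨n, hPY hn⟩).1 (mem_subgroupOf.2 hn))⟩⟩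
        left_inv := fun a => rfl
        right_inv := fun a => rfl }

end Base.Five

end CfsgLib.SuzType
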