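import Mathlib
import Cfsg.Agent.Lib.TwoGroups.Semidihedral

/-!
A self-centralizing subgroup of order 25 with normalizer of order 600 and a transitive triple of lines:
the quotient is `Z₄ × S₃` and the other three lines are permuted transitively.
-/

set_option autoImplicit false
set_option maxHeartbeats 1000000
set_option synthInstance.maxSize 8000
set_option synthInstance.maxHeartbeats 1000000
set_option linter.style.longLine false
set_option linter.unusedSectionVars false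

namespace CfsgLib.SuzType

open Subgroup

variable {G : Type*} [Group G]

/-- Conjugation of subgroups. -/
def cj (n : G) (A : Subgroup G) : Subgroup G := A.map (MulAut.conj n).toMonoidHom

theorem mem_cj {n a : G} {A : Subgroup G} : a ∈ cj n A ↔ n⁻¹ * a * n ∈ A := by
  rw [cj, mem_map_equiv, MulAut.conj_symm_apply]

theorem cj_one (A : Subgroup G) : cj 1 A = A := by ext a; simp [mem_cj]

theorem cj_mul (n m : G) (A : Subgroup G) : cj (n * m) A = cj n (cj m A) := by
  ext a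
  rw [mem_cj, mem_cj, mem_cj, mul_inv_rev]
  simp only [mul_assoc]

theorem card_cj (n : G) (A : Subgroup G) : Nat.card ↥(cj n A) = Nat.card A :=
  (Nat.card_congr (equivMapOfInjective A _ (MulAut.conj n).injective).toEquiv).symm

theorem cj_eq_of_comm {n : G} {A : Subgroup G} (h : ∀ a ∈ A, n * a = a * n) : cj n A = A := by
  ext a
  rw [mem_cj]
  constructor <;> intro ha
  · have := h _ ha
    rw [show n * (n⁻¹ * a * n) = a * n by group] at this
    rwa [← mul_right_cancel this] at ha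
  · rwa [mul_assoc, ← h a ha, inv_mul_cancel_left]

theorem s3_facts : ∀ s t : Equiv.Perm (Fin 3), s * s = 1 → s ≠ 1 → t * t * t = 1 → t ≠ 1 →
    s * t * s⁻¹ = t⁻¹ ∧ ∀ i, t i ≠ i := by decide +kernel

theorem t3_fix : ∀ t : Equiv.Perm (Fin 3), t * t * t = 1 → ∀ i, t i = i → t = 1 := by decide +kernel

theorem split_s3 {H : Type*} [Group H] [Finite H] (ψ : H →* Equiv.Perm (Fin 3)) (hH : Nat.card H = 24)
    (hD : Nat.card ψ.ker = 4) (hcyc : IsCyclic ψ.ker) (hcen : ∀ d ∈ ψ.ker, ∀ h : H, Commute d h) (t v : H)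
    (ht3 : t ^ 3 = 1) (hψt : ψ t ≠ 1) (hv2 : v * v = 1) (hψv : ψ v ≠ 1) :
    Nonempty (H ≃* Multiplicative (ZMod 4) × Equiv.Perm (Fin 3)) := by
  have : Fact (Nat.Prime 3) := ⟨Nat.prime_three⟩
  have ht1 : t ≠ 1 := fun h => hψt (by rw [h, map_one])
  have hv1 : v ≠ 1 := fun h => hψv (by rw [h, map_one])
  have hto : orderOf t = 3 := orderOf_eq_prime ht3 ht1
  have hψ3 : ψ t * ψ t * ψ t = 1 := by
    rw [← map_mul, ← map_mul, show t * t * t = 1 by rw [← ht3, pow_succ, pow_two], map_one]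
  have hs3 := s3_facts (ψ v) (ψ t) (by rw [← map_mul, hv2, map_one]) hψv hψ3 hψt
  have hvt : v * t * v⁻¹ = t⁻¹ := by
    obtain ⟨w, hw⟩ : ∃ w, w = t * (v * t * v⁻¹) := ⟨_, rfl⟩
    have hwD : w ∈ ψ.ker := by
      rw [MonoidHom.mem_ker, hw, map_mul, map_mul, map_mul, map_inv, hs3.1, mul_inv_cancel]
    have e : v * t * v⁻¹ = t⁻¹ * w := by rw [hw]; group
    have h3 : w ^ 3 = 1 := by
      have hc : Commute t⁻¹ w := (hcen w hwD t).symm.inv_left
      have e3 : (v * t * v⁻¹) ^ 3 = 1 := by rw [conj_pow, ht3]; group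
      rwa [e, hc.mul_pow, inv_pow, ht3, inv_one, one_mul] at e3
    have h4 : w ^ 4 = 1 := by
      have := congrArg Subtype.val (pow_card_eq_one' (x := (⟨w, hwD⟩ : ψ.ker)))
      rwa [hD] at this
    rw [pow_succ, h3, one_mul] at h4
    rw [e, h4, mul_one]
  have hvnot : v ∉ zpowers t := fun h => by
    have hd := orderOf_dvd_of_mem_zpowers h
    rw [hto, orderOf_eq_prime (p := 2) (by rw [pow_two, hv2]) hv1] at hd
    norm_num at hd
  let φ := CfsgLib.TwoGroups.SD.dihedralHom (m := 3) t v ht3 hv2 hvt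
  have hφ := CfsgLib.TwoGroups.SD.dihedralHom_injective (m := 3) t v ht3 hv2 hvt hto hvnot
  have centre : ∀ d : DihedralGroup 3, (∀ e, d * e = e * d) → d = 1 := by decide +kernel
  have hθ : Function.Bijective (ψ.comp φ) := by
    refine (Nat.bijective_iff_injective_and_card _).2 ⟨(injective_iff_map_eq_one _).2 fun d hd =>
      centre d fun e => hφ ?_, by rw [DihedralGroup.nat_card, Nat.card_perm, Nat.card_fin]; rfl⟩
    rw [map_mul, map_mul]
    exact hcen _ (MonoidHom.mem_ker.2 hd) _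
  let eθ := MulEquiv.ofBijective (ψ.comp φ) hθ
  let sec : Equiv.Perm (Fin 3) →* H := φ.comp eθ.symm.toMonoidHom
  have hsec : ∀ p, ψ (sec p) = p := fun p => eθ.apply_symm_apply p
  let η : ↥ψ.ker × Equiv.Perm (Fin 3) →* H :=
    MonoidHom.noncommCoprod ψ.ker.subtype sec fun d p => hcen _ d.2 _
  have hη : Function.Bijective η := by
    refine (Nat.bijective_iff_injective_and_card _).2 ⟨(injective_iff_map_eq_one _).2 ?_, ?_⟩
    · rintro ⟨d, p⟩ h
      have h' : (d : H) * sec p = 1 := h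
      have hp := congrArg ψ h'
      rw [map_mul, MonoidHom.mem_ker.1 d.2, hsec, one_mul, map_one] at hp
      subst hp
      rw [map_one, mul_one] at h'
      exact Prod.ext (Subtype.ext h') rfl
    · rw [Nat.card_prod, hD, Nat.card_perm, Nat.card_fin, hH]; rfl
  exact ⟨(MulEquiv.ofBijective η hη).symm.trans (MulEquiv.prodCongr
    (mulEquivOfCyclicCardEq (by rw [hD, Nat.card_congr Multiplicative.toAdd, Nat.card_zmod]))
    (MulEquiv.refl _))⟩

variable [Finite G] {P : Subgroup G}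

/-- Distinct lines in a group of order 25 meet trivially. -/
theorem lines_inter {A B : Subgroup G} (hA : Nat.card A = 5) (hB : Nat.card B = 5) (hne : A ≠ B) {a : G}
    (ha : a ∈ A) (hb : a ∈ B) : a = 1 := by
  by_contra h1
  have h5 : ∀ {C : Subgroup G}, Nat.card C = 5 → a ∈ C → C = zpowers a := by
    intro C hC hm
    refine (eq_of_le_of_card_ge (zpowers_le.2 hm) ?_).symm
    have hd := orderOf_dvd_natCard (⟨a, hm⟩ : C)
    rw [← Subgroup.orderOf_coe, hC] at hd
    rcases (Nat.dvd_prime Nat.prime_five).1 hd with h | h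
    · exact absurd (orderOf_eq_one_iff.1 h) h1
    · rw [hC, Nat.card_zpowers]; exact h.ge
  exact hne ((h5 hA ha).trans (h5 hB hb).symm)

variable (hP : Nat.card P = 25) (hPc : ∀ a ∈ P, ∀ c ∈ P, a * c = c * a)
include hP hPc

theorem lines_span {A B : Subgroup G} (hA : A ≤ P) (hA5 : Nat.card A = 5) (hB : B ≤ P)
    (hB5 : Nat.card B = 5) (hne : A ≠ B) {p : G} (hp : p ∈ P) : ∃ a ∈ A, ∃ c ∈ B, p = a * c := by
  have hbij : Function.Bijective (fun d : A × B => (⟨d.1 * d.2, mul_mem (hA d.1.2) (hB d.2.2)⟩ : P)) := by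
    refine (Nat.bijective_iff_injective_and_card _).2 ⟨?_, by rw [Nat.card_prod, hA5, hB5, hP]⟩
    rintro ⟨a, c⟩ ⟨a', c'⟩ h
    have h' : (a : G) * c = a' * c' := congrArg Subtype.val h
    have e : (a' : G)⁻¹ * a = c' * (c : G)⁻¹ := by
      calc (a' : G)⁻¹ * a = (a' : G)⁻¹ * ((a : G) * c) * (c : G)⁻¹ := by group
        _ = c' * (c : G)⁻¹ := by rw [h']; group
    have h1 := lines_inter hA5 hB5 hne (mul_mem (inv_mem a'.2) a.2) (e ▸ mul_mem c'.2 (inv_mem c.2))
    obtain rfl : a' = a := Subtype.ext (inv_mul_eq_one.1 h1)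
    exact Prod.ext rfl (Subtype.ext (mul_left_cancel h'))
  obtain ⟨⟨a, c⟩, h⟩ := hbij.2 ⟨p, hp⟩
  exact ⟨a, a.2, c, c.2, (congrArg Subtype.val h).symm⟩

theorem line_gen {A : Subgroup G} (hA5 : Nat.card A = 5) {a : G} (ha : a ∈ A) (h1 : a ≠ 1) :
    ∀ c ∈ A, ∃ k : ℕ, c = a ^ k := by
  intro c hc
  have : Fact (Nat.Prime 5) := ⟨Nat.prime_five⟩
  have h := mem_zpowers_of_prime_card hA5 (g := (⟨a, ha⟩ : A)) (g' := ⟨c, hc⟩) (fun e => h1 (congrArg Subtype.val e))
  rw [← mem_powers_iff_mem_zpowers] at h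
  obtain ⟨k, hk⟩ := h
  exact ⟨k, (congrArg Subtype.val hk).symm⟩

/-- An element fixing three lines acts as a power map. -/
theorem power_map {d : G} {A B C : Subgroup G} (hA : A ≤ P) (hA5 : Nat.card A = 5) (hB : B ≤ P)
    (hB5 : Nat.card B = 5) (hC : C ≤ P) (hC5 : Nat.card C = 5) (hAB : A ≠ B) (hAC : A ≠ C) (hBC : B ≠ C)
    (dA : cj d A = A) (dB : cj d B = B) (dC : cj d C = C) : ∃ l : ℕ, ∀ p ∈ P, d * p * d⁻¹ = p ^ l := by
  have hfix : ∀ {D : Subgroup G}, cj d D = D → ∀ a ∈ D, d * a * d⁻¹ ∈ D := fun {D} h a ha => by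
    rw [← h, mem_cj]; simpa [mul_assoc] using ha
  obtain ⟨c, hc, hc1⟩ := (Subgroup.bot_or_exists_ne_one C).resolve_left fun h => by
    rw [h, card_bot] at hC5; omega
  obtain ⟨a, ha, b, hb, rfl⟩ := lines_span hP hPc hA hA5 hB hB5 hAB (hC hc)
  have ha1 : a ≠ 1 := by
    rintro rfl
    rw [one_mul] at hc hc1
    exact hc1 (lines_inter hB5 hC5 hBC hb hc)
  have hb1 : b ≠ 1 := by
    rintro rfl
    rw [mul_one] at hc hc1
    exact hc1 (lines_inter hA5 hC5 hAC ha hc)
  obtain ⟨i, hi⟩ := line_gen hP hPc hA5 ha ha1 _ (hfix dA a ha)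
  obtain ⟨j, hj⟩ := line_gen hP hPc hB5 hb hb1 _ (hfix dB b hb)
  obtain ⟨l, hl⟩ := line_gen hP hPc hC5 hc hc1 _ (hfix dC _ hc)
  have hab : Commute a b := hPc a (hA ha) b (hB hb)
  rw [show d * (a * b) * d⁻¹ = (d * a * d⁻¹) * (d * b * d⁻¹) by group, hi, hj, hab.mul_pow] at hl
  have e : (a ^ l)⁻¹ * a ^ i = b ^ l * (b ^ j)⁻¹ := by
    calc (a ^ l)⁻¹ * a ^ i = (a ^ l)⁻¹ * (a ^ i * b ^ j) * (b ^ j)⁻¹ := by group
      _ = b ^ l * (b ^ j)⁻¹ := by rw [hl]; group
  have h1 := lines_inter hA5 hB5 hAB (mul_mem (inv_mem (pow_mem ha l)) (pow_mem ha i))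
    (e ▸ mul_mem (pow_mem hb l) (inv_mem (pow_mem hb j)))
  have hi' : a ^ i = a ^ l := (inv_mul_eq_one.1 h1).symm
  have hj' : b ^ j = b ^ l := by
    rw [hi'] at hl
    exact mul_left_cancel hl
  refine ⟨l, fun p hp => ?_⟩
  obtain ⟨u, hu, v, hv, rfl⟩ := lines_span hP hPc hA hA5 hB hB5 hAB hp
  obtain ⟨m, rfl⟩ := line_gen hP hPc hA5 ha ha1 u hu
  obtain ⟨n, rfl⟩ := line_gen hP hPc hB5 hb hb1 v hv
  have huv : Commute (a ^ m) (b ^ n) := hab.pow_pow m n
  rw [show d * (a ^ m * b ^ n) * d⁻¹ = (d * a ^ m * d⁻¹) * (d * b ^ n * d⁻¹) by group, ← conj_pow, ← conj_pow,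
    hi, hj, hi', hj', huv.mul_pow, ← pow_mul, ← pow_mul, ← pow_mul, ← pow_mul, mul_comm l m, mul_comm l n]

omit hPc in
theorem card_lines (Ts : Finset (Subgroup G)) (h : ∀ A ∈ Ts, A ≤ P ∧ Nat.card A = 5) : Ts.card ≤ 6 := by
  classical
  have : Fintype G := Fintype.ofFinite G
  let U : Subgroup G → Finset G := fun A => (Finset.univ.filter fun a => a ∈ A).erase 1
  have hU : ∀ A ∈ Ts, (U A).card = 4 := fun A hA => by
    rw [Finset.card_erase_of_mem (by simp), ← Fintype.card_subtype, ← Nat.card_eq_fintype_card, (h A hA).2]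
  have hd : (↑Ts : Set (Subgroup G)).PairwiseDisjoint U := by
    intro A hA B hB hne
    rw [Function.onFun, Finset.disjoint_left]
    intro a ha hb
    simp only [U, Finset.mem_erase, Finset.mem_filter, Finset.mem_univ, true_and] at ha hb
    exact ha.1 (lines_inter (h A hA).2 (h B hB).2 hne ha.2 hb.2)
  have hsub : Ts.biUnion U ⊆ (Finset.univ.filter fun a => a ∈ P).erase 1 := by
    intro a ha
    simp only [U, Finset.mem_biUnion, Finset.mem_erase, Finset.mem_filter, Finset.mem_univ, true_and] at ha ⊢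
    obtain ⟨A, hA, h1, hm⟩ := ha
    exact ⟨h1, (h A hA).1 hm⟩
  have := Finset.card_le_card hsub
  rw [Finset.card_biUnion hd, Finset.sum_congr rfl hU, Finset.sum_const, smul_eq_mul,
    Finset.card_erase_of_mem (by simp), ← Fintype.card_subtype, ← Nat.card_eq_fintype_card, hP] at this
  omega

theorem five_grid (hexp : ∀ a ∈ P, a ^ 5 = 1) (hC : centralizer (P : Set G) = P)
    (hN : Nat.card ↥(normalizer (P : Set G)) = 600) (Ls : Finset (Subgroup G)) (h3 : Ls.card = 3)
    (hL : ∀ A ∈ Ls, A ≤ P ∧ Nat.card A = 5)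
    (hinv : ∀ n ∈ normalizer (P : Set G), ∀ A ∈ Ls, cj n A ∈ Ls)
    {A0 : Subgroup G} (hA0 : A0 ∈ Ls) {s : G} (hs : s ∈ normalizer (P : Set G)) (hs2 : s * s = 1)
    (hs1 : s ≠ 1) (hsA : ∀ a ∈ A0, s * a = a * s) :
    (∀ B C : Subgroup G, B ≤ P → C ≤ P → Nat.card B = 5 → Nat.card C = 5 → B ∉ Ls → C ∉ Ls →
      ∃ n ∈ normalizer (P : Set G), cj n B = C) ∧
    (∃ B, B ≤ P ∧ Nat.card B = 5 ∧ B ∉ Ls) ∧
    ∃ _ : (P.subgroupOf (normalizer (P : Set G))).Normal,
      Nonempty (↥(normalizer (P : Set G)) ⧸ P.subgroupOf (normalizer (P : Set G)) ≃*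
        Multiplicative (ZMod 4) × Equiv.Perm (Fin 3)) := by
  classical
  have : Fintype G := Fintype.ofFinite G
  have h5f : Fact (Nat.Prime 5) := ⟨Nat.prime_five⟩
  have h3f : Fact (Nat.Prime 3) := ⟨Nat.prime_three⟩
  set N := normalizer (P : Set G) with hNdef
  let L := {A // A ∈ Ls}
  let cjL : ↥N → L → L := fun n A => ⟨cj n A.1, hinv n n.2 A.1 A.2⟩
  let ψ : ↥N →* Equiv.Perm L :=
    { toFun := fun n =>
        { toFun := cjL n
          invFun := cjL n⁻¹
          left_inv := fun A => Subtype.ext (by simp [cjL, ← cj_mul, cj_one])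
          right_inv := fun A => Subtype.ext (by simp [cjL, ← cj_mul, cj_one]) }
      map_one' := Equiv.ext fun A => Subtype.ext (cj_one _)
      map_mul' := fun n m => Equiv.ext fun A => Subtype.ext (cj_mul _ _ _) }
  have hψ : ∀ (n : ↥N) (A : L), ((ψ n A : L) : Subgroup G) = cj (n : G) A.1 := fun n A => rfl
  have hcardL : Nat.card L = 3 := by rw [Nat.card_eq_fintype_card, Fintype.card_coe, h3]
  let eL : L ≃ Fin 3 := Finite.equivFinOfCardEq hcardL
  let eP : Equiv.Perm L ≃* Equiv.Perm (Fin 3) := eL.permCongrHom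
  obtain ⟨A1, hA1, hA10⟩ := Finset.exists_mem_ne (s := Ls) (by omega) A0
  obtain ⟨A2, hA2, hA20, hA21⟩ : ∃ A2 ∈ Ls, A2 ≠ A0 ∧ A2 ≠ A1 := by
    obtain ⟨A2, hA2⟩ : ((Ls.erase A0).erase A1).Nonempty := Finset.card_pos.1 (by
      rw [Finset.card_erase_of_mem (Finset.mem_erase.2 ⟨hA10, hA1⟩), Finset.card_erase_of_mem hA0, h3]
      norm_num)
    simp only [Finset.mem_erase] at hA2
    exact ⟨A2, hA2.2.2, hA2.2.1, hA2.1⟩
  have hscalar : ∀ d : ↥N, ψ d = 1 → ∃ l : ℕ, ∀ p ∈ P, (d : G) * p * (d : G)⁻¹ = p ^ l := by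
    intro d hd
    have hf : ∀ A ∈ Ls, cj (d : G) A = A := fun A hA =>
      (hψ d ⟨A, hA⟩).symm.trans (by rw [hd]; rfl)
    exact power_map hP hPc (hL _ hA0).1 (hL _ hA0).2 (hL _ hA1).1 (hL _ hA1).2 (hL _ hA2).1 (hL _ hA2).2
      hA10.symm hA20.symm hA21.symm (hf _ hA0) (hf _ hA1) (hf _ hA2)
  have hPN : P ≤ N := le_normalizer
  have hfixA : ∀ d : ↥N, ψ d = 1 → (∀ a ∈ A0, (d : G) * a * (d : G)⁻¹ = a) → (d : G) ∈ P := by
    intro d hd ha
    obtain ⟨l, hl⟩ := hscalar d hd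
    obtain ⟨a, haA, ha1⟩ := (Subgroup.bot_or_exists_ne_one A0).resolve_left fun h => by
      have := (hL _ hA0).2
      rw [h, card_bot] at this
      omega
    have hao : orderOf a = 5 := orderOf_eq_prime (hexp a ((hL _ hA0).1 haA)) ha1
    have hla : a ^ l = a ^ 1 := by rw [pow_one, ← hl a ((hL _ hA0).1 haA), ha a haA]
    rw [pow_eq_pow_iff_modEq, hao] at hla
    rw [← hC, mem_centralizer_iff]
    intro p hp
    have e := hl p hp
    have hpl : p ^ l = p := by
      rw [pow_eq_pow_mod l (hexp p hp), show l % 5 = 1 from hla, pow_one]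
    rw [hpl] at e
    exact (mul_inv_eq_iff_eq_mul.1 e).symm
  -- the kernel
  set Dn := ψ.ker with hDn
  have hDA : ∀ d : ↥Dn, ((d : ↥N) : G) ∈ normalizer (A0 : Set G) := fun d =>
    mem_normalizer_fintype fun a ha => by
      have e : cj ((d : ↥N) : G) A0 = A0 :=
        (hψ d ⟨A0, hA0⟩).symm.trans (by rw [MonoidHom.mem_ker.1 d.2]; rfl)
      rw [← e, SetLike.mem_coe, mem_cj]
      simpa [mul_assoc] using ha
  let incl : ↥Dn →* ↥(normalizer (A0 : Set G)) :=
    (N.subtype.comp Dn.subtype).codRestrict _ hDA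
  let χ : ↥Dn →* MulAut A0 := A0.normalizerMonoidHom.comp incl
  have hχ : ∀ (d : ↥Dn) (a : A0), ((χ d a : A0) : G) = ((d : ↥N) : G) * a * ((d : ↥N) : G)⁻¹ := fun d a => rfl
  have : IsCyclic A0 := isCyclic_of_prime_card (hL _ hA0).2
  have hautA : Nat.card (MulAut A0) = 4 := by
    rw [IsCyclic.card_mulAut, (hL _ hA0).2, Nat.totient_prime Nat.prime_five]
  have hkerχ : Nat.card χ.ker ≤ 25 := by
    rw [← hP]
    refine Nat.card_le_card_of_injective (fun d : χ.ker => (⟨(((d : ↥Dn) : ↥N) : G), hfixA (d : ↥Dn) (MonoidHom.mem_ker.1 (d : ↥Dn).2)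
      (fun a ha => by
        have e := hχ d ⟨a, ha⟩
        rw [MonoidHom.mem_ker.1 d.2] at e
        exact e.symm)⟩ : P)) fun d d' h => ?_
    exact Subtype.ext (Subtype.ext (Subtype.ext (congrArg (fun p : P => (p : G)) h)))
  have hDle : Nat.card Dn ≤ 25 * Nat.card χ.range := by
    have := χ.ker.card_mul_index
    rw [Subgroup.index_ker] at this
    rw [← this]
    exact Nat.mul_le_mul_right _ hkerχ
  have hχle : Nat.card χ.range ≤ 4 := hautA ▸ Finite.card_subtype_le _
  have hψle : Nat.card ψ.range ≤ 6 := by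
    refine le_trans (Finite.card_subtype_le _) ?_
    rw [Nat.card_perm, hcardL]; rfl
  have hprod : Nat.card Dn * Nat.card ψ.range = 600 := by
    have := Dn.card_mul_index
    rwa [hDn, Subgroup.index_ker, hN] at this
  have hD100 : Nat.card Dn = 100 := by nlinarith
  have hχ4 : Nat.card χ.range = 4 := by omega
  -- elements
  set sN : ↥N := ⟨s, hs⟩
  have hψs : ψ sN ≠ 1 := fun h => by
    have hsP := hfixA sN h fun a ha => by
      show s * a * s⁻¹ = a
      rw [hsA a ha, mul_inv_cancel_right]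
    have h5 : orderOf s ∣ 5 := orderOf_dvd_of_pow_eq_one (hexp s hsP)
    rw [orderOf_eq_prime (p := 2) (by rw [pow_two, hs2]) hs1] at h5
    norm_num at h5
  obtain ⟨τ, hτ⟩ := exists_prime_orderOf_dvd_card' (G := ↥N) 3 (by rw [hN]; norm_num)
  have hψτ : ψ τ ≠ 1 := fun h => by
    have hd := orderOf_dvd_natCard (⟨τ, MonoidHom.mem_ker.2 h⟩ : ↥Dn)
    rw [Subgroup.orderOf_mk, hτ, hD100] at hd
    norm_num at hd
  have hτ3 : τ ^ 3 = 1 := hτ ▸ pow_orderOf_eq_one τ
  have hψτ3 : ψ τ * ψ τ * ψ τ = 1 := by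
    rw [← map_mul, ← map_mul, show τ * τ * τ = 1 by rw [← hτ3, pow_succ, pow_two], map_one]
  have hψs2 : ψ sN * ψ sN = 1 := by
    rw [← map_mul, show sN * sN = 1 from Subtype.ext hs2, map_one]
  have hs3 := s3_facts (eP (ψ sN)) (eP (ψ τ)) (by rw [← map_mul, hψs2, map_one])
    (fun h => hψs (eP.injective (h.trans (map_one _).symm))) (by rw [← map_mul, ← map_mul, hψτ3, map_one])
    (fun h => hψτ (eP.injective (h.trans (map_one _).symm)))
  have hτfix : ∀ A : L, ψ τ A ≠ A := fun A h => hs3.2 (eL A) (by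
    show eL (ψ τ (eL.symm (eL A))) = eL A
    rw [Equiv.symm_apply_apply, h])
  -- no fixed line
  have hτline : ∀ B : Subgroup G, B ≤ P → Nat.card B = 5 → B ∉ Ls → cj (τ : G) B ≠ B := by
    intro B hB hB5 hBL hfix
    obtain ⟨a, ha, ha1⟩ := (Subgroup.bot_or_exists_ne_one A0).resolve_left fun h => by
      have := (hL _ hA0).2
      rw [h, card_bot] at this
      omega
    obtain ⟨c, hc, hc1⟩ := (Subgroup.bot_or_exists_ne_one B).resolve_left fun h => by
      rw [h, card_bot] at hB5; omega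
    have hne : A0 ≠ B := fun h => hBL (h ▸ hA0)
    have hτc : (τ : G) * c * (τ : G)⁻¹ ∈ B := by
      rw [← hfix, mem_cj]; simpa [mul_assoc] using hc
    obtain ⟨i, hi⟩ := line_gen hP hPc hB5 hc hc1 _ hτc
    have hτa : (τ : G) * a * (τ : G)⁻¹ ∈ P := (mem_normalizer_iff.1 τ.2 a).1 ((hL _ hA0).1 ha)
    obtain ⟨a', ha', c', hc', e⟩ := lines_span hP hPc (hL _ hA0).1 (hL _ hA0).2 hB hB5 hne hτa
    obtain ⟨j, rfl⟩ := line_gen hP hPc (hL _ hA0).2 ha ha1 a' ha'
    obtain ⟨m, rfl⟩ := line_gen hP hPc hB5 hc hc1 c' hc'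
    have hco : orderOf c = 5 := orderOf_eq_prime (hexp c (hB hc)) hc1
    have hao : orderOf a = 5 := orderOf_eq_prime (hexp a ((hL _ hA0).1 ha)) ha1
    have hτG : (τ : G) ^ 3 = 1 := by rw [← SubmonoidClass.coe_pow, hτ3]; rfl
    have hac : Commute a c := hPc a ((hL _ hA0).1 ha) c (hB hc)
    have cube : ∀ w : G, (τ : G) * ((τ : G) * ((τ : G) * w * (τ : G)⁻¹) * (τ : G)⁻¹) * (τ : G)⁻¹ = w := by
      intro w
      calc _ = ((τ : G) * (τ : G) * (τ : G)) * w * ((τ : G) * (τ : G) * (τ : G))⁻¹ := by group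
        _ = w := by rw [show (τ : G) * (τ : G) * (τ : G) = 1 by rw [← hτG, pow_succ, pow_two]]; group
    have hmul : ∀ u v : ℕ, (τ : G) * (a ^ u * c ^ v) * (τ : G)⁻¹ = a ^ (j * u) * c ^ (m * u + i * v) := by
      intro u v
      calc (τ : G) * (a ^ u * c ^ v) * (τ : G)⁻¹ = ((τ : G) * a * (τ : G)⁻¹) ^ u * ((τ : G) * c * (τ : G)⁻¹) ^ v := by
            rw [conj_pow, conj_pow]; group
        _ = a ^ (j * u) * c ^ (m * u + i * v) := by
            rw [e, hi, (hac.pow_pow j m).mul_pow, ← pow_mul, ← pow_mul, ← pow_mul, pow_add, mul_assoc]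
    have hc3 := cube (a ^ 0 * c ^ 1)
    rw [hmul, hmul, hmul] at hc3
    simp only [mul_zero, mul_one, zero_add, pow_zero, one_mul] at hc3
    rw [pow_eq_pow_iff_modEq, hco] at hc3
    have hi1 : i % 5 = 1 := by
      have : i * (i * i) % 5 = 1 := hc3
      rw [Nat.mul_mod, Nat.mul_mod i i] at this
      have hlt := Nat.mod_lt i (show 5 > 0 by norm_num)
      interval_cases (i % 5) <;> simp_all
    have ha3 := cube (a ^ 1 * c ^ 0)
    rw [hmul, hmul, hmul] at ha3
    simp only [mul_zero, mul_one, add_zero, pow_zero, pow_one] at ha3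
    have hsplit : a ^ (j * (j * j)) = a ∧ c ^ (m * (j * j) + i * (m * j + i * m)) = 1 := by
      set C1 := c ^ (m * (j * j) + i * (m * j + i * m)) with hC1
      have e1 : C1 = (a ^ (j * (j * j)))⁻¹ * a := by
        rw [eq_inv_mul_iff_mul_eq]; exact ha3
      have hCA : C1 ∈ A0 := by rw [e1]; exact mul_mem (inv_mem (pow_mem ha _)) ha
      have h1 : C1 = 1 := lines_inter (hL _ hA0).2 hB5 hne hCA (pow_mem hc _)
      rw [h1, mul_one] at ha3
      exact ⟨ha3, h1⟩
    obtain ⟨hj3, hm3⟩ := hsplit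
    have hj1 : j % 5 = 1 := by
      conv_rhs at hj3 => rw [← pow_one a]
      rw [pow_eq_pow_iff_modEq, hao] at hj3
      have : j * (j * j) % 5 = 1 := hj3
      rw [Nat.mul_mod, Nat.mul_mod j j] at this
      have hlt := Nat.mod_lt j (show 5 > 0 by norm_num)
      interval_cases (j % 5) <;> simp_all
    have hm0 : m % 5 = 0 := by
      have hdvd := orderOf_dvd_of_pow_eq_one hm3
      rw [hco] at hdvd
      have : (m * (j * j) + i * (m * j + i * m)) % 5 = 0 := Nat.mod_eq_zero_of_dvd hdvd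
      simp [Nat.add_mod, Nat.mul_mod, hi1, hj1] at this
      omega
    have hfixa : (τ : G) * a * (τ : G)⁻¹ = a := by
      rw [e, pow_eq_pow_mod j (hexp a ((hL _ hA0).1 ha)), hj1, pow_eq_pow_mod m (hexp c (hB hc)), hm0,
        pow_one, pow_zero, mul_one]
    refine hτfix ⟨A0, hA0⟩ (Subtype.ext ?_)
    rw [hψ]
    refine cj_eq_of_comm fun w hw => ?_
    obtain ⟨k, rfl⟩ := line_gen hP hPc (hL _ hA0).2 ha ha1 w hw
    exact ((show Commute (τ : G) a from mul_inv_eq_iff_eq_mul.1 hfixa).pow_right k).eq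
  have hkeep : ∀ (n : ↥N) {B : Subgroup G}, B ≤ P → B ∉ Ls → cj (n : G) B ≤ P ∧ cj (n : G) B ∉ Ls := by
    intro n B hB hBL
    refine ⟨fun a ha => ?_, fun h => hBL ?_⟩
    · have h := (mem_normalizer_iff.1 n.2 _).1 (hB (mem_cj.1 ha))
      rwa [show (n : G) * ((n : G)⁻¹ * a * n) * (n : G)⁻¹ = a by group] at h
    · have := hinv _ (inv_mem n.2) _ h
      rwa [← cj_mul, inv_mul_cancel, cj_one] at this
  refine ⟨?_, ?_, ?_⟩
  · intro B C hB hC' hB5 hC5 hBL hCL
    by_contra hno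
    have hτ3G : (τ : G) * ((τ : G) * (τ : G)) = 1 := by
      have e : τ * (τ * τ) = 1 := by rw [← hτ3, pow_succ', pow_two]
      exact congrArg Subtype.val e
    set B1 := cj (τ : G) B with hB1
    set B2 := cj (τ : G) B1 with hB2
    obtain ⟨k1, k1'⟩ := hkeep τ hB hBL
    obtain ⟨k2, k2'⟩ := hkeep τ k1 k1'
    have n01 : B1 ≠ B := hτline B hB hB5 hBL
    have n12 : B2 ≠ B1 := hτline B1 k1 (by rw [hB1, card_cj, hB5]) k1'
    have n02 : B2 ≠ B := by
      intro h
      apply n01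
      conv_rhs => rw [← cj_one B, ← hτ3G]
      rw [cj_mul, cj_mul, ← hB1, ← hB2, h]
    have hC0 : C ≠ B := fun h => hno ⟨1, one_mem _, by rw [cj_one, h]⟩
    have hC1 : C ≠ B1 := fun h => hno ⟨τ, τ.2, h.symm⟩
    have hC2 : C ≠ B2 := fun h => hno ⟨(τ * τ : ↥N), (τ * τ).2, by
      rw [Subgroup.coe_mul, cj_mul]; exact h.symm⟩
    have hcard := card_lines hP (Ls ∪ {B, B1, B2, C}) (fun A hA => by
      simp only [Finset.mem_union, Finset.mem_insert, Finset.mem_singleton] at hA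
      rcases hA with hA | rfl | rfl | rfl | rfl
      · exact hL A hA
      · exact ⟨hB, hB5⟩
      · exact ⟨k1, by rw [hB1, card_cj, hB5]⟩
      · exact ⟨k2, by rw [hB2, card_cj, hB1, card_cj, hB5]⟩
      · exact ⟨hC', hC5⟩)
    rw [Finset.card_union_of_disjoint (by
      simp only [Finset.disjoint_right, Finset.mem_insert, Finset.mem_singleton]
      rintro A (rfl | rfl | rfl | rfl) <;> assumption), h3] at hcard
    rw [Finset.card_insert_of_notMem (by simp [n01.symm, n02.symm, hC0.symm]),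
      Finset.card_insert_of_notMem (by simp [n12.symm, hC1.symm]),
      Finset.card_insert_of_notMem (by simp [hC2.symm]), Finset.card_singleton] at hcard
    omega
  · by_contra hno
    let U : Finset G := Ls.biUnion fun A => (Finset.univ.filter fun a => a ∈ A)
    have hle : (Finset.univ.filter fun a => a ∈ P) ⊆ U := by
      intro p hp
      simp only [Finset.mem_filter, Finset.mem_univ, true_and] at hp
      simp only [U, Finset.mem_biUnion, Finset.mem_filter, Finset.mem_univ, true_and]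
      by_cases h1 : p = 1
      · exact ⟨A0, hA0, h1 ▸ one_mem _⟩
      refine ⟨zpowers p, by_contra fun h => hno ⟨zpowers p, zpowers_le.2 hp, ?_, h⟩, mem_zpowers p⟩
      rw [Nat.card_zpowers]
      exact orderOf_eq_prime (hexp p hp) h1
    have hc := (Finset.card_le_card hle).trans Finset.card_biUnion_le
    rw [Finset.sum_congr rfl fun A hA => (show (Finset.univ.filter fun a => a ∈ A).card = 5 by
      rw [← Fintype.card_subtype, ← Nat.card_eq_fintype_card, (hL A hA).2]), Finset.sum_const, h3,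
      ← Fintype.card_subtype, ← Nat.card_eq_fintype_card, hP] at hc
    norm_num at hc
  · haveI hn : (P.subgroupOf N).Normal := normal_subgroupOf_of_le_normalizer le_rfl
    refine ⟨hn, ?_⟩
    let H := ↥N ⧸ P.subgroupOf N
    let π : ↥N →* H := QuotientGroup.mk' _
    have hπP : ∀ n : ↥N, π n = 1 ↔ (n : G) ∈ P := fun n => by
      show (QuotientGroup.mk n : H) = 1 ↔ _
      rw [QuotientGroup.eq_one_iff, mem_subgroupOf]
    have hPker : P.subgroupOf N ≤ ψ.ker := fun n hn => by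
      refine MonoidHom.mem_ker.2 (Equiv.ext fun A => Subtype.ext ?_)
      rw [hψ]
      exact cj_eq_of_comm fun a ha => hPc _ (mem_subgroupOf.1 hn) a ((hL A.1 A.2).1 ha)
    let ψ' : H →* Equiv.Perm L := QuotientGroup.lift (P.subgroupOf N) ψ hPker
    have hH : Nat.card H = 24 := by
      have h := Subgroup.card_eq_card_quotient_mul_card_subgroup (P.subgroupOf N)
      rw [hN, Nat.card_congr (subgroupOfEquivOfLe hPN).toEquiv, hP] at h
      show Nat.card (↥N ⧸ P.subgroupOf N) = 24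
      omega
    have hcen : ∀ d n : ↥N, ψ d = 1 → π d * π n = π n * π d := by
      intro d n hd
      obtain ⟨l, hl⟩ := hscalar d hd
      rw [← map_mul, ← map_mul]
      refine inv_mul_eq_one.1 ?_
      rw [← map_inv, ← map_mul, hπP, ← hC, mem_centralizer_iff]
      intro p hp
      have hnp : (n : G) * p * (n : G)⁻¹ ∈ P := (mem_normalizer_iff.1 n.2 p).1 hp
      have e : ((d : G) * n) * p * ((d : G) * n)⁻¹ = ((n : G) * d) * p * ((n : G) * d)⁻¹ := by
        calc _ = (d : G) * ((n : G) * p * (n : G)⁻¹) * (d : G)⁻¹ := by group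
          _ = ((n : G) * p * (n : G)⁻¹) ^ l := hl _ hnp
          _ = (n : G) * p ^ l * (n : G)⁻¹ := conj_pow
          _ = _ := by rw [← hl p hp]; group
      show p * (((d : G) * n)⁻¹ * ((n : G) * d)) = ((d : G) * n)⁻¹ * ((n : G) * d) * p
      calc p * (((d : G) * n)⁻¹ * ((n : G) * d))
          = ((d : G) * n)⁻¹ * (((d : G) * n) * p * ((d : G) * n)⁻¹) * ((n : G) * d) := by group
        _ = ((d : G) * n)⁻¹ * ((n : G) * d) * p := by rw [e]; group
    have hπsurj : Function.Surjective π := QuotientGroup.mk'_surjective _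
    have hψπ : ∀ n, ψ' (π n) = ψ n := fun n => rfl
    set Dq := ψ'.ker with hDq
    have hcenq : ∀ d ∈ Dq, ∀ h : H, Commute d h := by
      intro d hd h
      obtain ⟨d, rfl⟩ := hπsurj d
      obtain ⟨n, rfl⟩ := hπsurj h
      exact hcen d n (MonoidHom.mem_ker.1 hd)
    have hψ6 : Nat.card ψ.range = 6 := by rw [hD100] at hprod; omega
    have hr' : ψ'.range = ψ.range := by
      ext σ
      constructor
      · rintro ⟨h, rfl⟩
        obtain ⟨n, rfl⟩ := hπsurj h
        exact ⟨n, rfl⟩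
      · rintro ⟨n, rfl⟩
        exact ⟨π n, rfl⟩
    have hDq4 : Nat.card Dq = 4 := by
      have h := ψ'.ker.card_mul_index
      rw [Subgroup.index_ker, hr', hψ6, hH] at h
      rw [hDq]
      omega
    have hcyc : IsCyclic Dq := by
      have : IsCyclic (MulAut A0) := by
        have e : MulAut A0 ≃* (ZMod (Nat.card A0))ˣ := IsCyclic.mulAutMulEquiv A0
        rw [(hL _ hA0).2] at e
        exact isCyclic_of_surjective e.symm.toMonoidHom e.symm.surjective
      obtain ⟨r, hr⟩ := IsCyclic.exists_ofOrder_eq_natCard (α := χ.range)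
      obtain ⟨d, hd⟩ := r.2
      refine isCyclic_of_orderOf_eq_card (⟨π (d : ↥N), MonoidHom.mem_ker.2 (MonoidHom.mem_ker.1 d.2)⟩ : ↥Dq) ?_
      rw [hDq4]
      refine Nat.dvd_antisymm (hDq4 ▸ orderOf_dvd_natCard _) ?_
      rw [← hχ4, ← hr, ← Subgroup.orderOf_coe r, ← hd, orderOf_dvd_iff_pow_eq_one, ← map_pow]
      have h1 := congrArg Subtype.val (pow_orderOf_eq_one
        (⟨π (d : ↥N), MonoidHom.mem_ker.2 (MonoidHom.mem_ker.1 d.2)⟩ : ↥Dq))
      simp only [SubmonoidClass.coe_pow, OneMemClass.coe_one] at h1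
      rw [← map_pow, hπP] at h1
      refine MulEquiv.ext fun a => Subtype.ext ?_
      rw [hχ]
      show _ = (a : G)
      simp only [SubmonoidClass.coe_pow] at h1 ⊢
      rw [hPc _ h1 (a : G) ((hL _ hA0).1 a.2), mul_inv_cancel_right]
    have hk : (eP.toMonoidHom.comp ψ').ker = Dq := by
      ext h
      rw [hDq, MonoidHom.mem_ker, MonoidHom.mem_ker]
      exact map_eq_one_iff eP eP.injective
    exact split_s3 (eP.toMonoidHom.comp ψ') hH
      (by rw [hk]; exact hDq4)
      (by rw [hk]; exact hcyc)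
      (by rw [hk]; exact hcenq)
      (π τ) (π sN) (by rw [← map_pow, hτ3, map_one])
      (fun h => hψτ (eP.injective (h.trans (map_one _).symm)))
      (by rw [← map_mul, show sN * sN = 1 from Subtype.ext hs2, map_one])
      (fun h => hψs (eP.injective (h.trans (map_one _).symm)))

end CfsgLib.SuzType
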