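import Mathlib
import Cfsg.Agent.Lib.SuzType.FiveCent
import Cfsg.Agent.Lib.SuzType.FiveGrid

/-!
The normalizer of a Sylow 5-subgroup in a group of Suzuki type.
-/

set_option autoImplicit false
set_option maxHeartbeats 1000000
set_option linter.style.longLine false
set_option linter.unusedSectionVars false

namespace CfsgLib.SuzType

open Subgroup

theorem inv_mod_25 : ∀ i : Fin 25, (i : ℕ) * i % 25 = 1 → (i : ℕ) % 5 = 1 → (i : ℕ) = 1 := by decide +kernel

variable {G : Type*} [Group G] [Finite G]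

theorem mem_cj' {n a : G} {A : Subgroup G} (ha : a ∈ A) : n * a * n⁻¹ ∈ cj n A := by
  rw [mem_cj]; simpa [mul_assoc] using ha

theorem cj_le {n : G} {A B : Subgroup G} (h : ∀ a ∈ A, n * a * n⁻¹ ∈ B) : cj n A ≤ B := by
  intro w hw
  rw [mem_cj] at hw
  have := h _ hw
  rwa [show n * (n⁻¹ * w * n) * n⁻¹ = w by group] at this

theorem cj_zpowers (n a : G) : cj n (zpowers a) = zpowers (n * a * n⁻¹) := by
  rw [cj, MonoidHom.map_zpowers]; rfl

/-- The abstract count. -/
theorem five_norm_core (hG : Nat.card G = 448345497600) (P : Sylow 5 G) {b : G} (hb : orderOf b = 5)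
    (hbP : b ∈ (P : Subgroup G)) (hC : centralizer ((P : Subgroup G) : Set G) = P)
    (h50 : Nat.card ↥(centralizer ({b} : Set G) ⊓ normalizer ((P : Subgroup G) : Set G)) = 50)
    (hY : Nat.card ↥(centralizer ({b} : Set G)) = 1800) (hsq : ∃ c, c * b * c⁻¹ = b ^ 2) :
    (∃ A B : Subgroup G, Nat.card A = 5 ∧ Nat.card B = 5 ∧ (∀ g : G, cj g A ≠ B) ∧
      ∀ C : Subgroup G, Nat.card C = 5 → ∃ g : G, cj g C = A ∨ cj g C = B) ∧
    Nat.card (P : Subgroup G) = 25 ∧ Nat.card ↥(normalizer ((P : Subgroup G) : Set G)) = 600 ∧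
    Nonempty (↥(normalizer ((P : Subgroup G) : Set G)) ⧸
      (P : Subgroup G).subgroupOf (normalizer ((P : Subgroup G) : Set G)) ≃*
        Multiplicative (ZMod 4) × Equiv.Perm (Fin 3)) := by
  classical
  have h2f : Fact (Nat.Prime 2) := ⟨Nat.prime_two⟩
  have h5f : Fact (Nat.Prime 5) := ⟨Nat.prime_five⟩
  have : Fintype G := Fintype.ofFinite G
  have : Fintype (Subgroup G) := Fintype.ofFinite _
  set P' := (P : Subgroup G) with hP'
  have hP : Nat.card P' = 25 := by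
    rw [hP', P.card_eq_multiplicity, hG, show 448345497600 = 5 ^ 2 * 17933819904 from rfl,
      Nat.factorization_mul (by norm_num) (by norm_num), Finsupp.add_apply,
      Nat.prime_five.factorization_pow, Finsupp.single_eq_same,
      Nat.factorization_eq_zero_of_not_dvd (by norm_num : ¬ 5 ∣ 17933819904)]
    rfl
  have hPc : ∀ a ∈ P', ∀ c ∈ P', a * c = c * a := fun a ha c hc => congrArg Subtype.val
    (IsPGroup.commutative_of_card_eq_prime_sq (p := 5) (G := P') (by rw [hP]; norm_num) ⟨a, ha⟩ ⟨c, hc⟩)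
  set N := normalizer (P' : Set G) with hN
  set Y := centralizer ({b} : Set G) with hYdef
  obtain ⟨s, hso⟩ := exists_prime_orderOf_dvd_card' (G := ↥(Y ⊓ N)) 2 (by rw [h50]; norm_num)
  have hs2 : (s : G) * s = 1 := by
    have := congrArg Subtype.val (pow_orderOf_eq_one s)
    rwa [hso, SubmonoidClass.coe_pow, pow_two] at this
  have hs1 : (s : G) ≠ 1 := fun e => by
    rw [← Subgroup.orderOf_coe, e, orderOf_one] at hso
    norm_num at hso
  have hsY : (s : G) * b = b * s := mem_centralizer_singleton_iff.1 (mem_inf.1 s.2).1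
  have hsN : (s : G) ∈ N := (mem_inf.1 s.2).2
  have hexp : ∀ a ∈ P', a ^ 5 = 1 := by
    intro a ha
    by_contra h5
    have hd : orderOf a ∣ 5 ^ 2 := by
      rw [← Subgroup.orderOf_mk a ha]
      exact (_root_.orderOf_dvd_natCard _).trans (by rw [hP]; norm_num)
    have hao : orderOf a = 25 := by
      obtain ⟨k, hk, he⟩ := (Nat.dvd_prime_pow Nat.prime_five).1 hd
      interval_cases k
      · exact absurd (by rw [orderOf_eq_one_iff.1 he, one_pow]) h5
      · exact absurd (by rw [show (5 : ℕ) = orderOf a by rw [he]; rfl, pow_orderOf_eq_one]) h5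
      · rw [he]; norm_num
    have hgen : ∀ p ∈ P', ∃ k : ℕ, a ^ k = p := by
      intro p hp
      have e : zpowers a = P' := eq_of_le_of_card_ge (zpowers_le.2 ha) (by rw [Nat.card_zpowers, hao, hP])
      rw [← e, ← mem_powers_iff_mem_zpowers] at hp
      exact hp
    obtain ⟨i, hi⟩ := hgen _ ((mem_normalizer_iff.1 hsN a).1 ha)
    have ha25 : a ^ 25 = 1 := hao ▸ pow_orderOf_eq_one a
    have hi2 : i * i % 25 = 1 := by
      have e : a ^ (i * i) = a ^ 1 := by
        rw [pow_mul, hi, conj_pow, hi, pow_one,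
          show (s : G) * ((s : G) * a * (s : G)⁻¹) * (s : G)⁻¹ = ((s : G) * s) * a * ((s : G) * s)⁻¹ by group, hs2]
        group
      rw [pow_eq_pow_iff_modEq, hao] at e
      exact e
    obtain ⟨j, hj⟩ := hgen b hbP
    have e : a ^ (i * j) = a ^ j := by
      rw [pow_mul, hi, conj_pow, hj, hsY, mul_inv_cancel_right]
    rw [pow_eq_pow_iff_modEq, hao] at e
    have hj5 : j % 5 = 0 ∧ ¬ j % 25 = 0 := by
      have h1 : a ^ (j * 5) = 1 := by rw [pow_mul, hj, ← hb, pow_orderOf_eq_one]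
      have h2 := orderOf_dvd_of_pow_eq_one h1
      rw [hao] at h2
      refine ⟨by omega, fun h => ?_⟩
      rw [pow_eq_pow_mod j ha25, h, pow_zero] at hj
      rw [← hj, orderOf_one] at hb
      norm_num at hb
    have hi5 : i % 5 = 1 := by
      obtain ⟨l, hl⟩ : ∃ l, j = 5 * l := ⟨j / 5, by omega⟩
      subst hl
      have hl5 : ¬ l % 5 = 0 := by omega
      have e' : i * (5 * l) % 25 = 5 * l % 25 := e
      have e2 : i * l % 5 = l % 5 := by
        rw [show i * (5 * l) = 5 * (i * l) by ring, show 25 = 5 * 5 from rfl, Nat.mul_mod_mul_left,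
          Nat.mul_mod_mul_left] at e'
        omega
      rw [Nat.mul_mod] at e2
      have hlt := Nat.mod_lt i (show 5 > 0 by norm_num)
      have hlt' := Nat.mod_lt l (show 5 > 0 by norm_num)
      interval_cases (i % 5) <;> interval_cases (l % 5) <;> simp_all
    have hlt := Nat.mod_lt i (show 25 > 0 by norm_num)
    have hi1 : i % 25 = 1 := inv_mod_25 ⟨i % 25, hlt⟩ (by rw [← Nat.mul_mod]; exact hi2)
      (by show i % 25 % 5 = 1; omega)
    rw [pow_eq_pow_mod i ha25, hi1, pow_one] at hi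
    have hsP : (s : G) ∈ P' := by
      rw [← hC, mem_centralizer_iff]
      intro p hp
      obtain ⟨k, rfl⟩ := hgen p hp
      exact ((show Commute (s : G) a from mul_inv_eq_iff_eq_mul.1 hi.symm).pow_right k).eq.symm
    have h2 := _root_.orderOf_dvd_natCard (⟨(s : G), hsP⟩ : P')
    rw [Subgroup.orderOf_mk, Subgroup.orderOf_coe, hso, hP] at h2
    norm_num at h2
  -- Frattini in the centralizer of `b`
  have hPY : P' ≤ Y := fun p hp => mem_centralizer_singleton_iff.2 (hPc p hp b hbP)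
  have conjY : ∀ c : G, (∀ p ∈ P', c * p * c⁻¹ * b = b * (c * p * c⁻¹)) → ∃ y ∈ Y, y * c ∈ N := by
    intro c hc
    have hle : cj c P' ≤ Y := cj_le fun p hp => mem_centralizer_singleton_iff.2 (hc p hp)
    have hfac : (Nat.card ↥Y).factorization 5 = 2 := by
      rw [hY, show 1800 = 5 ^ 2 * 72 from rfl, Nat.factorization_mul (by norm_num) (by norm_num),
        Finsupp.add_apply, Nat.prime_five.factorization_pow, Finsupp.single_eq_same,
        Nat.factorization_eq_zero_of_not_dvd (by norm_num : ¬ 5 ∣ 72)]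
    let P1 : Sylow 5 ↥Y := Sylow.ofCard (P'.subgroupOf Y)
      (by rw [Nat.card_congr (subgroupOfEquivOfLe hPY).toEquiv, hP, hfac]; norm_num)
    let P2 : Sylow 5 ↥Y := Sylow.ofCard ((cj c P').subgroupOf Y)
      (by rw [Nat.card_congr (subgroupOfEquivOfLe hle).toEquiv, card_cj, hP, hfac]; norm_num)
    obtain ⟨y, hy⟩ := MulAction.exists_smul_eq ↥Y P2 P1
    refine ⟨y, y.2, mem_normalizer_fintype fun p hp => ?_⟩
    have hm : y * (⟨c * p * c⁻¹, hle (mem_cj' hp)⟩ : ↥Y) * y⁻¹ ∈ ((y • P2 : Sylow 5 ↥Y) : Subgroup ↥Y) := by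
      rw [Sylow.coe_subgroup_smul, mem_pointwise_smul_iff_inv_smul_mem]
      simp only [← map_inv, MulAut.smul_def, MulAut.conj_apply, inv_inv]
      rw [show y⁻¹ * (y * (⟨c * p * c⁻¹, hle (mem_cj' hp)⟩ : ↥Y) * y⁻¹) * y = ⟨c * p * c⁻¹, hle (mem_cj' hp)⟩ by group]
      exact mem_subgroupOf.2 (mem_cj' hp)
    rw [hy] at hm
    have := mem_subgroupOf.1 hm
    simp only [Subgroup.coe_mul, Subgroup.coe_inv] at this
    rwa [show (y : G) * c * p * ((y : G) * c)⁻¹ = (y : G) * (c * p * c⁻¹) * (y : G)⁻¹ by group]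
  obtain ⟨m, hmN, hmb⟩ : ∃ m ∈ N, m * b * m⁻¹ = b ^ 2 := by
    obtain ⟨c, hc⟩ := hsq
    obtain ⟨y, hy, hyN⟩ := conjY c fun p hp => by
      have h1 : Commute (c * p * c⁻¹) (b ^ 2) := by
        rw [← hc]
        show c * p * c⁻¹ * (c * b * c⁻¹) = c * b * c⁻¹ * (c * p * c⁻¹)
        rw [show c * p * c⁻¹ * (c * b * c⁻¹) = c * (p * b) * c⁻¹ by group, hPc p hp b hbP]; group
      have e : (b ^ 2) ^ 3 = b := by
        rw [← pow_mul, show 2 * 3 = 5 + 1 from rfl, pow_succ, ← hb, pow_orderOf_eq_one, one_mul]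
      exact (e ▸ h1.pow_right 3).eq
    refine ⟨y * c, hyN, ?_⟩
    rw [show y * c * b * (y * c)⁻¹ = y * (c * b * c⁻¹) * y⁻¹ by group, hc, ← conj_pow,
      mem_centralizer_singleton_iff.1 hy, mul_inv_cancel_right]
  set B0 := zpowers b with hB0
  have hB05 : Nat.card B0 = 5 := by rw [hB0, Nat.card_zpowers, hb]
  have hpow : ∀ k : ℕ, m ^ k * b * (m ^ k)⁻¹ = b ^ (2 ^ k) := by
    intro k
    induction k with
    | zero => simp
    | succ k ih =>
      calc m ^ (k + 1) * b * (m ^ (k + 1))⁻¹ = m * (m ^ k * b * (m ^ k)⁻¹) * m⁻¹ := by rw [pow_succ']; group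
        _ = (b ^ 2) ^ 2 ^ k := by rw [ih, ← conj_pow, hmb]
        _ = b ^ 2 ^ (k + 1) := by rw [← pow_mul, pow_succ']
  -- the stabilizer of a line
  have hstab : ((Finset.univ.filter fun n => n ∈ N).filter fun n => cj n B0 = B0).card = 200 := by
    rw [Finset.filter_filter, ← Fintype.card_subtype, ← Nat.card_eq_fintype_card,
      show (200 : ℕ) = Nat.card (Fin 4 × ↥(Y ⊓ N)) by rw [Nat.card_prod, Nat.card_fin, h50]]
    have hfix : ∀ (k : ℕ) (y : ↥(Y ⊓ N)), cj (m ^ k * (y : G)) B0 = B0 := fun k y => by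
      rw [hB0, cj_zpowers,
        show m ^ k * (y : G) * b * (m ^ k * (y : G))⁻¹ = m ^ k * ((y : G) * b * (y : G)⁻¹) * (m ^ k)⁻¹ by group,
        mem_centralizer_singleton_iff.1 (mem_inf.1 y.2).1, mul_inv_cancel_right, hpow]
      refine eq_of_le_of_card_ge (zpowers_le.2 (pow_mem (mem_zpowers b) _)) ?_
      rw [Nat.card_zpowers, Nat.card_zpowers, Nat.Coprime.orderOf_pow]
      rw [hb]
      exact (Nat.coprime_primes Nat.prime_five Nat.prime_two).2 (by norm_num) |>.pow_right k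
    refine (Nat.card_eq_of_bijective (fun p : Fin 4 × ↥(Y ⊓ N) =>
      (⟨m ^ (p.1 : ℕ) * (p.2 : G), mul_mem (pow_mem hmN _) (mem_inf.1 p.2.2).2, hfix _ _⟩ :
        {n : G // n ∈ N ∧ cj n B0 = B0})) ⟨?_, ?_⟩).symm
    · rintro ⟨k, y⟩ ⟨k', y'⟩ h
      have h' : m ^ (k : ℕ) * (y : G) = m ^ (k' : ℕ) * (y' : G) := congrArg Subtype.val h
      have hc : ∀ (k : ℕ) (y : ↥(Y ⊓ N)), m ^ k * (y : G) * b * (m ^ k * (y : G))⁻¹ = b ^ (2 ^ k) := fun k y => by
        rw [show m ^ k * (y : G) * b * (m ^ k * (y : G))⁻¹ = m ^ k * ((y : G) * b * (y : G)⁻¹) * (m ^ k)⁻¹ by group,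
          mem_centralizer_singleton_iff.1 (mem_inf.1 y.2).1, mul_inv_cancel_right, hpow]
      have e := (hc k y).symm.trans (by rw [h', hc k' y'])
      rw [pow_eq_pow_iff_modEq, hb] at e
      have key : ∀ a c : Fin 4, 2 ^ (a : ℕ) % 5 = 2 ^ (c : ℕ) % 5 → a = c := by decide +kernel
      obtain rfl := key k k' e
      exact Prod.ext rfl (Subtype.ext (mul_left_cancel h'))
    · rintro ⟨n, hn, hnB⟩
      have hm' : n * b * n⁻¹ ∈ B0 := by rw [← hnB]; exact mem_cj' (mem_zpowers b)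
      rw [hB0, ← mem_powers_iff_mem_zpowers] at hm'
      obtain ⟨i, hi⟩ := hm'
      change b ^ i = n * b * n⁻¹ at hi
      have hb5 : b ^ 5 = 1 := hb ▸ pow_orderOf_eq_one b
      have hi0 : i % 5 ≠ 0 := fun h => by
        rw [pow_eq_pow_mod i hb5, h, pow_zero] at hi
        rw [conj_eq_one_iff.1 hi.symm, orderOf_one] at hb
        norm_num at hb
      obtain ⟨k, hk⟩ : ∃ k : Fin 4, 2 ^ (k : ℕ) % 5 = i % 5 := by
        have := Nat.mod_lt i (show 5 > 0 by norm_num)
        rcases (by omega : i % 5 = 1 ∨ i % 5 = 2 ∨ i % 5 = 3 ∨ i % 5 = 4) with h | h | h | h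
        · exact ⟨0, by simp [h]⟩
        · exact ⟨1, by simp [h]⟩
        · exact ⟨3, by simp [h]⟩
        · exact ⟨2, by simp [h]⟩
      have hyN : (m ^ (k : ℕ))⁻¹ * n ∈ N := mul_mem (inv_mem (pow_mem hmN _)) hn
      have hyY : (m ^ (k : ℕ))⁻¹ * n ∈ Y := by
        refine mem_centralizer_singleton_iff.2 (mul_inv_eq_iff_eq_mul.1 ?_)
        rw [show (m ^ (k : ℕ))⁻¹ * n * b * ((m ^ (k : ℕ))⁻¹ * n)⁻¹ = (m ^ (k : ℕ))⁻¹ * (n * b * n⁻¹) * m ^ (k : ℕ) by group,
          ← hi, show b ^ i = b ^ (2 ^ (k : ℕ)) by rw [pow_eq_pow_mod i hb5, ← hk, ← pow_eq_pow_mod _ hb5], ← hpow]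
        group
      exact ⟨(k, ⟨_, mem_inf.2 ⟨hyY, hyN⟩⟩), Subtype.ext (mul_inv_cancel_left _ _)⟩
  let Ls : Finset (Subgroup G) := Finset.univ.filter fun A => A ≤ P' ∧ ∃ g, cj g B0 = A
  have hNP : ∀ n ∈ N, cj n P' = P' := fun n hn => by
    refine eq_of_le_of_card_ge (cj_le fun a ha => (mem_normalizer_iff.1 hn a).1 ha) ?_
    rw [card_cj]
  have hinv : ∀ n ∈ N, ∀ A ∈ Ls, cj n A ∈ Ls := by
    intro n hn A hA
    simp only [Ls, Finset.mem_filter, Finset.mem_univ, true_and] at hA ⊢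
    obtain ⟨hle, g, rfl⟩ := hA
    refine ⟨?_, n * g, cj_mul _ _ _⟩
    rw [← hNP n hn]
    exact map_mono hle
  have hB0L : B0 ∈ Ls := by
    simp only [Ls, Finset.mem_filter, Finset.mem_univ, true_and]
    exact ⟨zpowers_le.2 hbP, 1, cj_one _⟩
  have htrans : ∀ A ∈ Ls, ∃ n ∈ N, cj n B0 = A := by
    intro A hA
    simp only [Ls, Finset.mem_filter, Finset.mem_univ, true_and] at hA
    obtain ⟨hle, g, hg⟩ := hA
    obtain ⟨y, hy, hyN⟩ := conjY g⁻¹ fun p hp => by
      have hm : g * b * g⁻¹ ∈ P' := hle (hg ▸ mem_cj' (mem_zpowers b))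
      rw [inv_inv]
      calc g⁻¹ * p * g * b = g⁻¹ * (p * (g * b * g⁻¹)) * g := by group
        _ = g⁻¹ * (g * b * g⁻¹ * p) * g := by rw [hPc p hp _ hm]
        _ = b * (g⁻¹ * p * g) := by group
    refine ⟨(y * g⁻¹)⁻¹, inv_mem hyN, ?_⟩
    rw [mul_inv_rev, inv_inv, cj_mul, ← hg]
    congr 1
    refine cj_eq_of_comm fun a ha => ?_
    obtain ⟨i, rfl⟩ := ha
    exact (((show Commute y b from mem_centralizer_singleton_iff.1 hy).zpow_right i).inv_left).eq
  have hcount : Nat.card ↥N = Ls.card * 200 := by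
    rw [Nat.card_eq_fintype_card, Fintype.card_subtype]
    rw [Finset.card_eq_sum_card_fiberwise (f := fun n => cj n B0) (t := Ls)
      (fun n hn => hinv n (Finset.mem_filter.1 hn).2 B0 hB0L), Finset.sum_const_nat]
    intro A hA
    obtain ⟨n0, hn0, rfl⟩ := htrans A hA
    rw [← hstab]
    refine Finset.card_bij' (fun n _ => n0⁻¹ * n) (fun n _ => n0 * n) ?_ ?_
      (fun n _ => mul_inv_cancel_left _ _) (fun n _ => inv_mul_cancel_left _ _)
    · intro n hn
      simp only [Finset.mem_filter, Finset.mem_univ, true_and] at hn ⊢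
      exact ⟨mul_mem (inv_mem hn0) hn.1, by rw [cj_mul, hn.2, ← cj_mul, inv_mul_cancel, cj_one]⟩
    · intro n hn
      simp only [Finset.mem_filter, Finset.mem_univ, true_and] at hn ⊢
      exact ⟨mul_mem hn0 hn.1, by rw [cj_mul, hn.2]⟩
  have hk6 : Ls.card ≤ 6 := card_lines hP Ls fun A hA => by
    simp only [Ls, Finset.mem_filter, Finset.mem_univ, true_and] at hA
    obtain ⟨hle, g, rfl⟩ := hA
    exact ⟨hle, by rw [card_cj, hB05]⟩
  have hk3 : Ls.card = 3 := by
    have hn := card_sylow_modEq_one 5 G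
    rw [P.card_eq_index_normalizer] at hn
    have h := N.card_mul_index
    rw [hcount, hG] at h
    have hn' : N.index % 5 = 1 := hn
    have hpos : 0 < Ls.card := Finset.card_pos.2 ⟨B0, hB0L⟩
    interval_cases Ls.card <;> omega
  have hN600 : Nat.card ↥N = 600 := by rw [hcount, hk3]
  have hL : ∀ A ∈ Ls, A ≤ P' ∧ Nat.card A = 5 := fun A hA => by
    simp only [Ls, Finset.mem_filter, Finset.mem_univ, true_and] at hA
    obtain ⟨hle, g, rfl⟩ := hA
    exact ⟨hle, by rw [card_cj, hB05]⟩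
  obtain ⟨horb, ⟨B1, hB1, hB15, hB1L⟩, hnorm, hiso⟩ := five_grid hP hPc hexp hC hN600 Ls hk3 hL hinv hB0L hsN hs2 hs1
    (fun a ha => by
      obtain ⟨i, rfl⟩ := ha
      exact ((show Commute (s : G) b from hsY).zpow_right i).eq)
  refine ⟨⟨B0, B1, hB05, hB15, fun g hg => hB1L ?_, fun C hC5 => ?_⟩, hP, hN600, hiso⟩
  · simp only [Ls, Finset.mem_filter, Finset.mem_univ, true_and]
    exact ⟨hB1, g, hg⟩
  · have hCp : IsPGroup 5 C := IsPGroup.of_card (n := 1) (by rw [hC5]; norm_num)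
    obtain ⟨P2, hP2⟩ := hCp.exists_le_sylow
    obtain ⟨g, hg⟩ := MulAction.exists_smul_eq G P2 P
    have hgC : cj g C ≤ P' := by
      have h1 : cj g C ≤ ((g • P2 : Sylow 5 G) : Subgroup G) := fun a ha => by
        rw [Sylow.coe_subgroup_smul, mem_pointwise_smul_iff_inv_smul_mem]
        simp only [← map_inv, MulAut.smul_def, MulAut.conj_apply, inv_inv]
        exact hP2 (mem_cj.1 ha)
      rwa [hg] at h1
    by_cases hm : cj g C ∈ Ls
    · obtain ⟨n, -, hn⟩ := htrans _ hm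
      exact ⟨n⁻¹ * g, Or.inl (by rw [cj_mul, ← hn, ← cj_mul, inv_mul_cancel, cj_one])⟩
    · obtain ⟨n, -, hn⟩ := horb _ B1 hgC hB1 (by rw [card_cj, hC5]) hB15 hm hB1L
      exact ⟨n * g, Or.inr (by rw [cj_mul, hn])⟩

variable {z : G} {Q : Subgroup G}

theorem Hyp.five_norm (H : Hyp z Q) (P : Sylow 5 G) :
    (∃ A B : Subgroup G, Nat.card A = 5 ∧ Nat.card B = 5 ∧ (∀ g : G, cj g A ≠ B) ∧
      ∀ C : Subgroup G, Nat.card C = 5 → ∃ g : G, cj g C = A ∨ cj g C = B) ∧
    Nat.card (P : Subgroup G) = 25 ∧ Nat.card ↥(normalizer ((P : Subgroup G) : Set G)) = 600 ∧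
    Nonempty (↥(normalizer ((P : Subgroup G) : Set G)) ⧸
      (P : Subgroup G).subgroupOf (normalizer ((P : Subgroup G) : Set G)) ≃*
        Multiplicative (ZMod 4) × Equiv.Perm (Fin 3)) := by
  classical
  have h5f : Fact (Nat.Prime 5) := ⟨Nat.prime_five⟩
  obtain ⟨K⟩ := H.exists_minus
  obtain ⟨x, g0, S⟩ := K.exists_base H
  obtain ⟨b, f, F⟩ := S.exists_five
  have hp : IsPGroup 5 (zpowers b) := IsPGroup.of_card (n := 1) (by rw [Nat.card_zpowers, F.ord, pow_one])
  obtain ⟨P2, hP2⟩ := hp.exists_le_sylow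
  obtain ⟨d, hd⟩ := MulAction.exists_smul_eq G P2 P
  have hmem : ∀ a, a ∈ (P : Subgroup G) ↔ d⁻¹ * a * d ∈ (P2 : Subgroup G) := fun a => by
    rw [← hd, Sylow.coe_subgroup_smul, mem_pointwise_smul_iff_inv_smul_mem]
    simp only [← map_inv, MulAut.smul_def, MulAut.conj_apply, inv_inv]
  have hP2c : Nat.card (P2 : Subgroup G) = 25 := by
    rw [P2.card_eq_multiplicity, H.card_G, show 448345497600 = 5 ^ 2 * 17933819904 from rfl,
      Nat.factorization_mul (by norm_num) (by norm_num), Finsupp.add_apply,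
      Nat.prime_five.factorization_pow, Finsupp.single_eq_same,
      Nat.factorization_eq_zero_of_not_dvd (by norm_num : ¬ 5 ∣ 17933819904)]
    rfl
  obtain ⟨hC, h50, hY⟩ := F.Y_facts P2 hP2c (hP2 (mem_zpowers b))
  obtain ⟨c, -, hc⟩ := F.exists_square
  set b' := d * b * d⁻¹ with hb'
  have hback : ∀ a : G, d⁻¹ * (d * a * d⁻¹) * d = a := fun a => by group
  have hcomm : ∀ a : G, a * b' = b' * a ↔ d⁻¹ * a * d * b = b * (d⁻¹ * a * d) := fun a => by
    constructor <;> intro e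
    · calc d⁻¹ * a * d * b = d⁻¹ * (a * b') * d := by rw [hb']; group
        _ = d⁻¹ * (b' * a) * d := by rw [e]
        _ = b * (d⁻¹ * a * d) := by rw [hb']; group
    · calc a * b' = d * (d⁻¹ * a * d * b) * d⁻¹ := by rw [hb']; group
        _ = d * (b * (d⁻¹ * a * d)) * d⁻¹ := by rw [e]
        _ = b' * a := by rw [hb']; group
  refine five_norm_core H.card_G P (b := b') (by rw [hb', ord_conj, F.ord]) ?_ ?_ ?_ ?_ ⟨d * c * d⁻¹, ?_⟩
  · rw [hmem, hb', hback]; exact hP2 (mem_zpowers b)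
  · ext a
    rw [hmem, ← hC, mem_centralizer_iff, mem_centralizer_iff]
    constructor
    · intro h p hp
      have e := h (d * p * d⁻¹) ((hmem _).2 (by rw [hback]; exact hp))
      calc p * (d⁻¹ * a * d) = d⁻¹ * (d * p * d⁻¹ * a) * d := by group
        _ = d⁻¹ * (a * (d * p * d⁻¹)) * d := by rw [e]
        _ = d⁻¹ * a * d * p := by group
    · intro h p hp
      have e := h (d⁻¹ * p * d) ((hmem p).1 hp)
      calc p * a = d * (d⁻¹ * p * d * (d⁻¹ * a * d)) * d⁻¹ := by group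
        _ = d * (d⁻¹ * a * d * (d⁻¹ * p * d)) * d⁻¹ := by rw [e]
        _ = a * p := by group
  · rw [← h50]
    refine Nat.card_congr ((MulAut.conj d⁻¹).toEquiv.subtypeEquiv fun a => ?_)
    show _ ↔ d⁻¹ * a * d⁻¹⁻¹ ∈ _
    rw [inv_inv, mem_inf, mem_inf, mem_centralizer_singleton_iff, mem_centralizer_singleton_iff]
    refine and_congr (hcomm a) ?_
    rw [mem_normalizer_iff, mem_normalizer_iff]
    constructor
    · intro h n
      have e := h (d * n * d⁻¹)
      rw [hmem, hmem, hback,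
        show d⁻¹ * (a * (d * n * d⁻¹) * a⁻¹) * d = d⁻¹ * a * d * n * (d⁻¹ * a * d)⁻¹ by group] at e
      exact e
    · intro h n
      rw [hmem, hmem, show d⁻¹ * (a * n * a⁻¹) * d = d⁻¹ * a * d * (d⁻¹ * n * d) * (d⁻¹ * a * d)⁻¹ by group]
      exact h _
  · rw [← hY]
    refine Nat.card_congr ((MulAut.conj d⁻¹).toEquiv.subtypeEquiv fun a => ?_)
    show _ ↔ d⁻¹ * a * d⁻¹⁻¹ ∈ _
    rw [inv_inv, mem_centralizer_singleton_iff, mem_centralizer_singleton_iff]
    exact hcomm a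
  · rw [hb', conj_pow, ← hc]; group

end CfsgLib.SuzType
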