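import Mathlib
import Cfsg.Agent.Lib.CIT.Basic

/-!
A group of order 20160 in which involution centralizers are 2-groups: the Sylow 7-subgroups are
self-centralizing and their normalizers have order 21.
-/

set_option autoImplicit false
set_option maxHeartbeats 1000000
set_option synthInstance.maxSize 8000
set_option linter.style.longLine false

namespace CfsgLib.SuzType

open Subgroup CfsgLib.CIT

theorem seven_cases : ∀ c ∈ Nat.divisors 315, ∀ k ∈ Nat.divisors 6, 7 ∣ c → c * k ∣ 20160 →
    20160 / (c * k) % 7 = 1 →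
    (c = 7 ∧ k = 3) ∨ ((c = 21 ∨ c = 315) ∧ k = 1) ∨ (c = 35 ∧ k = 2) ∨ (c = 105 ∧ k = 3) := by
  decide +kernel

theorem five_cases : ∀ c ∈ Nat.divisors 315, ∀ k ∈ Nat.divisors 4, 5 ∣ c → c * k ∣ 20160 →
    20160 / (c * k) % 5 = 1 →
    (105 ∣ c → k % 2 = 0) ∧ (35 ∣ c → k % 2 = 0 → 105 ∣ c) := by
  decide +kernel

variable {X : Type*} [Group X] [Finite X]

/-- An involution normalising a subgroup without centralizing a nontrivial element inverts it. -/
theorem inverts_all {W : Subgroup X} {s : X} (h2 : s * s = 1) (hn : s ∈ normalizer (W : Set X))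
    (hfree : ∀ w ∈ W, s * w = w * s → w = 1) :
    (∀ w ∈ W, s * w * s⁻¹ = w⁻¹) ∧ ∀ a ∈ W, ∀ b ∈ W, a * b = b * a := by
  let φ : W →* W :=
    { toFun := fun w => ⟨s * w * s⁻¹, (mem_normalizer_iff.1 hn w).1 w.2⟩
      map_one' := Subtype.ext (by simp)
      map_mul' := fun a b => Subtype.ext (by
        show s * ((a : X) * b) * s⁻¹ = (s * a * s⁻¹) * (s * b * s⁻¹)
        group) }
  have hf : MonoidHom.FixedPointFree φ := fun w hw =>
    Subtype.ext (hfree w w.2 (mul_inv_eq_iff_eq_mul.1 (congrArg Subtype.val hw)))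
  have hi : Function.Involutive φ := fun w => Subtype.ext (by
    show s * (s * (w : X) * s⁻¹) * s⁻¹ = w
    rw [show s * (s * (w : X) * s⁻¹) * s⁻¹ = (s * s) * w * (s * s)⁻¹ by group, h2]; group)
  refine ⟨fun w hw => ?_, fun a ha b hb => ?_⟩
  · exact congrArg Subtype.val (congrFun (hf.coe_eq_inv_of_involutive hi) ⟨w, hw⟩)
  · exact congrArg Subtype.val (hf.commute_all_of_involutive hi ⟨a, ha⟩ ⟨b, hb⟩).eq

/-- The normalizer modulo the centralizer of a cyclic subgroup of prime order. -/
theorem norm_cent_factor {W : Subgroup X} {p : ℕ} [Fact p.Prime] (hW : Nat.card W = p) :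
    ∃ k, k ∣ p - 1 ∧ Nat.card (normalizer (W : Set X)) = Nat.card (centralizer (W : Set X)) * k := by
  have : IsCyclic W := isCyclic_of_prime_card hW
  let φ : ↥(normalizer (W : Set X)) →* MulAut W := W.normalizerMonoidHom
  have hker : Nat.card φ.ker = Nat.card (centralizer (W : Set X)) := by
    have : φ.ker = (centralizer (W : Set X)).subgroupOf (normalizer (W : Set X)) := by
      simp [φ, Subgroup.normalizerMonoidHom_ker]
    rw [this, Nat.card_congr (subgroupOfEquivOfLe (centralizer_le_normalizer (W : Set X))).toEquiv]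
  refine ⟨Nat.card φ.range, ?_, ?_⟩
  · have h := Subgroup.card_subgroup_dvd_card φ.range
    rwa [IsCyclic.card_mulAut, hW, Nat.totient_prime Fact.out] at h
  · rw [← hker, ← Subgroup.index_ker, φ.ker.card_mul_index]

theorem self_comm_prime {W : Subgroup X} {p : ℕ} [Fact p.Prime] (hW : Nat.card W = p) :
    W ≤ centralizer (W : Set X) := by
  have : IsCyclic W := isCyclic_of_prime_card hW
  have : IsMulCommutative W := IsCyclic.isMulCommutative
  exact fun t ht => mem_centralizer_iff.2 fun s hs => congrArg Subtype.val (mul_comm' (⟨s, hs⟩ : W) ⟨t, ht⟩)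

variable (hX : IsCIT X) (hc : Nat.card X = 20160)
include hX hc

theorem cent_odd {W : Subgroup X} (hW : W ≠ ⊥) (ho : Odd (Nat.card W)) :
    Odd (Nat.card (centralizer (W : Set X))) ∧ Nat.card (centralizer (W : Set X)) ∈ Nat.divisors 315 ∧
      ∀ s : X, orderOf s = 2 → ∀ w ∈ centralizer (W : Set X), s * w = w * s → w = 1 := by
  have h2f : Fact (Nat.Prime 2) := ⟨Nat.prime_two⟩
  obtain ⟨w, hw, hw1⟩ := (Subgroup.bot_or_exists_ne_one W).resolve_left hW
  have key : ∀ s : X, orderOf s = 2 → ∀ v : X, s * v = v * s → Odd (orderOf v) → v = 1 := by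
    intro s hs v hv hodd
    exact eq_one_of_isTwo_of_odd (isTwo_of_mem (hX s hs) (mem_centralizer_singleton_iff.2 hv.symm)) hodd
  have hwo : Odd (orderOf w) := ho.of_dvd_nat (by
    rw [← Subgroup.orderOf_mk w hw]; exact _root_.orderOf_dvd_natCard _)
  have hoC : Odd (Nat.card (centralizer (W : Set X))) := by
    rw [← Nat.not_even_iff_odd, even_iff_two_dvd]
    intro h
    obtain ⟨s, hs⟩ := exists_prime_orderOf_dvd_card' (G := ↥(centralizer (W : Set X))) 2 h
    exact hw1 (key s (by rwa [Subgroup.orderOf_coe]) w (mem_centralizer_iff.1 s.2 w hw).symm hwo)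
  refine ⟨hoC, Nat.mem_divisors.2 ⟨?_, by norm_num⟩, fun s hs v hv hsv => key s hs v hsv ?_⟩
  · have h := Subgroup.card_subgroup_dvd_card (centralizer (W : Set X))
    rw [hc, show 20160 = 64 * 315 from rfl] at h
    exact (Nat.Coprime.dvd_of_dvd_mul_left
      ((Nat.coprime_two_right.2 hoC).pow_right 6) h)
  · exact hoC.of_dvd_nat (by rw [← Subgroup.orderOf_mk v hv]; exact _root_.orderOf_dvd_natCard _)

theorem seven_in_L (h27 : ∀ T : Subgroup X, Nat.card T = 64 →
      Nat.card {n : X // n ∈ T ∧ n * n = 1 ∧ n ≠ 1} = 27) {P : Subgroup X} (hP : Nat.card P = 7) :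
    Nat.card (centralizer (P : Set X)) = 7 ∧ Nat.card (normalizer (P : Set X)) = 21 := by
  classical
  have : Fintype X := Fintype.ofFinite X
  have h2f : Fact (Nat.Prime 2) := ⟨Nat.prime_two⟩
  have h5f : Fact (Nat.Prime 5) := ⟨Nat.prime_five⟩
  have h7f : Fact (Nat.Prime 7) := ⟨by norm_num⟩
  have hPne : P ≠ ⊥ := fun h => by rw [h, card_bot] at hP; norm_num at hP
  obtain ⟨hoC, hC315, hfreeP⟩ := cent_odd hX hc hPne (by rw [hP]; decide)
  obtain ⟨k, hk6, hN⟩ := norm_cent_factor (W := P) hP
  have hPC := self_comm_prime (W := P) hP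
  have h7C : 7 ∣ Nat.card (centralizer (P : Set X)) := hP ▸ card_dvd_of_le hPC
  have hfac : (Nat.card X).factorization 7 = 1 := by
    rw [hc, show 20160 = 7 * 2880 from rfl, Nat.factorization_mul (by norm_num) (by norm_num),
      Finsupp.add_apply, Nat.Prime.factorization_self (by norm_num : Nat.Prime 7),
      Nat.factorization_eq_zero_of_not_dvd (by norm_num : ¬ 7 ∣ 2880)]
  let P7 : Sylow 7 X := Sylow.ofCard P (by rw [hP, hfac, pow_one])
  have hn7 := card_sylow_modEq_one 7 X
  rw [P7.card_eq_index_normalizer] at hn7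
  change (normalizer (P : Set X)).index % 7 = 1 at hn7
  have hidx := (normalizer (P : Set X)).card_mul_index
  rw [hc] at hidx
  have hNd : Nat.card (normalizer (P : Set X)) ∣ 20160 := hc ▸ Subgroup.card_subgroup_dvd_card _
  rw [← Nat.div_eq_of_eq_mul_right Nat.card_pos hidx.symm] at hn7
  rcases seven_cases _ hC315 k (Nat.mem_divisors.2 ⟨hk6, by norm_num⟩) h7C (hN ▸ hNd) (hN ▸ hn7) with
    ⟨e, ek⟩ | ⟨-, ek⟩ | ⟨e, ek⟩ | ⟨e, ek⟩
  · exact ⟨e, by rw [hN, e, ek]⟩
  · -- a normal complement
    exfalso
    have hle : normalizer (P7 : Set X) ≤ centralizer (P7 : Set X) := by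
      have : centralizer (P : Set X) = normalizer (P : Set X) :=
        eq_of_le_of_card_ge (centralizer_le_normalizer _) (by rw [hN, ek, mul_one])
      exact this.ge
    set Wc := (MonoidHom.transferSylow P7 hle).ker with hWc
    have hcomp := MonoidHom.ker_transferSylow_isComplement' P7 hle
    have hWn : Wc.Normal := by rw [hWc]; infer_instance
    have hWcard : Nat.card Wc = 2880 := by
      have h := hcomp.card_mul_card
      rw [← hWc, show Nat.card (P7 : Subgroup X) = 7 from hP, hc] at h
      omega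
    let T : Sylow 2 Wc := default
    have hTc : Nat.card ((T : Subgroup Wc).map Wc.subtype) = 64 := by
      rw [card_map_of_injective Wc.subtype_injective, T.card_eq_multiplicity, hWcard,
        show 2880 = 2 ^ 6 * 45 from rfl, Nat.factorization_mul (by norm_num) (by norm_num),
        Finsupp.add_apply, Nat.prime_two.factorization_pow, Finsupp.single_eq_same,
        Nat.factorization_eq_zero_of_not_dvd (by norm_num : ¬ 2 ∣ 45)]
      norm_num
    set T' := (T : Subgroup Wc).map Wc.subtype with hT'
    have htop : normalizer (T' : Set X) ⊔ Wc = ⊤ := Sylow.normalizer_sup_eq_top T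
    obtain ⟨v, hv⟩ : ∃ v : ↥(normalizer (T' : Set X)), orderOf v = 7 := by
      refine exists_prime_orderOf_dvd_card' 7 ?_
      by_contra h7
      have hle' : normalizer (T' : Set X) ≤ Wc := by
        intro a ha
        rw [← QuotientGroup.eq_one_iff (N := Wc)]
        have hd1 : orderOf (QuotientGroup.mk a : X ⧸ Wc) ∣ 7 := by
          have h := Subgroup.card_eq_card_quotient_mul_card_subgroup Wc
          rw [hc, hWcard] at h
          exact (_root_.orderOf_dvd_natCard _).trans (by rw [show Nat.card (X ⧸ Wc) = 7 by omega])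
        have hd2 : orderOf (QuotientGroup.mk a : X ⧸ Wc) ∣ Nat.card (normalizer (T' : Set X)) :=
          (orderOf_map_dvd (QuotientGroup.mk' Wc) a).trans
            (by rw [← Subgroup.orderOf_mk a ha]; exact _root_.orderOf_dvd_natCard _)
        rcases (Nat.dvd_prime (by norm_num : Nat.Prime 7)).1 hd1 with h | h
        · exact orderOf_eq_one_iff.1 h
        · rw [h] at hd2; exact absurd hd2 h7
      rw [sup_eq_right.2 hle'] at htop
      rw [htop, card_top, hc] at hWcard
      norm_num at hWcard
    have hvo : orderOf (v : X) = 7 := by rw [Subgroup.orderOf_coe, hv]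
    have hmem : ∀ n, (n ∈ T' ∧ n * n = 1 ∧ n ≠ 1) →
        ((v : X) * n * (v : X)⁻¹ ∈ T' ∧ (v : X) * n * (v : X)⁻¹ * ((v : X) * n * (v : X)⁻¹) = 1 ∧
          (v : X) * n * (v : X)⁻¹ ≠ 1) := fun n ⟨h1, h2, h3⟩ =>
      ⟨(mem_normalizer_iff.1 v.2 n).1 h1, by
        rw [show (v : X) * n * (v : X)⁻¹ * ((v : X) * n * (v : X)⁻¹) = (v : X) * (n * n) * (v : X)⁻¹ by group, h2]
        group, fun e => h3 (conj_eq_one_iff.1 e)⟩
    let f : {n : X // n ∈ T' ∧ n * n = 1 ∧ n ≠ 1} → {n : X // n ∈ T' ∧ n * n = 1 ∧ n ≠ 1} :=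
      fun n => ⟨_, hmem n.1 n.2⟩
    have hf : Function.Bijective f := Finite.injective_iff_bijective.1 fun a b h => Subtype.ext (by
      simpa [f] using congrArg Subtype.val h)
    have hiter : ∀ (j : ℕ) (n : {n : X // n ∈ T' ∧ n * n = 1 ∧ n ≠ 1}),
        ((f^[j] n : {n : X // n ∈ T' ∧ n * n = 1 ∧ n ≠ 1}) : X) = (v : X) ^ j * n * ((v : X) ^ j)⁻¹ := by
      intro j
      induction j with
      | zero => intro n; simp
      | succ j ih =>
        intro n
        rw [Function.iterate_succ_apply']
        show (v : X) * _ * (v : X)⁻¹ = _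
        rw [ih, pow_succ']; group
    obtain ⟨n, hn⟩ := Equiv.Perm.exists_fixed_point_of_prime (p := 7) (n := 1)
      (by rw [← Nat.card_eq_fintype_card, h27 T' hTc]; norm_num) (σ := Equiv.ofBijective f hf) (by
        rw [pow_one]
        refine Equiv.ext fun n => Subtype.ext ?_
        rw [← Equiv.Perm.iterate_eq_pow, show ((Equiv.ofBijective f hf : Equiv.Perm _) : _ → _) = f from rfl,
          hiter, ← hvo, pow_orderOf_eq_one]
        simp)
    have hcomm : (n : X) * v = v * n := (mul_inv_eq_iff_eq_mul.1 (congrArg Subtype.val hn)).symm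
    have hn2 : orderOf (n : X) = 2 := orderOf_eq_prime (by rw [pow_two]; exact n.2.2.1) n.2.2.2
    have h1 := eq_one_of_isTwo_of_odd (isTwo_of_mem (hX _ hn2) (mem_centralizer_singleton_iff.2 hcomm.symm))
      (by rw [hvo]; decide)
    rw [h1, orderOf_one] at hvo
    norm_num at hvo
  · -- order 35, inverted
    exfalso
    obtain ⟨s, hs⟩ := exists_prime_orderOf_dvd_card' (G := ↥(normalizer (P : Set X))) 2
      (by rw [hN, e, ek]; norm_num)
    have hso : orderOf (s : X) = 2 := by rw [Subgroup.orderOf_coe, hs]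
    have hs2 : (s : X) * s = 1 := by rw [← pow_two, ← hso, pow_orderOf_eq_one]
    have hsC : (s : X) ∈ normalizer (centralizer (P : Set X) : Set X) := mem_normalizer_fintype fun a ha => by
      rw [SetLike.mem_coe, mem_centralizer_iff] at ha ⊢
      intro p hp
      have := ha _ ((mem_normalizer_iff''.1 s.2 p).1 hp)
      calc p * ((s : X) * a * (s : X)⁻¹) = s * ((s : X)⁻¹ * p * s * a) * (s : X)⁻¹ := by group
        _ = s * (a * ((s : X)⁻¹ * p * s)) * (s : X)⁻¹ := by rw [this]
        _ = (s : X) * a * (s : X)⁻¹ * p := by group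
    obtain ⟨hinv, -⟩ := inverts_all hs2 hsC (hfreeP _ hso)
    obtain ⟨q, hq⟩ := exists_prime_orderOf_dvd_card' (G := ↥(centralizer (P : Set X))) 5 (by rw [e]; norm_num)
    have hqo : orderOf (q : X) = 5 := by rw [Subgroup.orderOf_coe, hq]
    have hW5 : Nat.card (zpowers (q : X)) = 5 := by rw [Nat.card_zpowers, hqo]
    have hWne : zpowers (q : X) ≠ ⊥ := fun h => by rw [h, card_bot] at hW5; norm_num at hW5
    obtain ⟨-, hC5, hfree5⟩ := cent_odd hX hc hWne (by rw [hW5]; decide)
    obtain ⟨k5, hk5, hN5⟩ := norm_cent_factor (W := zpowers (q : X)) hW5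
    set C5 := centralizer (zpowers (q : X) : Set X) with hC5def
    have hqW := self_comm_prime (W := zpowers (q : X)) hW5
    have hPC5 : P ≤ C5 := fun p hp => by
      rw [hC5def, mem_centralizer_iff]
      rintro _ ⟨i, rfl⟩
      exact (((show Commute (q : X) p from (mem_centralizer_iff.1 q.2 p hp).symm)).zpow_left i).eq
    have h35 : 35 ∣ Nat.card C5 := Nat.Coprime.mul_dvd_of_dvd_of_dvd (by norm_num : Nat.Coprime 5 7)
      (hW5 ▸ card_dvd_of_le hqW) (hP ▸ card_dvd_of_le hPC5)
    have hsN : (s : X) ∈ normalizer (zpowers (q : X) : Set X) := mem_normalizer_fintype fun a ha => by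
      obtain ⟨i, rfl⟩ := ha
      refine ⟨-i, ?_⟩
      show (q : X) ^ (-i) = (s : X) * (q : X) ^ i * (s : X)⁻¹
      rw [← conj_zpow, hinv _ q.2, inv_zpow, zpow_neg]
    have hsN2 : 2 ∣ Nat.card (normalizer (zpowers (q : X) : Set X)) := by
      rw [← hso, ← Subgroup.orderOf_mk (s : X) hsN]
      exact _root_.orderOf_dvd_natCard _
    have hn5 := card_sylow_modEq_one 5 X
    have hfac5 : (Nat.card X).factorization 5 = 1 := by
      rw [hc, show 20160 = 5 * 4032 from rfl, Nat.factorization_mul (by norm_num) (by norm_num),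
        Finsupp.add_apply, Nat.Prime.factorization_self Nat.prime_five,
        Nat.factorization_eq_zero_of_not_dvd (by norm_num : ¬ 5 ∣ 4032)]
    let P5 : Sylow 5 X := Sylow.ofCard (zpowers (q : X)) (by rw [hW5, hfac5, pow_one])
    rw [P5.card_eq_index_normalizer] at hn5
    change (normalizer (zpowers (q : X) : Set X)).index % 5 = 1 at hn5
    have hi5 := (normalizer (zpowers (q : X) : Set X)).card_mul_index
    rw [hc] at hi5
    rw [← Nat.div_eq_of_eq_mul_right Nat.card_pos hi5.symm] at hn5
    have hN5d : Nat.card (normalizer (zpowers (q : X) : Set X)) ∣ 20160 := hc ▸ Subgroup.card_subgroup_dvd_card _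
    obtain ⟨-, h105⟩ := five_cases _ hC5 k5 (Nat.mem_divisors.2 ⟨hk5, by norm_num⟩)
      (hW5 ▸ card_dvd_of_le hqW) (hN5 ▸ hN5d) (hN5 ▸ hn5)
    have hodd5 : ¬ 2 ∣ Nat.card C5 := fun h => by
      have h1 := Nat.dvd_trans h (Nat.mem_divisors.1 hC5).1
      norm_num at h1
    have hk2 : k5 % 2 = 0 := by
      rw [hN5] at hsN2
      exact Nat.mod_eq_zero_of_dvd ((Nat.prime_two.dvd_mul.1 hsN2).resolve_left hodd5)
    have h105' := h105 h35 hk2
    have hsC5 : (s : X) ∈ normalizer (C5 : Set X) := mem_normalizer_fintype fun a ha => by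
      rw [hC5def, SetLike.mem_coe, mem_centralizer_iff] at ha ⊢
      intro p hp
      have := ha _ ((mem_normalizer_iff''.1 hsN p).1 hp)
      calc p * ((s : X) * a * (s : X)⁻¹) = s * ((s : X)⁻¹ * p * s * a) * (s : X)⁻¹ := by group
        _ = s * (a * ((s : X)⁻¹ * p * s)) * (s : X)⁻¹ := by rw [this]
        _ = (s : X) * a * (s : X)⁻¹ * p := by group
    obtain ⟨-, hab⟩ := inverts_all hs2 hsC5 (hfree5 _ hso)
    have hle : C5 ≤ centralizer (P : Set X) := fun a ha =>
      mem_centralizer_iff.2 fun p hp => hab p (hPC5 hp) a ha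
    have := Nat.le_of_dvd (by rw [e]; norm_num) (card_dvd_of_le hle)
    rw [e] at this
    have h3 := Nat.le_of_dvd Nat.card_pos h105'
    omega
  · -- order 105
    exfalso
    obtain ⟨q, hq⟩ := exists_prime_orderOf_dvd_card' (G := ↥(centralizer (P : Set X))) 5 (by rw [e]; norm_num)
    have hqo : orderOf (q : X) = 5 := by rw [Subgroup.orderOf_coe, hq]
    have hW5 : Nat.card (zpowers (q : X)) = 5 := by rw [Nat.card_zpowers, hqo]
    have hWne : zpowers (q : X) ≠ ⊥ := fun h => by rw [h, card_bot] at hW5; norm_num at hW5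
    obtain ⟨-, hC5, hfree5⟩ := cent_odd hX hc hWne (by rw [hW5]; decide)
    obtain ⟨k5, hk5, hN5⟩ := norm_cent_factor (W := zpowers (q : X)) hW5
    set C5 := centralizer (zpowers (q : X) : Set X) with hC5def
    have hqW := self_comm_prime (W := zpowers (q : X)) hW5
    have hPC5 : P ≤ C5 := fun p hp => by
      rw [hC5def, mem_centralizer_iff]
      rintro _ ⟨i, rfl⟩
      exact (((show Commute (q : X) p from (mem_centralizer_iff.1 q.2 p hp).symm)).zpow_left i).eq
    have hfac5 : (Nat.card X).factorization 5 = 1 := by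
      rw [hc, show 20160 = 5 * 4032 from rfl, Nat.factorization_mul (by norm_num) (by norm_num),
        Finsupp.add_apply, Nat.Prime.factorization_self Nat.prime_five,
        Nat.factorization_eq_zero_of_not_dvd (by norm_num : ¬ 5 ∣ 4032)]
    let P5 : Sylow 5 X := Sylow.ofCard (zpowers (q : X)) (by rw [hW5, hfac5, pow_one])
    have hn5 := card_sylow_modEq_one 5 X
    rw [P5.card_eq_index_normalizer] at hn5
    change (normalizer (zpowers (q : X) : Set X)).index % 5 = 1 at hn5
    have hi5 := (normalizer (zpowers (q : X) : Set X)).card_mul_index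
    rw [hc] at hi5
    rw [← Nat.div_eq_of_eq_mul_right Nat.card_pos hi5.symm] at hn5
    have hN5d : Nat.card (normalizer (zpowers (q : X) : Set X)) ∣ 20160 := hc ▸ Subgroup.card_subgroup_dvd_card _
    obtain ⟨h105, h35⟩ := five_cases _ hC5 k5 (Nat.mem_divisors.2 ⟨hk5, by norm_num⟩)
      (hW5 ▸ card_dvd_of_le hqW) (hN5 ▸ hN5d) (hN5 ▸ hn5)
    -- the centralizer of the order-five part contains a cyclic group of order 105
    have h15 : 105 ∣ Nat.card C5 := by
      obtain ⟨r, hr⟩ := exists_prime_orderOf_dvd_card' (G := ↥(centralizer (P : Set X))) 3 (hp := ⟨Nat.prime_three⟩)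
        (by rw [e]; norm_num)
      by_contra hno
      -- the centralizer of `q` inside that of `P` has index dividing the number of Sylow 5-subgroups
      have hfac5' : (Nat.card ↥(centralizer (P : Set X))).factorization 5 = 1 := by
        rw [e, show 105 = 5 * 21 from rfl, Nat.factorization_mul (by norm_num) (by norm_num),
          Finsupp.add_apply, Nat.Prime.factorization_self Nat.prime_five,
          Nat.factorization_eq_zero_of_not_dvd (by norm_num : ¬ 5 ∣ 21)]
      let Q5 : Sylow 5 ↥(centralizer (P : Set X)) := Sylow.ofCard (zpowers q) (by rw [Nat.card_zpowers, hq, hfac5', pow_one])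
      have hm := card_sylow_modEq_one 5 ↥(centralizer (P : Set X))
      have hd := Q5.card_dvd_index
      have hQi : (zpowers q).index = 21 := by
        have h := (zpowers q).card_mul_index
        rw [Nat.card_zpowers, hq, e] at h
        omega
      rw [show (Q5 : Subgroup ↥(centralizer (P : Set X))).index = 21 from hQi] at hd
      have hm' : Nat.card (Sylow 5 ↥(centralizer (P : Set X))) % 5 = 1 := hm
      have key : ∀ n ∈ Nat.divisors 21, n % 5 = 1 → n = 1 ∨ n = 21 := by decide
      rcases key _ (Nat.mem_divisors.2 ⟨hd, by norm_num⟩) hm' with h1 | h1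
      · -- normal Sylow: its centralizer is everything
        have := (Nat.card_eq_one_iff_unique.1 h1).1
        have hnorm : (Q5 : Subgroup ↥(centralizer (P : Set X))).Normal := inferInstance
        apply hno
        have hle : centralizer (P : Set X) ≤ C5 := by
          intro a ha
          have hm2 : (⟨a, ha⟩ : ↥(centralizer (P : Set X))) * q * (⟨a, ha⟩ : ↥(centralizer (P : Set X)))⁻¹ ∈ zpowers q :=
            hnorm.conj_mem q (mem_zpowers q) _
          rw [← mem_powers_iff_mem_zpowers] at hm2
          obtain ⟨i, hi⟩ := hm2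
          change q ^ i = _ at hi
          have hai : a * (q : X) * a⁻¹ = (q : X) ^ i := (congrArg Subtype.val hi).symm
          have hpow : ∀ j : ℕ, a ^ j * (q : X) * (a ^ j)⁻¹ = (q : X) ^ (i ^ j) := by
            intro j
            induction j with
            | zero => simp
            | succ j ih =>
              calc a ^ (j + 1) * (q : X) * (a ^ (j + 1))⁻¹ = a * (a ^ j * q * (a ^ j)⁻¹) * a⁻¹ := by
                    rw [pow_succ']; group
                _ = (q : X) ^ (i ^ (j + 1)) := by rw [ih, ← conj_pow, hai, ← pow_mul, pow_succ']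
          have h105a : a ^ 105 = 1 := by
            have := congrArg Subtype.val (pow_card_eq_one' (x := (⟨a, ha⟩ : ↥(centralizer (P : Set X)))))
            rwa [e] at this
          have hj := hpow 105
          rw [h105a, one_mul, inv_one, mul_one] at hj
          conv_lhs at hj => rw [← pow_one (q : X)]
          rw [pow_eq_pow_iff_modEq, hqo] at hj
          have hi1 : i % 5 = 1 := by
            have h' : 1 = i ^ 105 % 5 := hj
            rw [Nat.pow_mod] at h'
            have hlt := Nat.mod_lt i (show 5 > 0 by norm_num)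
            interval_cases hh : i % 5 <;> first | rfl | omega | (norm_num at h')
          have hfix : a * (q : X) * a⁻¹ = q := by
            rw [hai, pow_eq_pow_mod i (hqo ▸ pow_orderOf_eq_one (q : X)), hi1, pow_one]
          rw [hC5def, mem_centralizer_iff]
          rintro _ ⟨j, rfl⟩
          exact ((show Commute a (q : X) from mul_inv_eq_iff_eq_mul.1 hfix).zpow_right j).eq.symm
        exact e ▸ card_dvd_of_le hle
      · -- 21 Sylow subgroups: self-normalizing, so a normal complement of order 21
        have hN1 : normalizer (Q5 : Set ↥(centralizer (P : Set X))) = zpowers q := by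
          have hle0 : (Q5 : Subgroup ↥(centralizer (P : Set X))) ≤ normalizer (Q5 : Set ↥(centralizer (P : Set X))) := le_normalizer
          rw [Q5.card_eq_index_normalizer] at h1
          have h := (normalizer (Q5 : Set ↥(centralizer (P : Set X)))).card_mul_index
          rw [h1, e] at h
          refine (eq_of_le_of_card_ge hle0 ?_).symm
          rw [show Nat.card (Q5 : Subgroup ↥(centralizer (P : Set X))) = 5 by
            show Nat.card (zpowers q) = 5
            rw [Nat.card_zpowers, hq]]
          omega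
        -- but `P` is central in its centralizer
        obtain ⟨p, hp, hp1⟩ := (Subgroup.bot_or_exists_ne_one P).resolve_left hPne
        have hm3 : (⟨p, hPC hp⟩ : ↥(centralizer (P : Set X))) ∈ normalizer (Q5 : Set ↥(centralizer (P : Set X))) := by
          refine mem_normalizer_iff.2 fun w => ?_
          have hcw : (⟨p, hPC hp⟩ : ↥(centralizer (P : Set X))) * w * (⟨p, hPC hp⟩ : ↥(centralizer (P : Set X)))⁻¹ = w :=
            mul_inv_eq_iff_eq_mul.2 (Subtype.ext (mem_centralizer_iff.1 w.2 p hp))
          rw [hcw]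
        rw [hN1] at hm3
        have hd5 := orderOf_dvd_of_mem_zpowers hm3
        rw [hq, Subgroup.orderOf_mk] at hd5
        have hd7 : orderOf p ∣ 7 := by rw [← Subgroup.orderOf_mk p hp, ← hP]; exact _root_.orderOf_dvd_natCard _
        exact hp1 (orderOf_eq_one_iff.1 (Nat.eq_one_of_dvd_one ((by norm_num : Nat.gcd 5 7 = 1) ▸ Nat.dvd_gcd hd5 hd7)))
    have hk2 := h105 h15
    have hodd5 : ¬ 2 ∣ Nat.card C5 := fun h => by
      have h1 := Nat.dvd_trans h (Nat.mem_divisors.1 hC5).1
      norm_num at h1
    obtain ⟨s, hs⟩ := exists_prime_orderOf_dvd_card' (G := ↥(normalizer (zpowers (q : X) : Set X))) 2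
      (by rw [hN5]; exact dvd_mul_of_dvd_right (Nat.dvd_of_mod_eq_zero hk2) _)
    have hso : orderOf (s : X) = 2 := by rw [Subgroup.orderOf_coe, hs]
    have hs2 : (s : X) * s = 1 := by rw [← pow_two, ← hso, pow_orderOf_eq_one]
    have hsC5 : (s : X) ∈ normalizer (C5 : Set X) := mem_normalizer_fintype fun a ha => by
      rw [hC5def, SetLike.mem_coe, mem_centralizer_iff] at ha ⊢
      intro p hp
      have := ha _ ((mem_normalizer_iff''.1 s.2 p).1 hp)
      calc p * ((s : X) * a * (s : X)⁻¹) = s * ((s : X)⁻¹ * p * s * a) * (s : X)⁻¹ := by group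
        _ = s * (a * ((s : X)⁻¹ * p * s)) * (s : X)⁻¹ := by rw [this]
        _ = (s : X) * a * (s : X)⁻¹ * p := by group
    obtain ⟨hinv, -⟩ := inverts_all hs2 hsC5 (hfree5 _ hso)
    have hsP : (s : X) ∈ normalizer (P : Set X) := mem_normalizer_fintype fun a ha => by
      rw [SetLike.mem_coe, hinv a (hPC5 ha)]; exact inv_mem ha
    have h2d : 2 ∣ Nat.card (normalizer (P : Set X)) := by
      rw [← hso, ← Subgroup.orderOf_mk (s : X) hsP]
      exact _root_.orderOf_dvd_natCard _
    rw [hN, e, ek] at h2d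
    norm_num at h2d

end CfsgLib.SuzType
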