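import Mathlib
import Cfsg.Agent.Lib.SuzType.TypLayer
import Cfsg.Agent.Lib.SuzType.SevenCIT

/-!
Elements of order seven in the centralizer of an involution lifting the chosen pair.
-/

set_option autoImplicit false
set_option maxHeartbeats 1000000
set_option synthInstance.maxSize 8000
set_option synthInstance.maxHeartbeats 1000000
set_option linter.style.longLine false
set_option linter.unusedSectionVars false

namespace CfsgLib.SuzType

open Subgroup CfsgLib.CIT

theorem outer_facts : ∀ p : W × W, TP p → Ax p → p ≠ 0 →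
    beta1 p (Lout p) = 1 ∧ beta2 p (Lout p) = 0 := by decide +kernel

theorem mem_norm_zpowers {G : Type*} [Group G] [Finite G] {n u : G} (h : n * u * n⁻¹ ∈ zpowers u) :
    n ∈ normalizer (zpowers u : Set G) := mem_normalizer_fintype fun a ha => by
  obtain ⟨i, rfl⟩ := ha
  show n * u ^ i * n⁻¹ ∈ zpowers u
  rw [← conj_zpow]
  exact zpow_mem h i

theorem mem_cent_zpowers {G : Type*} [Group G] {n u : G} :
    n ∈ centralizer (zpowers u : Set G) ↔ n * u = u * n := by
  refine ⟨fun h => (mem_centralizer_iff.1 h u (mem_zpowers u)).symm, fun h => mem_centralizer_iff.2 ?_⟩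
  rintro _ ⟨i, rfl⟩
  exact ((show Commute n u from h).zpow_right i).eq.symm

variable {G : Type*} [Group G] [Finite G] {z : G} {Q : Subgroup G}

namespace Base

variable {K : Coord z Q 1} {x g : G} (S : Base K x g)
include S

theorem outer_dich {t s d : G} (ht : S.Typ t) (hs : s ∈ Sg z t) (hsx : s * x * s⁻¹ = z * x)
    (hd : d ∈ S.Tg) (h2 : d * d = 1) (h1 : d ≠ 1) :
    d = z ∨ d * (s * d * s⁻¹) * (d * (s * d * s⁻¹)) = z ∨ d * (s * d * s⁻¹) = z := by
  obtain ⟨p, hp, hn⟩ := hd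
  obtain ⟨q1, q2⟩ := (S.par_sq_one hn).1 h2
  have hA := (inv_cases p q1 q2).resolve_right (TP_not_An p hp)
  have h' := S.out_par ht hs hsx hn
  have hz : S.el 1 0 = z := by simp [el]
  by_cases hp0 : p = 0
  · subst hp0
    obtain ⟨i, j, rfl⟩ := S.par_zero hn
    rcases zcases j with rfl | rfl
    · left
      rcases zcases i with rfl | rfl
      · exact absurd S.el_zero h1
      · exact hz
    · right; right
      have e0 : s * S.el i 0 * s⁻¹ = S.el i 0 := by
        rcases zcases i with rfl | rfl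
        · rw [S.el_zero]; group
        · rw [hz, (mem_Sg.1 hs).1, mul_inv_cancel_right]
      have e1 : s * S.el i 1 * s⁻¹ = S.el (i + 1) 1 := by
        rw [← show S.el i 0 * S.el 0 1 = S.el i 1 by rw [S.el_mul]; simp,
          show s * (S.el i 0 * S.el 0 1) * s⁻¹ = (s * S.el i 0 * s⁻¹) * (s * S.el 0 1 * s⁻¹) by group,
          e0, show S.el 0 1 = x by simp [el], hsx, ← show S.el 1 1 = z * x by simp [el], S.el_mul]
        simp
      rw [e1, S.el_mul]
      refine Eq.trans ?_ hz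
      congr 1
      rcases zcases i with rfl | rfl <;> decide
  · right; left
    obtain ⟨r1, r2⟩ := (S.par_sq_one h').1 (conj_sq_one h2)
    obtain ⟨b1, b2⟩ := outer_facts p hp hA hp0
    rw [S.par_sq (S.par_mul hn h'), (beta_sum p (Lout p)).1, (beta_sum p (Lout p)).2, q1, q2, r1, r2,
      b1, b2]
    refine Eq.trans ?_ hz
    simp

theorem outer_pair {t s d w : G} (ht : S.Typ t) (hs : s ∈ Sg z t) (hsx : s * x * s⁻¹ = z * x)
    (hd : d ∈ S.Tg) (h2 : d * d = 1) (h1 : d ≠ 1) (hdz : d ≠ z) (hw1 : Commute w d)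
    (hw2 : Commute w (s * d * s⁻¹)) : Commute w z := by
  rcases (S.outer_dich ht hs hsx hd h2 h1).resolve_left hdz with e | e <;> rw [← e]
  · exact (hw1.mul_right hw2).mul_right (hw1.mul_right hw2)
  · exact hw1.mul_right hw2

theorem outer_fixed {t s d : G} (ht : S.Typ t) (hs : s ∈ Sg z t) (hsx : s * x * s⁻¹ = z * x)
    (hd : d ∈ S.Tg) (h2 : d * d = 1) (h1 : d ≠ 1) (hc : s * d = d * s) : d = z := by
  refine (S.outer_dich ht hs hsx hd h2 h1).resolve_right fun h => S.hyp.extra.ne_one ?_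
  rw [hc, mul_inv_cancel_right, h2] at h
  rcases h with h | h
  · rw [one_mul] at h; exact h.symm
  · exact h.symm

theorem inner_sq {t s : G} (ht : S.Typ t) (hs : s ∈ Sg z t) (hsx : s * x = x * s) : s * s ∈ S.Tg := by
  rcases S.res_cases ht hs with ⟨-, p, hp, -⟩ | ⟨h, -⟩
  · exact ⟨0, zero_TP, (S.par_sq hp).symm ▸ S.par_el _ _⟩
  · rw [hsx, mul_inv_cancel_right] at h
    exact absurd (right_eq_mul.1 h) S.hyp.extra.ne_one

theorem sg_pow_four {t s : G} (ht : S.Typ t) (hs : s ∈ Sg z t) : s * s * (s * s) ∈ S.Tg := by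
  rcases S.res_cases ht hs with ⟨h, -⟩ | ⟨h, -⟩
  · exact mul_mem (S.inner_sq ht hs h) (S.inner_sq ht hs h)
  · refine S.inner_sq ht (mul_mem hs hs) (mul_inv_eq_iff_eq_mul.1 ?_)
    calc s * s * x * (s * s)⁻¹ = s * (s * x * s⁻¹) * s⁻¹ := by group
      _ = s * (z * x) * s⁻¹ := by rw [h]
      _ = z * (s * x * s⁻¹) := by rw [← mul_assoc s z, (mem_Sg.1 hs).1]; group
      _ = x := by rw [h, ← mul_assoc, S.hyp.extra.sq_one, one_mul]

namespace LData

variable {S} {t : G} {L : Subgroup G} (D : S.LData t L) (ht : S.Typ t)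
include D ht

theorem normal {k l : G} (hk : k * t = t * k) (hl : l ∈ L) : k * l * k⁻¹ ∈ L := by
  have : Fact (Nat.Prime 2) := ⟨Nat.prime_two⟩
  set gens : Set G := {a | a * t = t * a ∧ (Odd (orderOf a) ∨ IsConj z a)} with hgens
  set M := Subgroup.closure gens with hM
  have hML : M ≤ L := (Subgroup.closure_le L).2 fun a ⟨ha, h⟩ => h.elim (D.odd a ha) (fun h => D.sigma a h ha)
  have hgen : ∀ c, c * t = t * c → ∀ a ∈ gens, c * a * c⁻¹ ∈ gens := fun c hc a ⟨ha, h⟩ =>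
    ⟨(Commute.mul_left (Commute.mul_left hc ha) (Commute.inv_left hc)).eq, h.imp
      (fun h => by
        rwa [show orderOf (c * a * c⁻¹) = orderOf a from MulEquiv.orderOf_eq (MulAut.conj c) a])
      (fun h => h.trans (isConj_iff.2 ⟨c, rfl⟩))⟩
  have hMn : ∀ c, c * t = t * c → ∀ a ∈ M, c * a * c⁻¹ ∈ M := by
    intro c hc a ha
    have : M.map (MulAut.conj c).toMonoidHom ≤ M := by
      rw [hM, MonoidHom.map_closure]
      exact Subgroup.closure_mono (Set.image_subset_iff.2 fun b hb => hgen c hc b hb)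
    exact this ⟨a, ha, rfl⟩
  have hT : S.Tg ≤ M := S.Tg_le_of_sigma ht M fun b hb hbt => Subgroup.subset_closure ⟨hbt, Or.inr hb⟩
  have hall : L ≤ M := by
    intro a ha
    have h20 : a ^ 20160 = 1 := by
      have := congrArg Subtype.val (pow_card_eq_one' (x := (⟨a, ha⟩ : L)))
      rwa [D.card_L ht] at this
    have h1 : a ^ 64 ∈ M := by
      refine Subgroup.subset_closure ⟨(Commute.pow_left (D.comm_t ha) 64).eq, Or.inl ?_⟩
      exact Odd.of_dvd_nat (n := 315) (by decide) (orderOf_dvd_of_pow_eq_one (by rw [← pow_mul]; exact h20))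
    have h2 : a ^ 315 ∈ M := by
      have hp : IsPGroup 2 (zpowers ((⟨a, ha⟩ : L) ^ 315)) := by
        rintro ⟨_, i, rfl⟩
        refine ⟨6, Subtype.ext ?_⟩
        show (((⟨a, ha⟩ : L) ^ 315) ^ i) ^ (2 ^ 6) = 1
        rw [← zpow_natCast, ← zpow_mul, mul_comm, zpow_mul, zpow_natCast, ← pow_mul,
          show 315 * 2 ^ 6 = Nat.card L by rw [D.card_L ht]; norm_num, pow_card_eq_one', one_zpow]
      obtain ⟨b, hb⟩ := D.conj_into_Tg ht hp
      have h3 := hMn (b : G)⁻¹ (Commute.inv_left (D.comm_t b.2)).eq _ (hT (hb _ (mem_zpowers _)))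
      simpa [mul_assoc] using h3
    have e : a = (a ^ 64) ^ 64 * (a ^ 315) ^ 51 := by
      rw [← pow_mul, ← pow_mul, ← pow_add, show 64 * 64 + 315 * 51 = 20160 + 1 from rfl, pow_succ, h20, one_mul]
    rw [e]
    exact mul_mem (pow_mem h1 _) (pow_mem h2 _)
  exact hML (hMn k hk l (hall hl))

theorem mem_split {k : G} (hk : k * t = t * k) : ∃ a ∈ L, a⁻¹ * k ∈ Sg z t := by
  have h : IsConj z (k * z * k⁻¹) := isConj_iff.2 ⟨k, rfl⟩
  obtain ⟨a, ha, e⟩ := D.trans _ h
    (Commute.mul_left (Commute.mul_left hk (S.typ_comm ht).symm) (Commute.inv_left hk)).eq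
  refine ⟨a, ha, mem_Sg.2 ⟨?_, (Commute.mul_left (Commute.inv_left (D.comm_t ha)) hk).eq⟩⟩
  calc a⁻¹ * k * z = a⁻¹ * (k * z * k⁻¹) * k := by group
    _ = a⁻¹ * (a * z * a⁻¹) * k := by rw [e]
    _ = z * (a⁻¹ * k) := by group

theorem pow_mul_mem {a s : G} (ha : a ∈ L) (hs : s * t = t * s) :
    ∀ n : ℕ, (a * s) ^ n * (s ^ n)⁻¹ ∈ L := by
  intro n
  induction n with
  | zero => simp
  | succ n ih =>
    rw [show (a * s) ^ (n + 1) * (s ^ (n + 1))⁻¹ = a * (s * ((a * s) ^ n * (s ^ n)⁻¹) * s⁻¹) by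
      rw [pow_succ', pow_succ']; group]
    exact mul_mem ha (D.normal ht hs ih)

theorem pow_four_mem {k : G} (hk : k * t = t * k) : k ^ 4 ∈ L := by
  obtain ⟨a, ha, hs⟩ := D.mem_split ht hk
  have h := mul_mem (D.pow_mul_mem ht ha (mem_Sg.1 hs).2 4) (D.tg (S.sg_pow_four ht hs))
  rwa [mul_inv_cancel_left, show a⁻¹ * k * (a⁻¹ * k) * (a⁻¹ * k * (a⁻¹ * k)) = (a⁻¹ * k) ^ 4 by
      rw [pow_succ, pow_succ, pow_succ, pow_one, mul_assoc (a⁻¹ * k * (a⁻¹ * k))],
    inv_mul_cancel_right] at h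

theorem odd_comm {f w : G} (hf : f ∈ L) (h2 : f * f = 1) (h1 : f ≠ 1) (hw : w ∈ L) (ho : Odd (orderOf w))
    (hc : f * w = w * f) : w = 1 := by
  have hfo : orderOf (⟨f, hf⟩ : L) = 2 :=
    orderOf_eq_prime (by rw [pow_two]; exact Subtype.ext h2) fun e => h1 (congrArg Subtype.val e)
  exact congrArg Subtype.val ((D.isCIT ht).eq_one_of_commute (IsTwo.of_orderOf_two hfo)
    (fun e => h1 (congrArg Subtype.val e)) (by rwa [Subgroup.orderOf_mk]) (Subtype.ext hc.symm : Commute (⟨w, hw⟩ : L) ⟨f, hf⟩))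

theorem card_inv_G : Nat.card {f : G // f ∈ L ∧ f * f = 1 ∧ f ≠ 1} = 315 := by
  rw [← D.card_invol ht]
  exact Nat.card_congr
    { toFun := fun f => ⟨⟨f.1, f.2.1⟩, Subtype.ext f.2.2.1, fun e => f.2.2.2 (congrArg Subtype.val e)⟩
      invFun := fun f => ⟨f.1, f.1.2, congrArg Subtype.val f.2.1, fun e => f.2.2 (Subtype.ext e)⟩
      left_inv := fun f => rfl
      right_inv := fun f => rfl }

theorem h27 (T : Subgroup ↥L) (hT : Nat.card T = 64) :
    Nat.card {n : ↥L // n ∈ T ∧ n * n = 1 ∧ n ≠ 1} = 27 := by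
  obtain ⟨a, ha⟩ := D.conj_into_Tg ht (IsPGroup.of_card (n := 6) (by rw [hT]; norm_num) : IsPGroup 2 T)
  let f : T → S.Tg := fun n => ⟨_, ha n n.2⟩
  have hf : Function.Bijective f := (Nat.bijective_iff_injective_and_card f).2
    ⟨fun m n e => by
      have := congrArg Subtype.val e
      exact Subtype.ext (mul_left_cancel (mul_right_cancel (Subtype.ext this : a * (m : L) * a⁻¹ = a * n * a⁻¹))),
      by rw [hT, S.card_Tg]⟩
  rw [← S.card_tg_inv]
  refine Nat.card_congr (Equiv.ofBijective (fun n => ⟨((a * n.1 * a⁻¹ : ↥L) : G), ha _ n.2.1,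
    congrArg Subtype.val (conj_sq_one (c := a) n.2.2.1), fun e => n.2.2.2 (conj_eq_one_iff.1 (Subtype.ext e))⟩) ⟨?_, ?_⟩)
  · intro m n e
    have := congrArg Subtype.val e
    exact Subtype.ext (mul_left_cancel (mul_right_cancel (Subtype.ext this : a * m.1 * a⁻¹ = a * n.1 * a⁻¹)))
  · rintro ⟨w, hw, h2, h1⟩
    obtain ⟨n, hn⟩ := hf.2 ⟨w, hw⟩
    have e : ((a * (n : L) * a⁻¹ : ↥L) : G) = w := congrArg Subtype.val hn
    refine ⟨⟨n, n.2, ?_, fun e1 => h1 ?_⟩, Subtype.ext e⟩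
    · have h := conj_sq_one (c := a⁻¹) (Subtype.ext (by rw [Subgroup.coe_mul, e, h2]; rfl) :
        (a * (n : L) * a⁻¹) * (a * (n : L) * a⁻¹) = 1)
      simpa [mul_assoc] using h
    · rw [← e, e1]; simp

variable {u : G} (hu : orderOf u = 7) (hut : u * t = t * u)
include hu hut

omit ht in
theorem u_mem : u ∈ L := D.odd u hut (by rw [hu]; decide)

theorem seven_L : Nat.card ↥(L ⊓ centralizer (zpowers u : Set G)) = 7 ∧
    Nat.card ↥(L ⊓ normalizer (zpowers u : Set G)) = 21 := by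
  have huL := D.u_mem hu hut
  have hP : Nat.card (zpowers (⟨u, huL⟩ : L)) = 7 := by rw [Nat.card_zpowers, Subgroup.orderOf_mk, hu]
  obtain ⟨hc, hn⟩ := seven_in_L (D.isCIT ht) (D.card_L ht) (D.h27 ht) hP
  refine ⟨hc ▸ ?_, hn ▸ ?_⟩
  · refine Nat.card_congr
      { toFun := fun w => ⟨⟨w, (mem_inf.1 w.2).1⟩, mem_cent_zpowers.2 (Subtype.ext (mem_cent_zpowers.1 (mem_inf.1 w.2).2))⟩
        invFun := fun w => ⟨(w : L), mem_inf.2 ⟨(w : L).2, mem_cent_zpowers.2 (congrArg Subtype.val (mem_cent_zpowers.1 w.2))⟩⟩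
        left_inv := fun w => rfl
        right_inv := fun w => rfl }
  · have hz : ∀ w : L, w ∈ zpowers (⟨u, huL⟩ : L) ↔ (w : G) ∈ zpowers u := fun w => by
      simp only [mem_zpowers_iff, Subtype.ext_iff, SubgroupClass.coe_zpow]
    refine Nat.card_congr
      { toFun := fun w => ⟨⟨w, (mem_inf.1 w.2).1⟩, mem_norm_zpowers ((hz _).2
          ((mem_normalizer_iff.1 (mem_inf.1 w.2).2 u).1 (mem_zpowers u)))⟩
        invFun := fun w => ⟨(w : L), mem_inf.2 ⟨(w : L).2, mem_norm_zpowers ((hz _).1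
          ((mem_normalizer_iff.1 w.2 _).1 (mem_zpowers (⟨u, huL⟩ : L))))⟩⟩
        left_inv := fun w => rfl
        right_inv := fun w => rfl }

theorem cent_mem_zpowers {w : G} (hw : w ∈ L) (hc : w * u = u * w) : w ∈ zpowers u := by
  have huL := D.u_mem hu hut
  have hle : zpowers u ≤ L ⊓ centralizer (zpowers u : Set G) :=
    zpowers_le.2 (mem_inf.2 ⟨huL, mem_cent_zpowers.2 rfl⟩)
  rw [eq_of_le_of_card_ge hle (by rw [Nat.card_zpowers, hu, (D.seven_L ht hu hut).1])]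
  exact mem_inf.2 ⟨hw, mem_cent_zpowers.2 hc⟩

theorem card_norm : Nat.card ↥(centralizer ({t} : Set G) ⊓ normalizer (zpowers u : Set G)) = 168 := by
  have : Fact (Nat.Prime 7) := ⟨by norm_num⟩
  have huL := D.u_mem hu hut
  set C := centralizer ({t} : Set G) with hC
  set NK := C ⊓ normalizer (zpowers u : Set G) with hNK
  have hfac : (Nat.card L).factorization 7 = 1 := by
    rw [D.card_L ht, show 20160 = 7 * 2880 from rfl, Nat.factorization_mul (by norm_num) (by norm_num),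
      Finsupp.add_apply, Nat.Prime.factorization_self (by norm_num : Nat.Prime 7),
      Nat.factorization_eq_zero_of_not_dvd (by norm_num : ¬ 7 ∣ 2880)]
  let f := quotientSubgroupOfEmbeddingOfLE L (inf_le_left : NK ≤ C)
  have hf : Function.Surjective f := by
    intro q
    induction q using QuotientGroup.induction_on with
    | H k =>
      have hk : (k : G) * t = t * k := mem_centralizer_singleton_iff.1 k.2
      have hv : (k : G) * u * (k : G)⁻¹ ∈ L := D.normal ht hk huL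
      let P7 : Sylow 7 L := Sylow.ofCard (zpowers (⟨u, huL⟩ : L))
        (by rw [Nat.card_zpowers, Subgroup.orderOf_mk, hu, hfac, pow_one])
      let Q7 : Sylow 7 L := Sylow.ofCard (zpowers (⟨_, hv⟩ : L))
        (by rw [Nat.card_zpowers, Subgroup.orderOf_mk, show orderOf ((k : G) * u * (k : G)⁻¹) = 7 from
          (MulEquiv.orderOf_eq (MulAut.conj (k : G)) u).trans hu, hfac, pow_one])
      obtain ⟨a, ha⟩ := MulAction.exists_smul_eq L P7 Q7
      have h1 : a * (⟨u, huL⟩ : L) * a⁻¹ ∈ ((a • P7 : Sylow 7 L) : Subgroup L) := by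
        rw [Sylow.coe_subgroup_smul, mem_pointwise_smul_iff_inv_smul_mem]
        show (MulAut.conj a)⁻¹ (a * (⟨u, huL⟩ : L) * a⁻¹) ∈ zpowers (⟨u, huL⟩ : L)
        simp [mul_assoc]
      rw [ha] at h1
      change _ ∈ zpowers (⟨_, hv⟩ : L) at h1
      obtain ⟨i, hi⟩ := h1
      have hi' : ((k : G) * u * (k : G)⁻¹) ^ i = (a : G) * u * (a : G)⁻¹ := congrArg Subtype.val hi
      rw [conj_zpow] at hi'
      have hnN : (a : G)⁻¹ * k ∈ normalizer (zpowers u : Set G) := by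
        rw [← inv_mem_iff]
        refine mem_norm_zpowers ⟨i, ?_⟩
        show u ^ i = _
        calc u ^ i = (k : G)⁻¹ * ((k : G) * u ^ i * (k : G)⁻¹) * k := by group
          _ = _ := by rw [hi']; group
      have hnC : (a : G)⁻¹ * k ∈ C := mem_centralizer_singleton_iff.2
        (Commute.mul_left (Commute.inv_left (D.comm_t a.2)) hk).eq
      refine ⟨QuotientGroup.mk (⟨_, mem_inf.2 ⟨hnC, hnN⟩⟩ : NK), ?_⟩
      rw [show f (QuotientGroup.mk (⟨_, mem_inf.2 ⟨hnC, hnN⟩⟩ : NK)) = QuotientGroup.mk (⟨_, hnC⟩ : C) from rfl,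
        QuotientGroup.eq, mem_subgroupOf]
      show ((a : G)⁻¹ * k)⁻¹ * k ∈ L
      rw [show ((a : G)⁻¹ * k)⁻¹ * k = (k : G)⁻¹ * a * (k : G)⁻¹⁻¹ by group]
      exact D.normal ht (Commute.inv_left hk).eq a.2
  have hidx : (L.subgroupOf NK).index = (L.subgroupOf C).index :=
    Nat.card_congr (Equiv.ofBijective f ⟨f.injective, hf⟩)
  have hidx8 : (L.subgroupOf C).index = 8 := by
    have h := (L.subgroupOf C).card_mul_index
    rw [Nat.card_congr (subgroupOfEquivOfLe D.le).toEquiv, D.card_centralizer ht, D.card_L ht] at h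
    omega
  have hsub : Nat.card (L.subgroupOf NK) = 21 := by
    rw [← (D.seven_L ht hu hut).2, ← inf_subgroupOf_right,
      Nat.card_congr (subgroupOfEquivOfLe (inf_le_right : L ⊓ NK ≤ NK)).toEquiv]
    congr 1
    rw [hNK, ← inf_assoc, inf_eq_left.2 D.le]
  rw [← (L.subgroupOf NK).card_mul_index, hsub, hidx, hidx8]

/-- No element centralizing `u` lies in an outer coset. -/
theorem no_outer {c a : G} (hc : c * t = t * c) (hcu : c * u = u * c) (ha : a ∈ L)
    (hs : a⁻¹ * c ∈ Sg z t) (hsx : a⁻¹ * c * x * (a⁻¹ * c)⁻¹ = z * x) : False := by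
  classical
  have : Fact (Nat.Prime 2) := ⟨Nat.prime_two⟩
  have : Fact (Nat.Prime 7) := ⟨by norm_num⟩
  have : Fintype G := Fintype.ofFinite G
  have huL := D.u_mem hu hut
  have hu7 : u ^ 7 = 1 := hu ▸ pow_orderOf_eq_one u
  set s := a⁻¹ * c with hsd
  obtain ⟨j, hj⟩ := D.cent_mem_zpowers ht hu hut (D.pow_four_mem ht hc) (Commute.pow_left hcu 4).eq
  have h28 : (c ^ 4) ^ 7 = 1 := by
    rw [← show u ^ j = c ^ 4 from hj, ← zpow_natCast, ← zpow_mul, mul_comm, zpow_mul, zpow_natCast, hu7, one_zpow]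
  set σ := c ^ 21 with hσd
  have hσ4 : σ ^ (2 ^ 2) = 1 := by
    rw [hσd, ← pow_mul, show 21 * 2 ^ 2 = 4 * 7 * 3 from rfl, pow_mul, pow_mul c 4 7, h28, one_pow]
  have hσt : σ * t = t * σ := (Commute.pow_left hc 21).eq
  have hσu : σ * u = u * σ := (Commute.pow_left hcu 21).eq
  have hb : σ * s⁻¹ ∈ L := by
    have e : σ * s⁻¹ = c ^ 20 * (c * s⁻¹) := by rw [hσd, pow_succ c 20]; group
    rw [e, show c ^ 20 = (c ^ 4) ^ 5 by rw [← pow_mul], show c * s⁻¹ = a by rw [hsd]; group]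
    exact mul_mem (pow_mem (D.pow_four_mem ht hc) 5) ha
  -- the frame at a fixed involution
  have frame : ∀ f : G, f ∈ L → f * f = 1 → f ≠ 1 → σ * f = f * σ →
      ∃ b ∈ L, b * z * b⁻¹ = f ∧ b⁻¹ * σ * b ∈ Sg z t ∧ b⁻¹ * σ * b * x * (b⁻¹ * σ * b)⁻¹ = z * x := by
    intro f hf h2 h1 hσf
    obtain ⟨-, b, hb', e⟩ := D.invol_conj ht hf h2 h1
    have hz' : b⁻¹ * σ * b * z = z * (b⁻¹ * σ * b) := by
      calc b⁻¹ * σ * b * z = b⁻¹ * (σ * (b * z * b⁻¹)) * b := by group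
        _ = b⁻¹ * (b * z * b⁻¹ * σ) * b := by rw [e, hσf]
        _ = z * (b⁻¹ * σ * b) := by group
    have ht' : b⁻¹ * σ * b * t = t * (b⁻¹ * σ * b) :=
      (Commute.mul_left (Commute.mul_left (Commute.inv_left (D.comm_t hb')) hσt) (D.comm_t hb')).eq
    have hσS : b⁻¹ * σ * b ∈ Sg z t := mem_Sg.2 ⟨hz', ht'⟩
    have hwS : b⁻¹ * σ * b * s⁻¹ ∈ Sg z t := mul_mem hσS (inv_mem hs)
    have hwL : b⁻¹ * σ * b * s⁻¹ ∈ L := by
      rw [show b⁻¹ * σ * b * s⁻¹ = b⁻¹ * (σ * s⁻¹) * (s * b * s⁻¹) by group]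
      exact mul_mem (mul_mem (inv_mem hb') hb) (D.normal ht (mem_Sg.1 hs).2 hb')
    have hwT := D.cent_z ht hwL (mem_Sg.1 hwS).1
    refine ⟨b, hb', e, hσS, ?_⟩
    have hwx := S.Ag_comm_x (S.Tg_le hwT)
    calc b⁻¹ * σ * b * x * (b⁻¹ * σ * b)⁻¹
        = (b⁻¹ * σ * b * s⁻¹) * (s * x * s⁻¹) * (b⁻¹ * σ * b * s⁻¹)⁻¹ := by group
      _ = (b⁻¹ * σ * b * s⁻¹) * z * x * (b⁻¹ * σ * b * s⁻¹)⁻¹ := by rw [hsx]; group
      _ = z * ((b⁻¹ * σ * b * s⁻¹) * x * (b⁻¹ * σ * b * s⁻¹)⁻¹) := by rw [(mem_Sg.1 hwS).1]; group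
      _ = z * x := by rw [hwx, mul_inv_cancel_right]
  let F := {f : G // (f ∈ L ∧ f * f = 1 ∧ f ≠ 1) ∧ σ * f = f * σ}
  choose fr hfrL hfrz hfrS hfrx using fun f : F => frame f.1 f.2.1.1 f.2.1.2.1 f.2.1.2.2 f.2.2
  have back : ∀ (f : F) (d : G), d ∈ L → Commute d f.1 → (fr f)⁻¹ * d * fr f ∈ S.Tg := by
    intro f d hd hdf
    refine D.cent_z ht (mul_mem (mul_mem (inv_mem (hfrL f)) hd) (hfrL f)) ?_
    calc (fr f)⁻¹ * d * fr f * z = (fr f)⁻¹ * (d * (fr f * z * (fr f)⁻¹)) * fr f := by group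
      _ = (fr f)⁻¹ * (fr f * z * (fr f)⁻¹ * d) * fr f := by rw [hfrz, hdf.eq]
      _ = z * ((fr f)⁻¹ * d * fr f) := by group
  have hcj : ∀ {b p q : G}, Commute p q → Commute (b⁻¹ * p * b) (b⁻¹ * q * b) := fun {b p q} h => by
    show _ * _ = _ * _
    rw [show b⁻¹ * p * b * (b⁻¹ * q * b) = b⁻¹ * (p * q) * b by group, h.eq]; group
  have hsame : ∀ f f' : F, Commute f.1 f'.1 → f = f' := by
    intro f f' h
    have hT := back f f'.1 f'.2.1.1 h.symm
    have e := S.outer_fixed ht (hfrS f) (hfrx f) hT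
      (by simpa [mul_assoc] using conj_sq_one (c := (fr f)⁻¹) f'.2.1.2.1)
      (fun e => f'.2.1.2.2 (by
        rw [show f'.1 = fr f * ((fr f)⁻¹ * f'.1 * fr f) * (fr f)⁻¹ by group, e]; group))
      (hcj (show Commute σ f'.1 from f'.2.2)).eq
    refine Subtype.ext (Eq.trans (hfrz f).symm ?_)
    rw [← e]; group
  let I := {f : G // f ∈ L ∧ f * f = 1 ∧ f ≠ 1}
  have hcount : Nat.card F * 27 ≤ 315 := by
    rw [← S.card_tg_inv, ← Nat.card_prod, ← D.card_inv_G ht]
    refine Nat.card_le_card_of_injective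
      (fun d : F × {n : G // n ∈ S.Tg ∧ n * n = 1 ∧ n ≠ 1} =>
        (⟨fr d.1 * d.2.1 * (fr d.1)⁻¹, mul_mem (mul_mem (hfrL d.1) (D.tg d.2.2.1)) (inv_mem (hfrL d.1)),
          conj_sq_one d.2.2.2.1, fun e => d.2.2.2.2 (conj_eq_one_iff.1 e)⟩ : I)) ?_
    rintro ⟨f, d, hd, hd2, hd1⟩ ⟨f', d', hd', hd2', hd1'⟩ e
    have e' : fr f * d * (fr f)⁻¹ = fr f' * d' * (fr f')⁻¹ := congrArg Subtype.val e
    have hwf : Commute (fr f * d * (fr f)⁻¹) f.1 := by
      rw [← hfrz f]
      show _ * _ = _ * _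
      rw [show fr f * d * (fr f)⁻¹ * (fr f * z * (fr f)⁻¹) = fr f * (d * z) * (fr f)⁻¹ by group,
        (mem_Sg.1 (S.Ag_le_Sg ht (S.Tg_le hd))).1]; group
    have hwf' : Commute (fr f * d * (fr f)⁻¹) f'.1 := by
      rw [e', ← hfrz f']
      show _ * _ = _ * _
      rw [show fr f' * d' * (fr f')⁻¹ * (fr f' * z * (fr f')⁻¹) = fr f' * (d' * z) * (fr f')⁻¹ by group,
        (mem_Sg.1 (S.Ag_le_Sg ht (S.Tg_le hd'))).1]; group
    have hff : f = f' := by
      by_cases hdz : d = z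
      · exact hsame f f' (by rw [← hfrz f]; rw [hdz] at hwf'; exact hwf')
      · have hd'' : Commute (σ * (fr f * d * (fr f)⁻¹) * σ⁻¹) f'.1 := by
          show _ * _ = _ * _
          calc σ * (fr f * d * (fr f)⁻¹) * σ⁻¹ * f'.1
              = σ * (fr f * d * (fr f)⁻¹) * (σ⁻¹ * f'.1) := by group
            _ = σ * (fr f * d * (fr f)⁻¹) * (f'.1 * σ⁻¹) := by
                rw [(show Commute σ f'.1 from f'.2.2).inv_left.eq]
            _ = σ * ((fr f * d * (fr f)⁻¹) * f'.1) * σ⁻¹ := by group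
            _ = σ * (f'.1 * (fr f * d * (fr f)⁻¹)) * σ⁻¹ := by rw [hwf'.eq]
            _ = σ * f'.1 * (fr f * d * (fr f)⁻¹) * σ⁻¹ := by group
            _ = f'.1 * (σ * (fr f * d * (fr f)⁻¹) * σ⁻¹) := by rw [f'.2.2]; group
        have h1 : Commute ((fr f)⁻¹ * f'.1 * fr f) d := by
          simpa [mul_assoc] using (hcj (b := fr f) hwf'.symm)
        have h2 : Commute ((fr f)⁻¹ * f'.1 * fr f) ((fr f)⁻¹ * σ * fr f * d * ((fr f)⁻¹ * σ * fr f)⁻¹) := by
          simpa [mul_assoc] using (hcj (b := fr f) hd''.symm)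
        have h3 := S.outer_pair ht (hfrS f) (hfrx f) hd hd2 hd1 hdz h1 h2
        refine hsame f f' ?_
        rw [← hfrz f]
        show _ * _ = _ * _
        calc fr f * z * (fr f)⁻¹ * f'.1 = fr f * (z * ((fr f)⁻¹ * f'.1 * fr f)) * (fr f)⁻¹ := by group
          _ = fr f * ((fr f)⁻¹ * f'.1 * fr f * z) * (fr f)⁻¹ := by rw [h3.eq]
          _ = f'.1 * (fr f * z * (fr f)⁻¹) := by group
    subst hff
    simp only [mul_left_inj, mul_right_inj] at e'
    subst e'
    rfl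
  have hIc : Fintype.card I = 315 := by rw [← Nat.card_eq_fintype_card]; exact D.card_inv_G ht
  have hne : Nonempty F := by
    have hm : ∀ (c : G), c * t = t * c → ∀ n : G, (n ∈ L ∧ n * n = 1 ∧ n ≠ 1) →
        (c * n * c⁻¹ ∈ L ∧ c * n * c⁻¹ * (c * n * c⁻¹) = 1 ∧ c * n * c⁻¹ ≠ 1) := fun c hc n ⟨h1, h2, h3⟩ =>
      ⟨D.normal ht hc h1, conj_sq_one h2, fun e => h3 (conj_eq_one_iff.1 e)⟩
    let f : I → I := fun n => ⟨_, hm σ hσt n.1 n.2⟩
    have hf : Function.Bijective f := Finite.injective_iff_bijective.1 fun p q h => Subtype.ext (by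
      simpa [f] using congrArg Subtype.val h)
    have hiter : ∀ (j : ℕ) (n : I), ((f^[j] n : I) : G) = σ ^ j * n * (σ ^ j)⁻¹ := by
      intro j
      induction j with
      | zero => intro n; simp
      | succ j ih =>
        intro n
        rw [Function.iterate_succ_apply']
        show σ * _ * σ⁻¹ = _
        rw [ih, pow_succ']; group
    obtain ⟨n, hn⟩ := Equiv.Perm.exists_fixed_point_of_prime (p := 2) (n := 2)
      (by rw [hIc]; norm_num) (σ := Equiv.ofBijective f hf) (by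
        refine Equiv.ext fun n => Subtype.ext ?_
        rw [← Equiv.Perm.iterate_eq_pow, show ((Equiv.ofBijective f hf : Equiv.Perm _) : _ → _) = f from rfl,
          hiter, hσ4]
        simp)
    exact ⟨⟨n.1, n.2, mul_inv_eq_iff_eq_mul.1 (congrArg Subtype.val hn)⟩⟩
  -- the action of the fixed points of `σ` on `F`
  let H := L ⊓ centralizer ({σ} : Set G)
  have hmF : ∀ (h : G), h ∈ H → ∀ f : F, (h * f.1 * h⁻¹ ∈ L ∧ h * f.1 * h⁻¹ * (h * f.1 * h⁻¹) = 1 ∧
      h * f.1 * h⁻¹ ≠ 1) ∧ σ * (h * f.1 * h⁻¹) = h * f.1 * h⁻¹ * σ := fun h hh f => by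
    obtain ⟨hhL, hhσ⟩ := mem_inf.1 hh
    have hc' : Commute σ h := (mem_centralizer_singleton_iff.1 hhσ).symm
    exact ⟨⟨mul_mem (mul_mem hhL f.2.1.1) (inv_mem hhL), conj_sq_one f.2.1.2.1,
      fun e => f.2.1.2.2 (conj_eq_one_iff.1 e)⟩, ((hc'.mul_right f.2.2).mul_right hc'.inv_right).eq⟩
  let φ : H →* Equiv.Perm F :=
    { toFun := fun h =>
        { toFun := fun f => ⟨_, hmF h h.2 f⟩
          invFun := fun f => ⟨_, hmF (h : G)⁻¹ (inv_mem h.2) f⟩
          left_inv := fun f => Subtype.ext (show (h : G)⁻¹ * ((h : G) * f.1 * (h : G)⁻¹) * (h : G)⁻¹⁻¹ = f.1 by group)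
          right_inv := fun f => Subtype.ext (show (h : G) * ((h : G)⁻¹ * f.1 * (h : G)⁻¹⁻¹) * (h : G)⁻¹ = f.1 by group) }
      map_one' := Equiv.ext fun f => Subtype.ext (show (1 : G) * f.1 * 1⁻¹ = f.1 by group)
      map_mul' := fun p q => Equiv.ext fun f => Subtype.ext
        (show (p : G) * q * f.1 * ((p : G) * q)⁻¹ = p * (q * f.1 * (q : G)⁻¹) * (p : G)⁻¹ by group) }
  have huH : u ∈ H := mem_inf.2 ⟨huL, mem_centralizer_singleton_iff.2 hσu.symm⟩
  have hφu7 : φ ⟨u, huH⟩ ^ 7 ^ 1 = 1 := by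
    rw [← map_pow, pow_one, show (⟨u, huH⟩ : H) ^ 7 = 1 from Subtype.ext hu7, map_one]
  have h7 : 7 ∣ Fintype.card F := by
    by_contra h
    obtain ⟨f, hf⟩ := Equiv.Perm.exists_fixed_point_of_prime h hφu7
    have hfu : f.1 * u = u * f.1 := (mul_inv_eq_iff_eq_mul.1 (congrArg Subtype.val hf)).symm
    have := D.odd_comm ht f.2.1.1 f.2.1.2.1 f.2.1.2.2 huL (by rw [hu]; decide) hfu
    rw [this, orderOf_one] at hu
    norm_num at hu
  have hF7 : Fintype.card F = 7 := by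
    rw [Nat.card_eq_fintype_card] at hcount
    have : 0 < Fintype.card F := Fintype.card_pos
    omega
  let ψ : H →* ℤˣ := Equiv.Perm.sign.comp φ
  have hψ : ∀ w : H, (w : G) * w = 1 → (w : G) ≠ 1 → ψ w = -1 := by
    intro w h2 h1
    let f0 : F := ⟨(w : G), ⟨(mem_inf.1 w.2).1, h2, h1⟩, (mem_centralizer_singleton_iff.1 (mem_inf.1 w.2).2).symm⟩
    have hfix : ∀ f : F, φ w f = f ↔ f = f0 := fun f => by
      refine ⟨fun h => hsame _ _ (show Commute f.1 (w : G) from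
        (mul_inv_eq_iff_eq_mul.1 (congrArg Subtype.val h)).symm), ?_⟩
      rintro rfl
      exact Subtype.ext (show (w : G) * w * (w : G)⁻¹ = w by group)
    have hsupp : (φ w).support = Finset.univ.erase f0 := by
      ext f
      simp [Equiv.Perm.mem_support, hfix]
    have h6 : (φ w).support.card = 6 := by
      rw [hsupp, Finset.card_erase_of_mem (Finset.mem_univ _), Finset.card_univ, hF7]
    have ho : orderOf (φ w) = 2 := by
      refine orderOf_eq_prime (by rw [← map_pow, pow_two, show w * w = 1 from Subtype.ext h2, map_one]) fun e => ?_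
      rw [e, Equiv.Perm.support_one, Finset.card_empty] at h6
      norm_num at h6
    obtain ⟨n, hn⟩ := Equiv.Perm.cycleType_prime_order (σ := φ w) (by rw [ho]; exact Nat.prime_two)
    have hsum := Equiv.Perm.sum_cycleType (φ w)
    rw [hn, ho, Multiset.sum_replicate, h6, smul_eq_mul] at hsum
    show Equiv.Perm.sign (φ w) = -1
    rw [Equiv.Perm.sign_of_cycleType, hn, ho, Multiset.sum_replicate, Multiset.card_replicate,
      show n + 1 = 3 by omega]
    decide
  let H0 := ψ.ker.map H.subtype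
  have hH0 : ∀ w ∈ H0, w ∈ L ∧ Odd (orderOf w) := by
    have hoddker : Odd (Nat.card ψ.ker) := by
      rw [← Nat.not_even_iff_odd, even_iff_two_dvd]
      intro h
      obtain ⟨w, hw⟩ := exists_prime_orderOf_dvd_card' (G := ↥ψ.ker) 2 h
      have h2 : ((w : H) : G) * (w : H) = 1 := by
        have := pow_orderOf_eq_one w
        rw [hw, pow_two] at this
        exact congrArg (fun v : ↥ψ.ker => ((v : H) : G)) this
      have h1 : ((w : H) : G) ≠ 1 := fun e => by
        rw [show w = 1 from Subtype.ext (Subtype.ext e), orderOf_one] at hw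
        norm_num at hw
      have h3 := hψ _ h2 h1
      rw [MonoidHom.mem_ker.1 w.2] at h3
      exact absurd h3 (by decide)
    rintro w ⟨v, hv, rfl⟩
    refine ⟨(mem_inf.1 v.2).1, ?_⟩
    rw [Subgroup.coe_subtype, Subgroup.orderOf_coe, ← Subgroup.orderOf_mk v hv]
    exact hoddker.of_dvd_nat (_root_.orderOf_dvd_natCard _)
  have hu0 : u ∈ H0 := by
    refine ⟨⟨u, huH⟩, ?_, rfl⟩
    rw [SetLike.mem_coe, MonoidHom.mem_ker]
    have h7' : ψ ⟨u, huH⟩ ^ 7 = 1 := by
      rw [← map_pow, show (⟨u, huH⟩ : H) ^ 7 = 1 from Subtype.ext hu7, map_one]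
    rcases Int.units_eq_one_or (ψ ⟨u, huH⟩) with h | h
    · exact h
    · rw [h] at h7'; exact absurd h7' (by decide)
  obtain ⟨⟨f, ⟨hfL, hf2, hf1⟩, hfσ⟩⟩ := hne
  have hfH : f ∈ H := mem_inf.2 ⟨hfL, mem_centralizer_singleton_iff.2 hfσ.symm⟩
  have hfn : f ∈ normalizer (H0 : Set G) := mem_normalizer_fintype fun w hw => by
    obtain ⟨v, hv, rfl⟩ := hw
    exact ⟨⟨f, hfH⟩ * v * ⟨f, hfH⟩⁻¹, (inferInstance : ψ.ker.Normal).conj_mem v hv _, rfl⟩
  obtain ⟨hinv, -⟩ := inverts_all hf2 hfn fun w hw hcw =>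
    D.odd_comm ht hfL hf2 hf1 (hH0 w hw).1 (hH0 w hw).2 hcw
  have hfN : f ∈ L ⊓ normalizer (zpowers u : Set G) := mem_inf.2 ⟨hfL, mem_norm_zpowers (by
    rw [hinv u hu0]; exact inv_mem (mem_zpowers u))⟩
  have h2 : orderOf f ∣ 21 := by
    rw [← (D.seven_L ht hu hut).2, ← Subgroup.orderOf_mk f hfN]
    exact _root_.orderOf_dvd_natCard _
  rw [orderOf_eq_prime (by rw [pow_two]; exact hf2) hf1] at h2
  norm_num at h2

/-- The centralizer in `C(t)` of a subgroup of order seven. -/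
theorem seven_local : Nat.card ↥(centralizer ({t} : Set G) ⊓ centralizer (zpowers u : Set G)) = 28 ∧
    Nat.card ↥(centralizer ({t} : Set G) ⊓ normalizer (zpowers u : Set G)) = 168 ∧
    ∀ c, c * t = t * c → c * u = u * c → c * c ∈ zpowers u := by
  have : Fact (Nat.Prime 7) := ⟨by norm_num⟩
  have : Fact (Nat.Prime 2) := ⟨Nat.prime_two⟩
  have huL := D.u_mem hu hut
  have hin : ∀ c a, c * t = t * c → c * u = u * c → a ∈ L → a⁻¹ * c ∈ Sg z t →
      a⁻¹ * c * x = x * (a⁻¹ * c) := by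
    intro c a hct hcu ha hs
    rcases S.x_cases (mem_Sg.1 hs).1 (S.act_x0_of_comm ht (mem_Sg.1 hs).1 (mem_Sg.1 hs).2) with h | h
    · exact mul_inv_eq_iff_eq_mul.1 h
    · exact (D.no_outer ht hu hut hct hcu ha hs h).elim
  have hsq : ∀ c, c * t = t * c → c * u = u * c → c * c ∈ zpowers u := by
    intro c hct hcu
    obtain ⟨a, ha, hs⟩ := D.mem_split ht hct
    refine D.cent_mem_zpowers ht hu hut ?_ (Commute.mul_left hcu hcu).eq
    have h := mul_mem (D.pow_mul_mem ht ha (mem_Sg.1 hs).2 2) (D.tg (S.inner_sq ht hs (hin c a hct hcu ha hs)))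
    rwa [mul_inv_cancel_left, ← pow_two (a⁻¹ * c), inv_mul_cancel_right, pow_two] at h
  refine ⟨?_, D.card_norm ht hu hut, hsq⟩
  set C := centralizer ({t} : Set G) with hC
  set CK := C ⊓ centralizer (zpowers u : Set G) with hCK
  set NK := C ⊓ normalizer (zpowers u : Set G) with hNK
  have hCN : CK ≤ NK := inf_le_inf_left _ (centralizer_le_normalizer _)
  have hsub : Nat.card (L.subgroupOf CK) = 7 := by
    rw [← (D.seven_L ht hu hut).1, ← inf_subgroupOf_right,
      Nat.card_congr (subgroupOfEquivOfLe (inf_le_right : L ⊓ CK ≤ CK)).toEquiv]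
    congr 1
    rw [hCK, ← inf_assoc, inf_eq_left.2 D.le]
  have hidx8 : (L.subgroupOf C).index = 8 := by
    have h := (L.subgroupOf C).card_mul_index
    rw [Nat.card_congr (subgroupOfEquivOfLe D.le).toEquiv, D.card_centralizer ht, D.card_L ht] at h
    omega
  let f := quotientSubgroupOfEmbeddingOfLE L (inf_le_left : CK ≤ C)
  have hle8 : (L.subgroupOf CK).index ≤ 8 := by
    rw [← hidx8]
    exact Nat.card_le_card_of_injective f f.injective
  have hlt : (L.subgroupOf CK).index ≠ 8 := by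
    intro h
    have hf : Function.Bijective f := (Nat.bijective_iff_injective_and_card _).2 ⟨f.injective, h.trans hidx8.symm⟩
    obtain ⟨s, hs, hsx⟩ := S.exists_out ht
    obtain ⟨q, hq⟩ := hf.2 (QuotientGroup.mk (⟨s, mem_centralizer_singleton_iff.2 (mem_Sg.1 hs).2⟩ : C))
    induction q using QuotientGroup.induction_on with
    | H c =>
      rw [show f (QuotientGroup.mk c) = QuotientGroup.mk (inclusion (inf_le_left : CK ≤ C) c) from rfl,
        QuotientGroup.eq, mem_subgroupOf] at hq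
      have hq' : (c : G)⁻¹ * s ∈ L := hq
      have hct : (c : G) * t = t * c := mem_centralizer_singleton_iff.1 (mem_inf.1 c.2).1
      have hcu := mem_cent_zpowers.1 (mem_inf.1 c.2).2
      have ha : (c : G) * s⁻¹ ∈ L := by
        have := D.normal ht hct (inv_mem hq')
        rwa [show (c : G) * ((c : G)⁻¹ * s)⁻¹ * (c : G)⁻¹ = (c : G) * s⁻¹ by group] at this
      have e : ((c : G) * s⁻¹)⁻¹ * (c : G) = s := by group
      exact D.no_outer ht hu hut hct hcu ha (by rw [e]; exact hs) (by rw [e]; exact hsx)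
  have hcard : Nat.card CK = 7 * (L.subgroupOf CK).index := by
    rw [← (L.subgroupOf CK).card_mul_index, hsub]
  obtain ⟨k, hk, hN⟩ := norm_cent_factor (X := ↥C) (W := zpowers (⟨u, mem_centralizer_singleton_iff.2 hut⟩ : C))
    (p := 7) (by rw [Nat.card_zpowers, Subgroup.orderOf_mk, hu])
  have hz : ∀ w : C, w ∈ zpowers (⟨u, mem_centralizer_singleton_iff.2 hut⟩ : C) ↔ (w : G) ∈ zpowers u := fun w => by
    simp only [mem_zpowers_iff, Subtype.ext_iff, SubgroupClass.coe_zpow]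
  have ec : Nat.card ↥(centralizer (zpowers (⟨u, mem_centralizer_singleton_iff.2 hut⟩ : C) : Set C)) = Nat.card CK :=
    Nat.card_congr
      { toFun := fun w => ⟨(w : C), mem_inf.2 ⟨(w : C).2, mem_cent_zpowers.2 (congrArg Subtype.val (mem_cent_zpowers.1 w.2))⟩⟩
        invFun := fun w => ⟨⟨w, (mem_inf.1 w.2).1⟩, mem_cent_zpowers.2 (Subtype.ext (mem_cent_zpowers.1 (mem_inf.1 w.2).2))⟩
        left_inv := fun w => rfl
        right_inv := fun w => rfl }
  have en : Nat.card ↥(normalizer (zpowers (⟨u, mem_centralizer_singleton_iff.2 hut⟩ : C) : Set C)) = Nat.card NK :=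
    Nat.card_congr
      { toFun := fun w => ⟨(w : C), mem_inf.2 ⟨(w : C).2, mem_norm_zpowers ((hz _).1
          ((mem_normalizer_iff.1 w.2 _).1 (mem_zpowers _)))⟩⟩
        invFun := fun w => ⟨⟨w, (mem_inf.1 w.2).1⟩, mem_norm_zpowers ((hz _).2
          ((mem_normalizer_iff.1 (mem_inf.1 w.2).2 u).1 (mem_zpowers u)))⟩
        left_inv := fun w => rfl
        right_inv := fun w => rfl }
  rw [ec, en, D.card_norm ht hu hut, hcard] at hN
  have hk6 : k ≤ 6 := Nat.le_of_dvd (by norm_num) hk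
  interval_cases k <;> omega

end LData

end Base

end CfsgLib.SuzType
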