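import Mathlib
import Cfsg.Agent.S3277
import Cfsg.Agent.Lib.PSL2.Recognition
import Cfsg.Agent.Lib.SuzType.Order
import Cfsg.Agent.Lib.SuzType.SevenLocal
import Cfsg.Agent.Lib.SuzType.FiveGrid

/-!
The centralizer and normalizer of a Sylow 7-subgroup in a group of Suzuki type.
-/

set_option autoImplicit false
set_option maxHeartbeats 1000000
set_option linter.style.longLine false
set_option linter.unusedSectionVars false

namespace CfsgLib.SuzType

open Subgroup CfsgLib.CIT

section Four

variable {X : Type*} [Group X] [Finite X]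

/-- A group with all involution centralizers four-groups has order 4, 12 or 60. -/
theorem four_orders (hall : Cfsg.Agent.S3277.AllFour X) {x : X} (hx : orderOf x = 2) :
    Nat.card X = 4 ∨ Nat.card X = 12 ∨ Nat.card X = 60 := by
  classical
  have : Fintype X := Fintype.ofFinite X
  have : Fact (Nat.Prime 2) := ⟨Nat.prime_two⟩
  obtain ⟨T, hxT⟩ := (IsPGroup.of_card (n := 1) (by rw [Nat.card_zpowers, hx]; norm_num) :
    IsPGroup 2 (zpowers x)).exists_le_sylow
  have hx' : x ∈ (T : Subgroup X) := hxT (mem_zpowers x)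
  have : Nontrivial (T : Subgroup X) := ⟨⟨⟨x, hx'⟩, 1, fun e => by
    rw [show x = 1 from congrArg Subtype.val e, orderOf_one] at hx
    norm_num at hx⟩⟩
  obtain ⟨w, hw⟩ := exists_prime_orderOf_dvd_card' (G := ↥(center (T : Subgroup X))) 2 (by
    obtain ⟨n, hn⟩ := (T.isPGroup'.to_subgroup (center _)).exists_card_eq
    rcases n with _ | n
    · have h1 := Finite.one_lt_card_iff_nontrivial.2 T.isPGroup'.center_nontrivial
      rw [hn, pow_zero] at h1
      omega
    · rw [hn]; exact dvd_pow_self 2 (by omega))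
  set v := ((w : ↥(T : Subgroup X)) : X) with hv
  have hvo : orderOf v = 2 := by rw [hv, Subgroup.orderOf_coe, Subgroup.orderOf_coe, hw]
  have hTC : (T : Subgroup X) ≤ centralizer ({v} : Set X) := fun a ha =>
    mem_centralizer_singleton_iff.2 (congrArg Subtype.val (mem_center_iff.1 w.2 ⟨a, ha⟩))
  have hTeq : (T : Subgroup X) = centralizer ({v} : Set X) :=
    (T.is_maximal' (IsPGroup.of_card (n := 2) (by rw [(hall v hvo).1]; norm_num)) hTC).symm
  have hT4 : Nat.card (T : Subgroup X) = 4 := by rw [hTeq, (hall v hvo).1]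
  have hTe : ∀ a ∈ (T : Subgroup X), a * a = 1 := fun a ha => by
    rw [← pow_two]
    exact (hall v hvo).2 a (mem_centralizer_singleton_iff.1 (hTeq ▸ ha))
  have hTc : ∀ a ∈ (T : Subgroup X), ∀ c ∈ (T : Subgroup X), a * c = c * a := fun a ha c hc => by
    calc a * c = (a * c)⁻¹ := (inv_eq_of_mul_eq_one_right (hTe _ (mul_mem ha hc))).symm
      _ = c * a := by
        rw [mul_inv_rev, inv_eq_of_mul_eq_one_right (hTe a ha), inv_eq_of_mul_eq_one_right (hTe c hc)]
  have hord : ∀ a ∈ (T : Subgroup X), a ≠ 1 → orderOf a = 2 := fun a ha h1 =>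
    orderOf_eq_prime (by rw [pow_two]; exact hTe a ha) h1
  have hcent : ∀ a ∈ (T : Subgroup X), a ≠ 1 → centralizer ({a} : Set X) = T := fun a ha h1 =>
    (eq_of_le_of_card_ge (fun c hc => mem_centralizer_singleton_iff.2 (hTc c hc a ha))
      (by rw [(hall a (hord a ha h1)).1, hT4])).symm
  have key : ∀ c ∈ (T : Subgroup X), ∀ a ∈ (T : Subgroup X), ∀ b ∈ (T : Subgroup X),
      a ≠ 1 → b ≠ 1 → a ≠ b → c ≠ 1 → c ≠ a → c ≠ b → c = a * b := by
    intro c hc a ha b hb ha1 hb1 hab hc1 hca hcb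
    by_contra hne
    have hsub : ({1, a, b, a * b, c} : Finset X) ⊆ Finset.univ.filter (· ∈ (T : Subgroup X)) := by
      intro y hy
      simp only [Finset.mem_insert, Finset.mem_singleton] at hy
      rw [Finset.mem_filter]
      refine ⟨Finset.mem_univ _, ?_⟩
      rcases hy with rfl | rfl | rfl | rfl | rfl
      exacts [one_mem _, ha, hb, mul_mem ha hb, hc]
    have h1 := Finset.card_le_card hsub
    rw [← Fintype.card_subtype, ← Nat.card_eq_fintype_card,
      show Nat.card {y // y ∈ (T : Subgroup X)} = 4 from hT4] at h1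
    have hab1 : a * b ≠ 1 := fun e => hab (by
      rw [← inv_eq_of_mul_eq_one_right (hTe a ha)]; exact inv_eq_of_mul_eq_one_right e)
    have h5 : ({1, a, b, a * b, c} : Finset X).card = 5 := by
      rw [Finset.card_insert_of_notMem, Finset.card_insert_of_notMem, Finset.card_insert_of_notMem,
        Finset.card_insert_of_notMem, Finset.card_singleton] <;>
      simp only [Finset.mem_insert, Finset.mem_singleton, not_or]
      · exact Ne.symm hne
      · exact ⟨fun e => ha1 (right_eq_mul.1 e), Ne.symm hcb⟩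
      · exact ⟨hab, fun e => hb1 (left_eq_mul.1 e), Ne.symm hca⟩
      · exact ⟨Ne.symm ha1, Ne.symm hb1, Ne.symm hab1, Ne.symm hc1⟩
    omega
  by_cases hN : normalizer ((T : Subgroup X) : Set X) ≤ T
  · left
    have hle : normalizer (T : Set X) ≤ centralizer (T : Set X) := fun a ha =>
      mem_centralizer_iff.2 fun c hc => hTc c hc a (hN ha)
    set W := (MonoidHom.transferSylow T hle).ker with hW
    have hcomp : IsComplement' W (T : Subgroup X) := MonoidHom.ker_transferSylow_isComplement' T hle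
    have hWn : W.Normal := by rw [hW]; infer_instance
    have hodd : Odd (Nat.card W) := by
      have h1 := hcomp.card_mul_card
      have h2 := (T : Subgroup X).card_mul_index
      rw [hT4] at h1 h2
      rw [show Nat.card W = (T : Subgroup X).index by omega, ← Nat.not_even_iff_odd, even_iff_two_dvd]
      exact T.not_dvd_index
    have hv1 : v ≠ 1 := fun e => by rw [e, orderOf_one] at hvo; norm_num at hvo
    obtain ⟨b, hb, hb1, hbv⟩ : ∃ b ∈ (T : Subgroup X), b ≠ 1 ∧ b ≠ v := by
      by_contra h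
      have hsub : (T : Subgroup X) ≤ zpowers v := fun b hb => by
        by_cases h1 : b = 1
        · exact h1 ▸ one_mem _
        · by_cases h2 : b = v
          · exact h2 ▸ mem_zpowers v
          · exact absurd ⟨b, hb, h1, h2⟩ h
      have := card_dvd_of_le hsub
      rw [hT4, Nat.card_zpowers, hvo] at this
      norm_num at this
    have hvT : v ∈ (T : Subgroup X) := (w : ↥(T : Subgroup X)).2
    have hfree : ∀ a ∈ (T : Subgroup X), a ≠ 1 → ∀ n ∈ W, a * n = n * a → n = 1 := by
      intro a ha h1 n hn hc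
      have : n ∈ (T : Subgroup X) := hcent a ha h1 ▸ mem_centralizer_singleton_iff.2 hc.symm
      exact (Subgroup.disjoint_def.1 hcomp.disjoint) hn this
    have hnorm : ∀ a : X, a ∈ normalizer (W : Set X) := fun a => by rw [normalizer_eq_top]; exact mem_top a
    obtain ⟨i1, -⟩ := inverts_all (hTe v hvT) (hnorm v) (hfree v hvT hv1)
    obtain ⟨i2, -⟩ := inverts_all (hTe b hb) (hnorm b) (hfree b hb hb1)
    have hW1 : W = ⊥ := by
      rw [eq_bot_iff]
      intro n hn
      have h1 : v * b ≠ 1 := fun e => hbv ((inv_eq_of_mul_eq_one_right e).symm.trans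
        (inv_eq_of_mul_eq_one_right (hTe v hvT)))
      refine hfree (v * b) (mul_mem hvT hb) h1 n hn (mul_inv_eq_iff_eq_mul.1 ?_)
      rw [show v * b * n * (v * b)⁻¹ = v * (b * n * b⁻¹) * v⁻¹ by group, i2 n hn, i1 _ (inv_mem hn), inv_inv]
    rw [← hcomp.card_mul_card, hW1, card_bot, one_mul, hT4]
  · right
    obtain ⟨n, hnN, hnT⟩ := SetLike.not_le_iff_exists.1 hN
    refine Cfsg.Agent.S3277.card_eq hall hvo fun a ha => ?_
    obtain ⟨R, hR⟩ := (IsPGroup.of_card (n := 1) (by rw [Nat.card_zpowers, ha]; norm_num) :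
      IsPGroup 2 (zpowers a)).exists_le_sylow
    obtain ⟨d, hd⟩ := MulAction.exists_smul_eq X R T
    have haT : d * a * d⁻¹ ∈ (T : Subgroup X) := by
      rw [← hd, Sylow.coe_subgroup_smul, mem_pointwise_smul_iff_inv_smul_mem]
      simpa [mul_assoc] using hR (mem_zpowers a)
    refine IsConj.trans ?_ (isConj_iff.2 ⟨d, rfl⟩ : IsConj a (d * a * d⁻¹)).symm
    have hvT : v ∈ (T : Subgroup X) := (w : ↥(T : Subgroup X)).2
    have hv1 : v ≠ 1 := fun e => by rw [e, orderOf_one] at hvo; norm_num at hvo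
    have hmove : ∀ c ∈ (T : Subgroup X), c ≠ 1 → n * c * n⁻¹ ∈ (T : Subgroup X) ∧ n * c * n⁻¹ ≠ 1 ∧ n * c * n⁻¹ ≠ c :=
      fun c hc h1 => ⟨(mem_normalizer_iff.1 hnN c).1 hc, fun e => h1 (conj_eq_one_iff.1 e), fun e =>
        hnT (hcent c hc h1 ▸ mem_centralizer_singleton_iff.2 (mul_inv_eq_iff_eq_mul.1 e))⟩
    obtain ⟨h1T, h11, h12⟩ := hmove v hvT hv1
    obtain ⟨h2T, h21, h22⟩ := hmove _ h1T h11
    generalize hc : d * a * d⁻¹ = c at haT
    have hc1 : c ≠ 1 := fun e => by
      rw [e] at hc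
      rw [conj_eq_one_iff.1 hc, orderOf_one] at ha
      norm_num at ha
    by_cases e1 : c = v
    · exact e1 ▸ IsConj.refl v
    by_cases e2 : c = n * v * n⁻¹
    · exact e2 ▸ isConj_iff.2 ⟨n, rfl⟩
    have h20 : n * (n * v * n⁻¹) * n⁻¹ ≠ v := fun e => by
      have h3 : n * (v * (n * v * n⁻¹)) * n⁻¹ = v * (n * v * n⁻¹) := by
        rw [show n * (v * (n * v * n⁻¹)) * n⁻¹ = (n * v * n⁻¹) * (n * (n * v * n⁻¹) * n⁻¹) by group, e]
        exact hTc _ h1T _ hvT
      exact (hmove _ (mul_mem hvT h1T) fun e0 => h12 ((inv_eq_of_mul_eq_one_right e0).symm.trans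
        (inv_eq_of_mul_eq_one_right (hTe v hvT)))).2.2 h3
    refine isConj_iff.2 ⟨n * n, ?_⟩
    rw [show n * n * v * (n * n)⁻¹ = n * (n * v * n⁻¹) * n⁻¹ by group,
      key c haT v hvT _ h1T hv1 h11 (Ne.symm h12) hc1 e1 e2]
    exact key _ h2T v hvT _ h1T hv1 h11 (Ne.symm h12) h21 h20 h22

end Four

variable {G : Type*} [Group G] [Finite G]

theorem commute_conj {a s d : G} : Commute (d⁻¹ * a * d) s ↔ Commute a (d * s * d⁻¹) := by
  constructor <;> intro h
  · show a * (d * s * d⁻¹) = d * s * d⁻¹ * a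
    calc a * (d * s * d⁻¹) = d * (d⁻¹ * a * d * s) * d⁻¹ := by group
      _ = d * (s * (d⁻¹ * a * d)) * d⁻¹ := by rw [h.eq]
      _ = d * s * d⁻¹ * a := by group
  · show d⁻¹ * a * d * s = s * (d⁻¹ * a * d)
    calc d⁻¹ * a * d * s = d⁻¹ * (a * (d * s * d⁻¹)) * d := by group
      _ = d⁻¹ * (d * s * d⁻¹ * a) * d := by rw [h.eq]
      _ = s * (d⁻¹ * a * d) := by group

/-- The abstract count. -/
theorem seven_norm_core (hG : Nat.card G = 448345497600) (B : Sylow 7 G) {b : G} (hb : orderOf b = 7)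
    (hB : (B : Subgroup G) = zpowers b) (hex : ∃ s : G, orderOf s = 2 ∧ s * b = b * s)
    (hloc : ∀ s : G, orderOf s = 2 → s * b = b * s →
      Nat.card ↥(centralizer ({s} : Set G) ⊓ centralizer (zpowers b : Set G)) = 28 ∧
      Nat.card ↥(centralizer ({s} : Set G) ⊓ normalizer (zpowers b : Set G)) = 168 ∧
      ∀ c, c * s = s * c → c * b = b * c → c * c ∈ zpowers b) :
    Nonempty (↥(centralizer ((B : Subgroup G) : Set G)) ≃* Multiplicative (ZMod 7) × alternatingGroup (Fin 4)) ∧
      Nat.card ↥(normalizer ((B : Subgroup G) : Set G)) = 504 := by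
  classical
  have h7f : Fact (Nat.Prime 7) := ⟨by norm_num⟩
  have hn7 := card_sylow_modEq_one 7 G
  rw [B.card_eq_index_normalizer] at hn7
  change (normalizer ((B : Subgroup G) : Set G)).index % 7 = 1 at hn7
  rw [hB] at hn7 ⊢
  have hP : Nat.card (zpowers b) = 7 := by rw [Nat.card_zpowers, hb]
  have hb7 : b ^ 7 = 1 := hb ▸ pow_orderOf_eq_one b
  set Y := centralizer (zpowers b : Set G) with hY
  obtain ⟨k, hk, hN⟩ := norm_cent_factor (X := G) (W := zpowers b) hP
  obtain ⟨s, hso, hsb⟩ := hex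
  obtain ⟨hC28, hN168, -⟩ := hloc s hso hsb
  have hk6 : k = 6 := by
    set N := normalizer (zpowers b : Set G) with hNdef
    set Ns := centralizer ({s} : Set G) ⊓ N with hNs
    have h1 : (Y.subgroupOf Ns).index = 6 := by
      have hc : Nat.card (Y.subgroupOf Ns) = 28 := by
        rw [← inf_subgroupOf_right, Nat.card_congr (subgroupOfEquivOfLe (inf_le_right : Y ⊓ Ns ≤ Ns)).toEquiv,
          show Y ⊓ Ns = centralizer ({s} : Set G) ⊓ Y by
            rw [hNs, inf_comm Y, inf_assoc, inf_eq_right.2 (centralizer_le_normalizer _ : Y ≤ N)], hC28]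
      have h := (Y.subgroupOf Ns).card_mul_index
      rw [hc, hN168] at h
      omega
    have h2 : (Y.subgroupOf N).index = k := by
      have h := (Y.subgroupOf N).card_mul_index
      rw [Nat.card_congr (subgroupOfEquivOfLe (centralizer_le_normalizer _ : Y ≤ N)).toEquiv, hN] at h
      exact Nat.eq_of_mul_eq_mul_left Nat.card_pos h
    have h3 := Nat.card_le_card_of_injective _
      (quotientSubgroupOfEmbeddingOfLE Y (inf_le_right : Ns ≤ N)).injective
    rw [← Subgroup.index, ← Subgroup.index, h1, h2] at h3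
    exact le_antisymm (Nat.le_of_dvd (by norm_num) hk) h3
  subst hk6
  have hbY : b ∈ Y := mem_cent_zpowers.2 rfl
  set b' : ↥Y := ⟨b, hbY⟩ with hb'
  have hb'o : orderOf b' = 7 := by rw [hb', Subgroup.orderOf_mk, hb]
  set P := zpowers b' with hPdef
  have hPc : ∀ p ∈ P, ∀ y : ↥Y, y * p = p * y := by
    intro p hp y
    obtain ⟨i, rfl⟩ := hp
    exact ((show Commute y b' from Subtype.ext (mem_cent_zpowers.1 y.2)).zpow_right i).eq
  have hPn : P.Normal := ⟨fun p hp y => by rw [hPc p hp y, mul_inv_cancel_right]; exact hp⟩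
  have hPcard : Nat.card P = 7 := by rw [hPdef, Nat.card_zpowers, hb'o]
  have hP7 : ∀ p ∈ P, p ^ 7 = 1 := fun p hp => by
    rw [← hPcard]
    exact congrArg Subtype.val (pow_card_eq_one' (x := (⟨p, hp⟩ : P)))
  have hpow : ∀ y : ↥Y, (y : G) ∈ zpowers b → y ∈ P := fun y hy => by
    obtain ⟨i, hi⟩ := hy
    exact ⟨i, Subtype.ext hi⟩
  have hinv : ∀ q : ↥Y ⧸ P, orderOf q = 2 → ∃ y : ↥Y, (y : ↥Y ⧸ P) = q ∧ orderOf (y : G) = 2 := by
    intro q hq
    induction q using QuotientGroup.induction_on with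
    | H y =>
      have h2 : y * y ∈ P := by
        rw [← QuotientGroup.eq_one_iff, QuotientGroup.mk_mul, ← pow_two, ← hq, pow_orderOf_eq_one]
      have he : ((y ^ 7 : ↥Y) : ↥Y ⧸ P) = y := by
        rw [QuotientGroup.mk_pow, show 7 = orderOf (y : ↥Y ⧸ P) * 3 + 1 by rw [hq], pow_succ, pow_mul,
          pow_orderOf_eq_one, one_pow, one_mul]
      refine ⟨y ^ 7, he, ?_⟩
      rw [Subgroup.orderOf_coe]
      refine orderOf_eq_prime ?_ fun e => ?_
      · rw [← pow_mul, show 7 * 2 = 2 * 7 from rfl, pow_mul, pow_two, hP7 _ h2]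
      · rw [e, QuotientGroup.mk_one] at he
        rw [← he, orderOf_one] at hq
        norm_num at hq
  have hsY : s ∈ Y := mem_cent_zpowers.2 hsb
  have hx : orderOf ((⟨s, hsY⟩ : ↥Y) : ↥Y ⧸ P) = 2 := by
    have h2 : (⟨s, hsY⟩ : ↥Y) ^ 2 = 1 := Subtype.ext (hso ▸ pow_orderOf_eq_one s)
    refine orderOf_eq_prime (by rw [← QuotientGroup.mk_pow, h2, QuotientGroup.mk_one]) fun e => ?_
    rw [QuotientGroup.eq_one_iff] at e
    have h3 := Nat.dvd_gcd (orderOf_dvd_of_pow_eq_one (congrArg Subtype.val (hP7 _ e) : s ^ 7 = 1)) (dvd_refl (orderOf s))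
    rw [hso] at h3
    norm_num at h3
  have hall : Cfsg.Agent.S3277.AllFour (↥Y ⧸ P) := by
    intro q hq
    obtain ⟨y, rfl, hyo⟩ := hinv q hq
    have hyb : (y : G) * b = b * y := mem_cent_zpowers.1 y.2
    obtain ⟨hy28, -, hysq⟩ := hloc y hyo hyb
    have hlift : ∀ c : ↥Y, Commute (c : ↥Y ⧸ P) (y : ↥Y ⧸ P) → Commute c y := by
      intro c hc
      have hp : y⁻¹ * (c * y * c⁻¹) ∈ P := by
        rw [← QuotientGroup.eq_one_iff, QuotientGroup.mk_mul, QuotientGroup.mk_inv, QuotientGroup.mk_mul,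
          QuotientGroup.mk_mul, QuotientGroup.mk_inv, hc.eq]
        group
      set p := y⁻¹ * (c * y * c⁻¹) with hpd
      have hy2 : y * y = 1 := Subtype.ext (by rw [Subgroup.coe_mul, ← pow_two, ← hyo]; exact pow_orderOf_eq_one _)
      have hpp : p * p = 1 := by
        have h : (y * p) * (y * p) = 1 := by
          rw [hpd, mul_inv_cancel_left]; exact conj_sq_one hy2
        calc p * p = y * y * (p * p) := by rw [hy2, one_mul]
          _ = y * (y * p) * p := by group
          _ = y * (p * y) * p := by rw [hPc p hp y]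
          _ = (y * p) * (y * p) := by group
          _ = 1 := h
      have hp1 : p = 1 := by
        have h7 := hP7 p hp
        rwa [show 7 = 2 * 3 + 1 from rfl, pow_succ, pow_mul, pow_two, hpp, one_pow, one_mul] at h7
      rw [hpd, inv_mul_eq_one] at hp1
      exact mul_inv_eq_iff_eq_mul.1 hp1.symm
    refine ⟨?_, fun c hc => ?_⟩
    · have hmap : (centralizer ({y} : Set ↥Y)).map (QuotientGroup.mk' P) = centralizer ({(y : ↥Y ⧸ P)} : Set _) := by
        ext q
        rw [mem_centralizer_singleton_iff]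
        constructor
        · rintro ⟨c, hc, rfl⟩
          exact (Commute.map (mem_centralizer_singleton_iff.1 hc : Commute c y) (QuotientGroup.mk' P)).eq
        · intro hq
          induction q using QuotientGroup.induction_on with
          | H c => exact ⟨c, mem_centralizer_singleton_iff.2 (hlift c hq).eq, rfl⟩
      have hcy : Nat.card ↥(centralizer ({y} : Set ↥Y)) = 28 := by
        rw [← hy28]
        exact Nat.card_congr
          { toFun := fun c => ⟨((c : ↥Y) : G), mem_inf.2 ⟨mem_centralizer_singleton_iff.2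
              (congrArg Subtype.val (mem_centralizer_singleton_iff.1 c.2)), (c : ↥Y).2⟩⟩
            invFun := fun c => ⟨⟨c, (mem_inf.1 c.2).2⟩, mem_centralizer_singleton_iff.2
              (Subtype.ext (mem_centralizer_singleton_iff.1 (mem_inf.1 c.2).1))⟩
            left_inv := fun c => rfl
            right_inv := fun c => rfl }
      have hker : (QuotientGroup.mk' P).ker ≤ centralizer ({y} : Set ↥Y) := by
        rw [QuotientGroup.ker_mk']
        exact fun p hp => mem_centralizer_singleton_iff.2 (hPc p hp y).symm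
      have h1 := ((centralizer ({y} : Set ↥Y)).map (QuotientGroup.mk' P)).card_mul_index
      rw [index_map_eq _ (QuotientGroup.mk'_surjective P) hker] at h1
      have h2 := (centralizer ({y} : Set ↥Y)).card_mul_index
      rw [card_eq_card_quotient_mul_card_subgroup P, hPcard, ← h1, hcy, hmap] at h2
      have h3 : 0 < (centralizer ({y} : Set ↥Y)).index := Nat.pos_of_ne_zero index_ne_zero_of_finite
      rw [← Nat.mul_right_cancel_iff h3]
      omega
    · induction c using QuotientGroup.induction_on with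
      | H c =>
        rw [← QuotientGroup.mk_pow, QuotientGroup.eq_one_iff, pow_two]
        exact hpow _ (hysq c (congrArg Subtype.val (hlift c hc).eq) (mem_cent_zpowers.1 c.2))
  have hYc : Nat.card Y = Nat.card (↥Y ⧸ P) * 7 := by rw [card_eq_card_quotient_mul_card_subgroup P, hPcard]
  have hX : Nat.card (↥Y ⧸ P) = 12 := by
    have h := (normalizer (zpowers b : Set G)).card_mul_index
    rw [hN, hYc, hG] at h
    rcases four_orders hall hx with e | e | e
    · rw [e] at h; omega
    · exact e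
    · rw [e] at h; omega
  rw [hX] at hYc
  refine ⟨?_, by rw [hN, hYc]⟩
  let PS : Sylow 7 ↥Y := Sylow.ofCard P (by
    rw [hPcard, hYc, show 12 * 7 = 7 * 12 from rfl, Nat.factorization_mul (by norm_num) (by norm_num),
      Finsupp.add_apply, Nat.Prime.factorization_self (by norm_num : Nat.Prime 7),
      Nat.factorization_eq_zero_of_not_dvd (by norm_num : ¬ 7 ∣ 12), pow_one])
  have hle : normalizer (PS : Set ↥Y) ≤ centralizer (PS : Set ↥Y) := fun y _ =>
    mem_centralizer_iff.2 fun p hp => (hPc p hp y).symm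
  set W := (MonoidHom.transferSylow PS hle).ker with hW
  have hcomp : IsComplement' W P := MonoidHom.ker_transferSylow_isComplement' PS hle
  have hW12 : Nat.card W = 12 := by
    have h := hcomp.card_mul_card
    rw [hPcard, hYc] at h
    omega
  let f : P × W →* ↥Y :=
    { toFun := fun d => d.1 * d.2
      map_one' := one_mul 1
      map_mul' := fun d d' => by
        show (d.1 : ↥Y) * d'.1 * ((d.2 : ↥Y) * d'.2) = d.1 * d.2 * (d'.1 * d'.2)
        rw [mul_assoc, ← mul_assoc (d'.1 : ↥Y), ← hPc _ d'.1.2 d.2]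
        group }
  have hf : Function.Bijective f := hcomp.symm
  obtain ⟨eW⟩ := CfsgLib.PSL2.nonempty_mulEquiv_alternating_four hW12 fun g hg => by
    have hgo : orderOf (((g : ↥Y) : G)) = 6 := by rw [Subgroup.orderOf_coe, Subgroup.orderOf_coe, hg]
    set a := ((g : ↥Y) : G) with ha
    have hab : a * b = b * a := mem_cent_zpowers.1 (g : ↥Y).2
    obtain ⟨-, -, hsq⟩ := hloc (a ^ 3) (by rw [orderOf_pow' _ (by norm_num), hgo]; norm_num)
      (Commute.pow_left hab 3).eq
    obtain ⟨i, hi⟩ := hsq (a ^ 2) (Commute.pow_pow_self a 2 3).eq (Commute.pow_left hab 2).eq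
    have h := orderOf_dvd_of_pow_eq_one (x := a) (n := 4 * 7) (by
      rw [pow_mul, show a ^ 4 = a ^ 2 * a ^ 2 by rw [← pow_add], ← show b ^ i = a ^ 2 * a ^ 2 from hi,
        ← zpow_natCast, ← zpow_mul, mul_comm i, zpow_mul, zpow_natCast, hb7, one_zpow])
    rw [hgo] at h
    norm_num at h
  exact ⟨(MulEquiv.ofBijective f hf).symm.trans
    (MulEquiv.prodCongr (mulEquivOfPrimeCardEq (p := 7) hPcard (by simp)) eW)⟩

namespace Hyp

variable {z : G} {Q : Subgroup G} (H : Hyp z Q)
include H

theorem seven_norm (B : Sylow 7 G) :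
    Nonempty (↥(centralizer ((B : Subgroup G) : Set G)) ≃* Multiplicative (ZMod 7) × alternatingGroup (Fin 4)) ∧
      Nat.card ↥(normalizer ((B : Subgroup G) : Set G)) = 504 := by
  classical
  have h7f : Fact (Nat.Prime 7) := ⟨by norm_num⟩
  have h2f : Fact (Nat.Prime 2) := ⟨Nat.prime_two⟩
  obtain ⟨K⟩ := H.exists_minus
  obtain ⟨x, g, S⟩ := K.exists_base H
  obtain ⟨t, ht⟩ := S.exists_typ
  obtain ⟨L, D⟩ := S.exists_L ht
  have hto : orderOf t = 2 := orderOf_eq_prime (by rw [pow_two, S.typ_sq ht]) (S.typ_ne_one ht)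
  have hfac : (Nat.card G).factorization 7 = 1 := by
    rw [H.card_G, show 448345497600 = 7 * 64049356800 from rfl, Nat.factorization_mul (by norm_num) (by norm_num),
      Finsupp.add_apply, Nat.Prime.factorization_self (by norm_num : Nat.Prime 7),
      Nat.factorization_eq_zero_of_not_dvd (by norm_num : ¬ 7 ∣ 64049356800)]
  have hB7 : Nat.card (B : Subgroup G) = 7 := by rw [B.card_eq_multiplicity, hfac, pow_one]
  obtain ⟨b0, hb0⟩ := exists_prime_orderOf_dvd_card' (G := ↥(B : Subgroup G)) 7 (by rw [hB7])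
  have hb : orderOf (b0 : G) = 7 := by rw [Subgroup.orderOf_coe, hb0]
  have hB : (B : Subgroup G) = zpowers (b0 : G) :=
    (eq_of_le_of_card_ge (zpowers_le.2 b0.2) (by rw [Nat.card_zpowers, hb, hB7])).symm
  generalize (b0 : G) = b at hb hB
  refine seven_norm_core H.card_G B hb hB ?_ ?_
  · obtain ⟨v, hv⟩ := exists_prime_orderOf_dvd_card' (G := ↥L) 7 (by rw [D.card_L ht]; norm_num)
    let R : Sylow 7 G := Sylow.ofCard (zpowers (v : G)) (by
      rw [Nat.card_zpowers, Subgroup.orderOf_coe, hv, hfac, pow_one])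
    obtain ⟨d, hd⟩ := MulAction.exists_smul_eq G R B
    refine ⟨d * t * d⁻¹, (MulEquiv.orderOf_eq (MulAut.conj d) t).trans hto, ?_⟩
    have hbR : b ∈ ((d • R : Sylow 7 G) : Subgroup G) := by rw [hd, hB]; exact mem_zpowers b
    rw [Sylow.coe_subgroup_smul, mem_pointwise_smul_iff_inv_smul_mem,
      show (R : Subgroup G) = zpowers (v : G) from Sylow.coe_ofCard _ _] at hbR
    obtain ⟨i, hi⟩ := (show d⁻¹ * b * d ∈ zpowers (v : G) by simpa [mul_assoc, MulAut.smul_def] using hbR)
    exact (commute_conj.1 (hi ▸ (show Commute (v : G) t from D.comm_t v.2).zpow_left i)).eq.symm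
  · intro s hs hsb
    obtain ⟨d, hd⟩ : ∃ d, d * s * d⁻¹ = t := by
      have hs2 : s * s = 1 := by rw [← pow_two, ← hs]; exact pow_orderOf_eq_one s
      obtain ⟨y, hy⟩ := H.exists_conj_mem hs2
      by_cases hz : IsConj z (y * s * y⁻¹)
      · exfalso
        obtain ⟨e, he⟩ := isConj_iff.1 hz
        have h1 : Commute ((y⁻¹ * e)⁻¹ * b * (y⁻¹ * e)) z := by
          rw [commute_conj, show y⁻¹ * e * z * (y⁻¹ * e)⁻¹ = y⁻¹ * (e * z * e⁻¹) * y by group, he,
            show y⁻¹ * (y * s * y⁻¹) * y = s by group]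
          exact (show Commute s b from hsb).symm
        have h2 : orderOf ((y⁻¹ * e)⁻¹ * b * (y⁻¹ * e)) ∣ 128 * 25920 := by
          rw [← H.cardC, ← Subgroup.orderOf_mk _ (mem_centralizer_singleton_iff.2 h1.eq)]
          exact _root_.orderOf_dvd_natCard _
        rw [show (y⁻¹ * e)⁻¹ * b * (y⁻¹ * e) = MulAut.conj (y⁻¹ * e)⁻¹ b by simp [mul_assoc],
          MulEquiv.orderOf_eq, hb] at h2
        norm_num at h2
      · have h1 : y * s * y⁻¹ ≠ 1 := fun k => by
          rw [conj_eq_one_iff] at k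
          simp [k] at hs
        obtain ⟨c, -, hct⟩ := S.typ_of_not ht hy (conj_sq_one hs2) h1 hz
        exact ⟨c * y, by rw [← hct]; group⟩
    set u := d * b * d⁻¹ with hud
    have hu : orderOf u = 7 := (MulEquiv.orderOf_eq (MulAut.conj d) b).trans hb
    have hut : u * t = t * u := by
      rw [hud, ← hd]
      calc d * b * d⁻¹ * (d * s * d⁻¹) = d * (b * s) * d⁻¹ := by group
        _ = d * (s * b) * d⁻¹ := by rw [hsb]
        _ = _ := by group
    obtain ⟨h1, h2, h3⟩ := D.seven_local ht hu hut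
    have hzp : ∀ a : G, a ∈ zpowers u ↔ d⁻¹ * a * d ∈ zpowers b := fun a => by
      rw [hud, ← cj_zp, mem_cj]
    refine ⟨?_, ?_, fun c hc1 hc2 => ?_⟩
    · rw [← h1, ← card_map_of_injective (f := (MulAut.conj d).toMonoidHom) (MulAut.conj d).injective]
      congr 2
      ext a
      rw [← cj, mem_cj]
      simp only [mem_inf, mem_centralizer_singleton_iff, mem_cent_zpowers]
      rw [← commute_iff_eq, ← commute_iff_eq, commute_conj, commute_conj, hd, ← hud]
      rfl
    · rw [← h2, ← card_map_of_injective (f := (MulAut.conj d).toMonoidHom) (MulAut.conj d).injective]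
      congr 2
      ext a
      rw [← cj, mem_cj]
      simp only [mem_inf, mem_centralizer_singleton_iff]
      rw [← commute_iff_eq, commute_conj, hd]
      refine and_congr Iff.rfl ⟨fun h => mem_norm_zpowers ?_, fun h => mem_norm_zpowers ?_⟩
      · rw [hzp, hud, show d⁻¹ * (a * (d * b * d⁻¹) * a⁻¹) * d = (d⁻¹ * a * d) * b * (d⁻¹ * a * d)⁻¹ by group]
        exact (mem_normalizer_iff.1 h b).1 (mem_zpowers b)
      · have h' := (mem_normalizer_iff.1 h u).1 (mem_zpowers u)
        rw [hzp, hud, show d⁻¹ * (a * (d * b * d⁻¹) * a⁻¹) * d = (d⁻¹ * a * d) * b * (d⁻¹ * a * d)⁻¹ by group] at h'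
        exact h'
    · have h := h3 (d * c * d⁻¹) (by
        rw [← hd, show d * c * d⁻¹ * (d * s * d⁻¹) = d * (c * s) * d⁻¹ by group, hc1]; group) (by
        rw [hud, show d * c * d⁻¹ * (d * b * d⁻¹) = d * (c * b) * d⁻¹ by group, hc2]; group)
      rw [hzp, show d⁻¹ * (d * c * d⁻¹ * (d * c * d⁻¹)) * d = c * c by group] at h
      exact h
where
  cj_zp {n a : G} : cj n (zpowers a) = zpowers (n * a * n⁻¹) := by rw [cj, MonoidHom.map_zpowers]; rfl

end Hyp

end CfsgLib.SuzType
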