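import Mathlib
import Cfsg.Agent.Lib.SuzType.ThreeNormal
import Cfsg.Agent.Lib.SuzType.Stab
import Cfsg.Agent.Lib.MonsterType.LocalQuot
import Cfsg.Agent.Lib.MonsterType.CentralConj
import Cfsg.Agent.S5379

/-!
From the hypotheses on the centralizer of an involution and a subgroup of order three with commutator
subgroup a quaternion group to coordinates adapted to its generator.
-/

set_option autoImplicit false
set_option linter.style.longLine false
set_option maxHeartbeats 1000000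
set_option synthInstance.maxSize 8000
set_option synthInstance.maxHeartbeats 1000000

namespace CfsgLib.SuzType

open Subgroup

variable {G : Type*} [Group G] [Finite G]

theorem hyp_of_setting {z : G} (hz : orderOf z = 2) (Q : Subgroup (centralizer ({z} : Set G))) [Q.Normal]
    (hF : Cfsg.generalizedFittingSubgroup (centralizer ({z} : Set G)) = Q) (hQ : Cfsg.IsExtraspecial 2 Q)
    (hcard : Nat.card Q = 2 ^ 7)
    (e : (centralizer ({z} : Set G)) ⧸ Q ≃* Cfsg.Omega (ZMod 2) (Cfsg.quadFormMinus 2 (ZMod 2) 1 1))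
    (hnwc : ∃ g : G, (∃ hq : g * z * g⁻¹ ∈ centralizer ({z} : Set G),
      (⟨g * z * g⁻¹, hq⟩ : centralizer ({z} : Set G)) ∈ Q) ∧ g * z * g⁻¹ ≠ z) :
    Hyp z (CfsgLib.MonsterType.qm Q) := by
  have : Fact (Nat.Prime 2) := ⟨Nat.prime_two⟩
  have hS : Cfsg.IsExtraspecialCentralizerSetting z Q 3 := ⟨hz, hF, hQ, hcard, hnwc⟩
  obtain ⟨hEx, hself, hnorm⟩ := CfsgLib.MonsterType.setting_extraAt hS
  refine ⟨hz, map_subtype_le _,
    fun c hc y hy => (mem_normalizer_iff.1 (hnorm (mem_centralizer_singleton_iff.2 hc)) y).1 hy,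
    ?_, hEx, fun c _ hcy => ?_, ?_, ?_⟩
  · rw [CfsgLib.MonsterType.card_qm, hcard]; norm_num
  · obtain ⟨a, -, rfl⟩ : c ∈ (center ↥(CfsgLib.MonsterType.qm Q)).map (CfsgLib.MonsterType.qm Q).subtype :=
      hself ▸ mem_centralizer_iff.2 hcy
    exact a.2
  · rw [card_eq_card_quotient_mul_card_subgroup Q, Nat.card_congr e.toEquiv, Cfsg.Agent.S5379.card_omega, hcard]
    norm_num
  · obtain ⟨g, ⟨hq, hgQ⟩, hne⟩ := hnwc
    exact ⟨g, ⟨⟨_, hq⟩, hgQ, rfl⟩, hne⟩

/-- The statement data give coordinates adapted to a generator of `Y`, and conjugators fixing it. -/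
theorem exists_three_of_setting {z : G} (hz : orderOf z = 2) (Q : Subgroup (centralizer ({z} : Set G))) [Q.Normal]
    (hF : Cfsg.generalizedFittingSubgroup (centralizer ({z} : Set G)) = Q) (hQ : Cfsg.IsExtraspecial 2 Q)
    (hcard : Nat.card Q = 2 ^ 7)
    (e : (centralizer ({z} : Set G)) ⧸ Q ≃* Cfsg.Omega (ZMod 2) (Cfsg.quadFormMinus 2 (ZMod 2) 1 1))
    (hnwc : ∃ g : G, (∃ hq : g * z * g⁻¹ ∈ centralizer ({z} : Set G),
      (⟨g * z * g⁻¹, hq⟩ : centralizer ({z} : Set G)) ∈ Q) ∧ g * z * g⁻¹ ≠ z)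
    (Y : Subgroup (centralizer ({z} : Set G))) (hY : Nat.card Y = 3) (hQY : Nat.card ↥⁅Q, Y⁆ = 8)
    (hQYna : ¬ IsMulCommutative ↥⁅Q, Y⁆) :
    ∃ (y : G) (K : Coord z (CfsgLib.MonsterType.qm Q) 1), Three K y ∧
      Y.map (centralizer ({z} : Set G)).subtype = zpowers y ∧
      ∀ r : G, r ∈ CfsgLib.MonsterType.qm Q → r * y = y * r → IsConj z r → r ≠ z →
        ∃ g : G, g * y = y * g ∧ g * z * g⁻¹ = r := by
  classical
  have : Fact (Nat.Prime 3) := ⟨Nat.prime_three⟩
  have hS : Cfsg.IsExtraspecialCentralizerSetting z Q 3 := ⟨hz, hF, hQ, hcard, hnwc⟩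
  have H := hyp_of_setting hz Q hF hQ hcard e hnwc
  obtain ⟨K⟩ := H.exists_minus
  obtain ⟨y0, hy0⟩ := exists_prime_orderOf_dvd_card' (G := ↥Y) 3 (by rw [hY])
  set yC : ↥(centralizer ({z} : Set G)) := y0.1 with hyC
  have hgen : zpowers yC = Y := by
    refine eq_of_le_of_card_ge (zpowers_le.2 y0.2) ?_
    rw [hY, Nat.card_zpowers, hyC, Subgroup.orderOf_coe, hy0]
  set y : G := yC.1 with hydef
  have hy : orderOf y = 3 := by rw [hydef, Subgroup.orderOf_coe, hyC, Subgroup.orderOf_coe, hy0]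
  have hyz : y * z = z * y := mem_centralizer_singleton_iff.1 yC.2
  set W := (⁅Q, Y⁆).map (centralizer ({z} : Set G)).subtype with hW
  have hWQ : W ≤ CfsgLib.MonsterType.qm Q := map_mono (Subgroup.commutator_le_left _ _)
  have hWcard : Nat.card ↥W = 8 := by
    rw [hW, card_map_of_injective (subtype_injective _), hQY]
  have hzW : z ∈ W := by
    by_contra hzW
    refine hQYna ⟨⟨fun a b => Subtype.ext (Subtype.ext ?_)⟩⟩
    have ha : ((a : ↥(centralizer ({z} : Set G))) : G) ∈ W := ⟨_, a.2, rfl⟩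
    have hb : ((b : ↥(centralizer ({z} : Set G))) : G) ∈ W := ⟨_, b.2, rfl⟩
    have h := K.conj (hWQ hb) (hWQ ha)
    split_ifs at h with h0
    · exact mul_inv_eq_iff_eq_mul.1 h
    · refine absurd ?_ hzW
      have : z = (a : G) * b * (a : G)⁻¹ * (b : G)⁻¹ := by rw [h, mul_inv_cancel_right]
      rw [this]
      exact mul_mem (mul_mem (mul_mem ha hb) (inv_mem ha)) (inv_mem hb)
  let U : Finset V := Finset.univ.filter fun v => ∃ w ∈ W, K.vec w = v
  have hU : ∀ v, K.act y v + v ∈ U := by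
    intro v
    refine Finset.mem_filter.2 ⟨Finset.mem_univ _, ?_⟩
    have hq := K.lift_mem v
    obtain ⟨qC, hqC, hqe⟩ := hq
    refine ⟨y * K.lift v * y⁻¹ * (K.lift v)⁻¹, ?_, ?_⟩
    · refine ⟨(qC * yC * qC⁻¹ * yC⁻¹)⁻¹, inv_mem (Subgroup.commutator_mem_commutator hqC y0.2), ?_⟩
      rw [map_inv, map_mul, map_mul, map_mul, map_inv, map_inv]
      show ((qC : G) * y * (qC : G)⁻¹ * y⁻¹)⁻¹ = _
      rw [show (qC : G) = K.lift v from hqe]
      group
    · rw [K.mul (H.norm y hyz _ (K.lift_mem v)) (inv_mem (K.lift_mem v)), K.vec_inv (K.lift_mem v),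
        ← K.act_vec H hyz (K.lift_mem v), K.vec_lift]
  have hU4 : U.card ≤ 4 := by
    have hch : ∀ v : {v // v ∈ U}, ∃ w ∈ W, K.vec w = v := fun v => (Finset.mem_filter.1 v.2).2
    choose w hw hwv using hch
    have hinj : Function.Injective fun p : Bool × {v // v ∈ U} =>
        (⟨(if p.1 then z else 1) * w p.2, mul_mem (by cases p.1 <;> simp [hzW, one_mem]) (hw _)⟩ : ↥W) := by
      rintro ⟨b, v⟩ ⟨b', v'⟩ h
      have h' := congrArg Subtype.val h
      have hv : K.vec ((if b then z else 1) * w v) = v := by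
        rw [K.mul (by cases b <;> simp [Coord.zQ H, one_mem]) (hWQ (hw v)), hwv]
        cases b <;> simp [K.vec_one, K.vec_z H]
      have hv' : K.vec ((if b' then z else 1) * w v') = v' := by
        rw [K.mul (by cases b' <;> simp [Coord.zQ H, one_mem]) (hWQ (hw v')), hwv]
        cases b' <;> simp [K.vec_one, K.vec_z H]
      obtain rfl : v = v' := Subtype.ext (by rw [← hv, ← hv']; exact congrArg K.vec h')
      have h'' := mul_right_cancel h'
      cases b <;> cases b' <;> simp_all [H.extra.ne_one, H.extra.ne_one.symm]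
    have := Nat.card_le_card_of_injective _ hinj
    rw [hWcard, Nat.card_prod, Nat.card_eq_fintype_card, Nat.card_eq_fintype_card, Fintype.card_bool,
      Fintype.card_coe] at this
    omega
  have hns : ¬ ∀ a ∈ U, ∀ b ∈ U, B a b = 0 := by
    intro h
    refine hQYna ⟨⟨fun a b => Subtype.ext (Subtype.ext ?_)⟩⟩
    have ha : ((a : ↥(centralizer ({z} : Set G))) : G) ∈ W := ⟨_, a.2, rfl⟩
    have hb : ((b : ↥(centralizer ({z} : Set G))) : G) ∈ W := ⟨_, b.2, rfl⟩
    have hc := K.conj (hWQ hb) (hWQ ha)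
    rw [if_pos (h _ (Finset.mem_filter.2 ⟨Finset.mem_univ _, _, hb, rfl⟩) _
      (Finset.mem_filter.2 ⟨Finset.mem_univ _, _, ha, rfl⟩))] at hc
    exact mul_inv_eq_iff_eq_mul.1 hc
  obtain ⟨K', T⟩ := K.exists_three H hy hyz hU hU4 hns
  refine ⟨y, K', T, by rw [← hgen, MonoidHom.map_zpowers]; rfl, fun r hr hry hconj hne => ?_⟩
  exact CfsgLib.MonsterType.Local.exists_conj_commute (w := 3) (by norm_num) hS (l := 3) (by norm_num) hy hyz hr
    hry.symm hconj hne

end CfsgLib.SuzType
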